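import Groth.Agent.ValTate.CLocTrunc
import Groth.Agent.S11540
import Groth.Agent.S11525
import Groth.Prelude.Def_FSch5
import Mathlib.RingTheory.Spectrum.Prime.RingHom

/-!
# Charts of admissible formal blowing-ups are admissible; formal spectra are formal systems
-/

universe u

open CategoryTheory AlgebraicGeometry

namespace Groth.Agent.FBlowLib

/-- A formal spectrum is a formal system. -/
theorem isFormal_spf {A : Type u} [CommRing A] (J : Ideal A) : (FSch.spf A J).IsFormal := fun n => by
  have hf := Ideal.Quotient.factor_surjective (Ideal.pow_le_pow_right (by omega : n + 1 ≤ n + 2) : J ^ (n + 2) ≤ J ^ (n + 1))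
  refine ⟨IsClosedImmersion.spec_of_surjective _ hf, ?_⟩
  refine Set.range_eq_univ.mp (Eq.trans (_root_.range_comap_of_surjective _ _ hf) ?_)
  refine Set.eq_univ_of_forall fun 𝔭 x hx => ?_
  obtain ⟨x, rfl⟩ := Ideal.Quotient.mk_surjective x
  have hx1 : x ∈ J ^ (n + 1) := by
    rw [← Ideal.Quotient.eq_zero_iff_mem]
    simpa [RingHom.mem_ker] using hx
  refine 𝔭.2.mem_of_pow_mem 2 ?_
  rw [← map_pow, (Ideal.Quotient.eq_zero_iff_mem).mpr]
  · exact 𝔭.asIdeal.zero_mem
  · exact Ideal.pow_le_pow_right (by omega : n + 2 ≤ (n + 1) * 2) ((pow_mul J (n + 1) 2).ge (Ideal.pow_mem_pow hx1 2))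

variable {R : Type u} [CommRing R] {I : Ideal R}

/-- Completions of algebras of finite type over topologically finite type algebras are topologically of finite
type. -/
theorem topFiniteType_completion (hR : AdicRing.IsBase R I) {A : Type u} [CommRing A] [Algebra R A]
    (hA : AdicRing.TopFiniteType R I A) (S : Type u) [CommRing S] [Algebra A S] [Algebra R S]
    [IsScalarTower R A S] [Algebra.FiniteType A S] :
    AdicRing.TopFiniteType R I (AdicCompletion (I.map (algebraMap R S)) S) := by
  have hI := ValTate.isBase_fg hR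
  set C := AdicCompletion (I.map (algebraMap R S)) S
  haveI : IsAdicComplete (I.map (algebraMap R A)) A := ValTate.isAdicComplete_topFiniteType I hR hA
  haveI : IsAdicComplete (I.map (algebraMap R C)) C := by
    have h := AdicCompletion.isAdicComplete_self (I.map (algebraMap R S)) (hI.map _)
    rw [Ideal.map_map, ← IsScalarTower.algebraMap_eq] at h
    exact h
  rw [ValTate.topFiniteType_iff_finiteType hI]
  have hA1 := (ValTate.topFiniteType_iff_finiteType hI).1 hA
  obtain ⟨hs, -⟩ := ValTate.completion_mk_pow (I.map (algebraMap R S)) (hI.map _) 1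
  have hK : ((I.map (algebraMap R S)).map (algebraMap S C)) ^ 1 = I.map (algebraMap R C) := by
    rw [pow_one, Ideal.map_map, ← IsScalarTower.algebraMap_eq]
  let χ : S →+* C ⧸ I.map (algebraMap R C) :=
    (Ideal.quotEquivOfEq hK).toRingHom.comp ((Ideal.Quotient.mk _).comp (algebraMap S C))
  have hχ : Function.Surjective χ := (Ideal.quotEquivOfEq hK).surjective.comp hs
  have hle : I.map (algebraMap R A) ≤ RingHom.ker (χ.comp (algebraMap A S)) := by
    rw [Ideal.map_le_iff_le_comap]
    intro a ha
    rw [Ideal.mem_comap, RingHom.mem_ker, RingHom.comp_apply, ← IsScalarTower.algebraMap_apply]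
    change Ideal.Quotient.mk (I.map (algebraMap R C)) (algebraMap S C (algebraMap R S a)) = 0
    rw [← IsScalarTower.algebraMap_apply, Ideal.Quotient.eq_zero_iff_mem]
    exact Ideal.mem_map_of_mem _ ha
  let ψ : A ⧸ I.map (algebraMap R A) →+* C ⧸ I.map (algebraMap R C) :=
    Ideal.Quotient.lift _ (χ.comp (algebraMap A S)) fun a ha => hle ha
  have hψ : ψ.FiniteType := by
    refine RingHom.FiniteType.of_comp_finiteType (f := Ideal.Quotient.mk (I.map (algebraMap R A))) ?_
    rw [show ψ.comp (Ideal.Quotient.mk (I.map (algebraMap R A))) = χ.comp (algebraMap A S) from RingHom.ext fun _ => rfl]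
    exact (RingHom.FiniteType.of_surjective χ hχ).comp (RingHom.finiteType_algebraMap.2 inferInstance)
  rw [← RingHom.finiteType_algebraMap]
  have h1 : algebraMap R (C ⧸ I.map (algebraMap R C)) = ψ.comp (algebraMap R (A ⧸ I.map (algebraMap R A))) :=
    RingHom.ext fun a => by
      change _ = χ (algebraMap A S (algebraMap R A a))
      rw [← IsScalarTower.algebraMap_apply]
      rfl
  rw [h1]
  exact hψ.comp (RingHom.finiteType_algebraMap.2 hA1)

variable {A : Type u} [CommRing A] [Algebra R A] {r : ℕ} (f : Fin (r + 1) → A) (i : Fin (r + 1))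

set_option maxHeartbeats 800000 in
/-- The charts are admissible. -/
theorem admissible_chartAdm (hR : AdicRing.IsBase R I) (hA : AdicRing.Admissible R I A) (k : ℕ)
    (hopen : (I ^ k).map (algebraMap R A) ≤ Ideal.span (Set.range f)) :
    AdicRing.Admissible R I (AdicRing.chartAdm I f i) := by
  have hI := ValTate.isBase_fg hR
  obtain ⟨⟨n₀, φ₀, hφ₀, hfg₀⟩, hT⟩ := hA
  have hC := topFiniteType_completion hR (A := A) ⟨n₀, φ₀, hφ₀⟩ (AdicRing.chartAlg f i)
  obtain ⟨n, φ, hφ⟩ := hC
  have hQ : AdicRing.TopFiniteType R I (AdicRing.chartAdm I f i) :=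
    ⟨n, (Ideal.Quotient.mkₐ R _).comp φ, (Ideal.Quotient.mkₐ_surjective R _).comp hφ⟩
  have htor : ∀ x : AdicRing.chartCompl I f i, Ideal.Quotient.mk (⨆ n : ℕ, Submodule.torsionBy
      (AdicRing.chartCompl I f i) (AdicRing.chartCompl I f i)
      (algebraMap A (AdicRing.chartCompl I f i) (f i) ^ n) : Ideal (AdicRing.chartCompl I f i)) x = 0 ↔
      ∃ n : ℕ, algebraMap A (AdicRing.chartCompl I f i) (f i) ^ n * x = 0 := fun x => by
    rw [Ideal.Quotient.eq_zero_iff_mem, Submodule.mem_iSup_of_directed]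
    · simp [Submodule.mem_torsionBy_iff]
    · intro a b
      exact ⟨max a b, Submodule.torsionBy_le_torsionBy_of_dvd _ _ (pow_dvd_pow _ (le_max_left a b)),
        Submodule.torsionBy_le_torsionBy_of_dvd _ _ (pow_dvd_pow _ (le_max_right a b))⟩
  have hN : AdicRing.NoPowTorsion I (AdicRing.chartAdm I f i) := by
    intro y m hy
    obtain ⟨x, rfl⟩ := Ideal.Quotient.mk_surjective y
    obtain ⟨s, a, ha⟩ := Submodule.fg_iff_exists_fin_generating_family.1 (hI.pow (n := m))
    have h1 : ∀ l, ∃ j : ℕ, algebraMap A (AdicRing.chartCompl I f i) (f i) ^ j * (a l • x) = 0 :=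
      fun l => (htor _).mp (hy (a l) (ha ▸ Submodule.subset_span ⟨l, rfl⟩))
    choose j hj using h1
    obtain ⟨N, hN⟩ : ∃ N, ∀ l, j l ≤ N := ⟨Finset.univ.sup j, fun l => Finset.le_sup (Finset.mem_univ l)⟩
    set c := algebraMap A (AdicRing.chartCompl I f i) (f i)
    have h2 : ∀ b ∈ I ^ m, b • (c ^ N * x) = 0 := by
      intro b hb
      rw [← ha] at hb
      induction hb using Submodule.span_induction with
      | mem b hb =>
        obtain ⟨l, rfl⟩ := hb
        rw [← mul_smul_comm, ← Nat.sub_add_cancel (hN l), pow_add, mul_assoc, hj l, mul_zero]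
      | zero => exact zero_smul R _
      | add b d _ _ hb hd => rw [add_smul, hb, hd, add_zero]
      | smul d b _ hb => rw [smul_assoc, hb, smul_zero]
    obtain ⟨N', hN'⟩ := (S11540.result R I hR A ⟨⟨n₀, φ₀, hφ₀, hfg₀⟩, hT⟩ r f k hopen i _).mp ⟨m, h2⟩
    exact (htor x).mpr ⟨N' + N, by rw [pow_add, mul_assoc, hN']⟩
  exact ⟨S11525.result R I hR _ hQ hN, hN⟩

end Groth.Agent.FBlowLib
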