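import Groth.Agent.FBlowLib.Func
import Groth.Agent.VarietyLib.FiniteClosedCover
import Groth.Agent.ValTate.Presentation
import Groth.Agent.S2291
import Mathlib.AlgebraicGeometry.Morphisms.FinitePresentation

/-!
# Affine pieces of a formal scheme adic over `Spf R`

For an affine open `V` of the common space, `O_𝔛(V)` is `I`-adically complete with truncations the rings of
the levels (`proj_surjective`, `ker_proj`, `isAdicComplete_sec`), admissible in the admissible case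
(`admissible_sec`), and `𝔛|V` is its formal spectrum (`exists_chartSys`).
-/

universe u

open CategoryTheory CategoryTheory.Limits TopologicalSpace Opposite AlgebraicGeometry

namespace Groth.Agent.FBlowLib

variable {𝔛 : FSch.Sys.{u}} (h : 𝔛.IsFormal) {R : Type u} [CommRing R] {I : Ideal R} (p : 𝔛 ⟶ FSch.spf R I)

/-- The family `X n ⟶ Spec R`. -/
noncomputable def rS (n : ℕ) : 𝔛.X n ⟶ Spec (CommRingCat.of R) :=
  (p : FSch.Hom 𝔛 (FSch.spf R I)).app n ≫ FSch.spfToSpec R I n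

theorem rS_comm (n : ℕ) : 𝔛.ι n ≫ rS p (n + 1) = rS p n := by
  rw [rS, rS, ← Category.assoc, ← (p : FSch.Hom 𝔛 (FSch.spf R I)).comm n, Category.assoc,
    FSch.spfToSpec_comm]

/-- The structure map `R → O_𝔛(V)`. -/
noncomputable def baseHom (V : (𝔛.X 0).Opens) : R →+* Sec 𝔛 h V := rho 𝔛 h (rS p) (rS_comm p) V

theorem res_baseHom {V V' : (𝔛.X 0).Opens} (i : V' ≤ V) (a : R) :
    res 𝔛 h i (baseHom h p V a) = baseHom h p V' a := res_rho ..

theorem isAffineOpen_lvU (n : ℕ) {V : (𝔛.X 0).Opens} (hV : IsAffineOpen V) :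
    IsAffineOpen (𝔛.lvU h n V) := by
  haveI : IsClosedImmersion (𝔛.toX n) := FSch.Sys.toX_isClosedImmersion 𝔛 h n
  have he : (𝔛.toX n) ⁻¹ᵁ (𝔛.lvU h n V) = V := by
    change (Opens.map ((𝔛.toX n).base ≫ 𝔛.gInv h n)).obj V = V
    rw [FSch.Sys.toX_base_gInv]
    rfl
  haveI : IsAffine ((𝔛.toX n) ⁻¹ᵁ (𝔛.lvU h n V)).toScheme := by rw [he]; exact hV
  refine VarietyLib.isAffine_of_surjective_closedImmersion ((𝔛.toX n) ∣_ (𝔛.lvU h n V)) fun y => ?_
  obtain ⟨x, hx⟩ := FSch.Sys.toX_surjective 𝔛 h n y.1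
  exact ⟨⟨x, show (𝔛.toX n) x ∈ 𝔛.lvU h n V from hx ▸ y.2⟩, Subtype.ext ((morphismRestrict_base_coe _ _ _).trans hx)⟩

variable {V : (𝔛.X 0).Opens} (hV : IsAffineOpen V)

include hV in
theorem transition_surjective (n : ℕ) :
    Function.Surjective ((𝔛.ι n).appLE (𝔛.lvU h (n + 1) V) (𝔛.lvU h n V) (𝔛.lvU_le h n V)) := by
  haveI := (h n).1
  have h1 : Function.Surjective ((𝔛.ι n).app (𝔛.lvU h (n + 1) V)) :=
    (𝔛.ι n).app_surjective _ (isAffineOpen_lvU h (n + 1) hV)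
  haveI : IsIso ((𝔛.X n).presheaf.map (homOfLE (𝔛.lvU_le h n V)).op) := by
    rw [show (homOfLE (𝔛.lvU_le h n V)) = eqToHom (𝔛.lvU_succ h n V).symm from Subsingleton.elim _ _]
    infer_instance
  intro y
  obtain ⟨z, rfl⟩ := (ConcreteCategory.bijective_of_isIso ((𝔛.X n).presheaf.map (homOfLE (𝔛.lvU_le h n V)).op)).2 y
  obtain ⟨w, rfl⟩ := h1 z
  exact ⟨w, rfl⟩

variable (hp : FSch.IsAdicHom p)

include hp hV in
theorem ker_transition (n : ℕ) :
    RingHom.ker ((𝔛.ι n).appLE (𝔛.lvU h (n + 1) V) (𝔛.lvU h n V) (𝔛.lvU_le h n V)).hom =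
      (I ^ (n + 1)).map ((proj 𝔛 h (n + 1) V).comp (baseHom h p V)) := by
  haveI := (h n).1
  let W : (𝔛.X (n + 1)).affineOpens := ⟨_, isAffineOpen_lvU h (n + 1) hV⟩
  have h1 : RingHom.ker ((𝔛.ι n).appLE (𝔛.lvU h (n + 1) V) (𝔛.lvU h n V) (𝔛.lvU_le h n V)).hom =
      RingHom.ker ((𝔛.ι n).app W.1).hom := by
    haveI : IsIso ((𝔛.X n).presheaf.map (homOfLE (𝔛.lvU_le h n V)).op) := by
      rw [show (homOfLE (𝔛.lvU_le h n V)) = eqToHom (𝔛.lvU_succ h n V).symm from Subsingleton.elim _ _]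
      infer_instance
    rw [Scheme.Hom.appLE, CommRingCat.hom_comp]
    exact RingHom.ker_comp_of_injective _ (ConcreteCategory.bijective_of_isIso _).1
  haveI : IsClosedImmersion (FSch.spfToSpec R I n) :=
    IsClosedImmersion.spec_of_surjective _ Ideal.Quotient.mk_surjective
  haveI : IsClosedImmersion (FSch.spfToSpec R I (n + 1)) :=
    IsClosedImmersion.spec_of_surjective _ Ideal.Quotient.mk_surjective
  have hι : ((FSch.spf R I).ι n).ker = (FSch.idealSpec R I ^ (n + 1)).comap (FSch.spfToSpec R I (n + 1)) := by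
    haveI : IsClosedImmersion ((FSch.spf R I).ι n) :=
      IsClosedImmersion.spec_of_surjective _ (Ideal.Quotient.factor_surjective (Ideal.pow_le_pow_right (by omega : n + 1 ≤ n + 2)))
    refine (FSchLib.ker_eq_comap_ker_comp ((FSch.spf R I).ι n) (FSch.spfToSpec R I (n + 1))).trans ?_
    rw [FSch.spfToSpec_comm]
    congr 1
    exact FSchLib.ker_specQuot _ I n
  haveI : IsClosedImmersion ((FSch.spf R I).ι n) :=
    IsClosedImmersion.spec_of_surjective _ (Ideal.Quotient.factor_surjective (Ideal.pow_le_pow_right (by omega : n + 1 ≤ n + 2)))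
  have h2 : (𝔛.ι n).ker = (FSch.idealSpec R I ^ (n + 1)).comap (rS p (n + 1)) := by
    rw [FSchLib.ker_of_isPullback (hp n), hι, ← Scheme.IdealSheafData.comap_comp]
    rfl
  rw [h1, ← Scheme.Hom.ker_apply, h2, ← FSchLib.idealSpec_pow,
    FSchLib.ideal_comap_eq_map (rS p (n + 1)) _ W ⟨⊤, isAffineOpen_top _⟩ le_top,
    FSchLib.idealSpec_ideal_top, Ideal.map_map]
  congr 1
  exact RingHom.ext fun a => (proj_pull 𝔛 h (rS p) (rS_comm p) (le_top : V ≤ rS p 0 ⁻¹ᵁ ⊤) (n + 1) _).symm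

variable (hI : I.FG)

include hp hV hI in
theorem proj_props :
    Function.Surjective (proj 𝔛 h 0 V) ∧
      (∀ n, Function.Surjective (proj 𝔛 h n V) ∧
        RingHom.ker (proj 𝔛 h n V) = (I ^ (n + 1)).map (baseHom h p V)) ∧
      IsAdicComplete (I.map (baseHom h p V)) (Sec 𝔛 h V) := by
  letI alg : ∀ n, Algebra R Γ(𝔛.X n, 𝔛.lvU h n V) := fun n =>
    ((proj 𝔛 h n V).comp (baseHom h p V)).toAlgebra
  letI algA : Algebra R (Sec 𝔛 h V) := (baseHom h p V).toAlgebra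
  let f : ∀ n, Γ(𝔛.X (n + 1), 𝔛.lvU h (n + 1) V) →ₗ[R] Γ(𝔛.X n, 𝔛.lvU h n V) := fun n =>
    (AlgHom.toLinearMap
      { ((𝔛.ι n).appLE (𝔛.lvU h (n + 1) V) (𝔛.lvU h n V) (𝔛.lvU_le h n V)).hom with
        commutes' := fun a => proj_succ 𝔛 h n V (baseHom h p V a) })
  let π : ∀ n, Sec 𝔛 h V →ₗ[R] Γ(𝔛.X n, 𝔛.lvU h n V) := fun n =>
    AlgHom.toLinearMap { proj 𝔛 h n V with commutes' := fun a => rfl }
  have hsm : ∀ {M : Type u} [CommRing M] [Algebra R M] (k : ℕ) (x : M),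
      x ∈ I ^ k • (⊤ : Submodule R M) ↔ x ∈ (I ^ k).map (algebraMap R M) := fun k x => by
    rw [Ideal.smul_top_eq_map]; rfl
  have hres := S2291.result R I hI (fun n => Γ(𝔛.X n, 𝔛.lvU h n V)) f
    (fun n => transition_surjective h hV n) (fun n => SetLike.ext fun x => by
      rw [hsm (M := Γ(𝔛.X (n + 1), 𝔛.lvU h (n + 1) V)) (n + 1) x, LinearMap.mem_ker]
      exact SetLike.ext_iff.mp (ker_transition h p hV hp n) x)
    (Sec 𝔛 h V) π (fun n => LinearMap.ext fun s => proj_succ 𝔛 h n V s)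
    (fun s hs => sec_ext 𝔛 h fun n => (hs n).trans (map_zero _).symm)
    (fun y hy => exists_sec 𝔛 h y hy)
  refine ⟨(hres.2.1 0).1, fun n => ⟨(hres.2.1 n).1, SetLike.ext fun x => ?_⟩, ?_⟩
  · rw [RingHom.mem_ker]
    exact (LinearMap.mem_ker (f := π n)).symm.trans
      ((SetLike.ext_iff.mp (hres.2.1 n).2 x).trans (hsm (M := Sec 𝔛 h V) (n + 1) x))
  · exact (IsAdicComplete.map_algebraMap_iff (S := Sec 𝔛 h V) (M := Sec 𝔛 h V) (I := I)).mpr hres.1

section Admissible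

variable (hfp : ∀ n, LocallyOfFinitePresentation ((p : FSch.Hom 𝔛 (FSch.spf R I)).app n))
  (htf : ∀ (U : (𝔛.X 0).Opens) (s : (𝔛.Osh h).obj.obj (Opposite.op U)),
      (∀ a ∈ (FBlow.IdealSh.ker (𝔛.OshProj h 0)).sect U, a * s = 0) → s = 0)

include hp hV hI htf in
theorem noPowTorsion_sec :
    letI : Algebra R (Sec 𝔛 h V) := (baseHom h p V).toAlgebra
    AdicRing.NoPowTorsion I (Sec 𝔛 h V) := by
  letI : Algebra R (Sec 𝔛 h V) := (baseHom h p V).toAlgebra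
  intro x n
  induction n generalizing x with
  | zero => exact fun hx => by simpa using hx 1 (by simp)
  | succ n ih =>
    intro hx
    refine ih x fun a ha => htf V _ fun b hb => ?_
    have hb' : b ∈ I.map (baseHom h p V) := by
      have := ((proj_props h p hV hp hI).2.1 0).2
      rw [pow_one] at this
      rw [← this]
      exact hb
    clear hb
    induction hb' using Submodule.span_induction with
    | mem b hb' =>
      obtain ⟨c, hc, rfl⟩ := hb'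
      have := hx (a * c) (by rw [pow_succ]; exact Ideal.mul_mem_mul ha hc)
      rw [Algebra.smul_def, map_mul] at this
      rw [Algebra.smul_def, ← this]
      change baseHom h p V c * (baseHom h p V a * x) = baseHom h p V a * baseHom h p V c * x
      ring
    | zero => exact zero_mul _
    | add b₁ b₂ _ _ h₁ h₂ => rw [add_mul, h₁, h₂, add_zero]
    | smul r b _ h₁ => rw [smul_eq_mul, mul_assoc, h₁, mul_zero]

include hp hV hI hfp in
theorem topFinitePresentation_sec (hR : AdicRing.IsBase R I) :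
    letI : Algebra R (Sec 𝔛 h V) := (baseHom h p V).toAlgebra
    AdicRing.TopFinitePresentation R I (Sec 𝔛 h V) := by
  letI : Algebra R (Sec 𝔛 h V) := (baseHom h p V).toAlgebra
  haveI : IsAdicComplete (I.map (algebraMap R (Sec 𝔛 h V))) (Sec 𝔛 h V) := (proj_props h p hV hp hI).2.2
  refine (ValTate.topFinitePresentation_iff_trunc hR).mpr fun n => ?_
  obtain ⟨hs, hk⟩ := (proj_props h p hV hp hI).2.1 n
  let e : (Sec 𝔛 h V) ⧸ (I ^ (n + 1)).map (algebraMap R (Sec 𝔛 h V)) ≃+* Γ(𝔛.X n, 𝔛.lvU h n V) :=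
    (Ideal.quotEquivOfEq hk.symm).trans (RingHom.quotientKerEquivOfSurjective hs)
  have h1 := ((p : FSch.Hom 𝔛 (FSch.spf R I)).app n).finitePresentation_appLE
    (isAffineOpen_top (Spec (CommRingCat.of (R ⧸ I ^ (n + 1))))) (isAffineOpen_lvU h n hV) (le_top (a := 𝔛.lvU h n V))
  let γ : R ⧸ I ^ (n + 1) ≃+* Γ(Spec (CommRingCat.of (R ⧸ I ^ (n + 1))), ⊤) :=
    (Scheme.ΓSpecIso (CommRingCat.of (R ⧸ I ^ (n + 1)))).commRingCatIsoToRingEquiv.symm
  have h2 : (e.symm.toRingHom.comp ((((p : FSch.Hom 𝔛 (FSch.spf R I)).app n).appLE ⊤ (𝔛.lvU h n V) le_top).hom.comp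
      γ.toRingHom)).FinitePresentation :=
    (RingHom.FinitePresentation.of_bijective e.symm.bijective).comp
      (h1.comp (RingHom.FinitePresentation.of_bijective γ.bijective))
  refine (ValTate.finitePresentation_quotientMap_iff _ (hI.pow)).mp ?_
  convert h2 using 1
  refine Ideal.Quotient.ringHom_ext (RingHom.ext fun a => e.injective ?_)
  simp only [RingHom.comp_apply, RingEquiv.toRingHom_eq_coe, RingHom.coe_coe, RingEquiv.apply_symm_apply]
  refine Eq.trans ?_ (Eq.trans (proj_pull 𝔛 h (rS p) (rS_comm p) (le_top : V ≤ rS p 0 ⁻¹ᵁ ⊤) n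
    ((Scheme.ΓSpecIso (CommRingCat.of R)).inv a)) ?_)
  · rfl
  · refine ConcreteCategory.congr_hom (?_ : (Scheme.ΓSpecIso (CommRingCat.of R)).inv ≫ (rS p n).appLE ⊤ _ le_top =
      CommRingCat.ofHom (Ideal.Quotient.mk (I ^ (n + 1))) ≫
        (Scheme.ΓSpecIso (CommRingCat.of (R ⧸ I ^ (n + 1)))).inv ≫
          ((p : FSch.Hom 𝔛 (FSch.spf R I)).app n).appLE ⊤ (𝔛.lvU h n V) le_top) a
    refine (congrArg ((Scheme.ΓSpecIso (CommRingCat.of R)).inv ≫ ·)
      (FSch.appLE_comp_appLE_of_eq _ (FSch.spfToSpec R I n) (rS p n) rfl ⊤ ⊤ _ le_top le_top le_top).symm).trans ?_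
    refine (Category.assoc _ _ _).symm.trans (Eq.trans (congrArg (· ≫ _) ?_) (Category.assoc _ _ _))
    refine Eq.trans ?_ (Scheme.ΓSpecIso_inv_naturality _).symm
    rw [Scheme.Hom.appTop, Scheme.Hom.app_eq_appLE]
    rfl

end Admissible

include hp hV hI in
/-- `𝔛|V` is the formal spectrum of `O_𝔛(V)`. -/
theorem exists_chartSys
    (hF : (FSch.spf (Sec 𝔛 h V) (I.map (baseHom h p V))).IsFormal) :
    ∃ θ : FSch.spf (Sec 𝔛 h V) (I.map (baseHom h p V)) ⟶ 𝔛,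
      (∀ n, IsOpenImmersion ((θ : FSch.Hom _ 𝔛).app n)) ∧ FSch.IsAdicHom θ ∧
      Set.range ((θ : FSch.Hom _ 𝔛).app 0).base = (V : Set (𝔛.X 0)) ∧
      ∃ e : (⊤ : ((FSch.spf (Sec 𝔛 h V) (I.map (baseHom h p V))).X 0).Opens) ≤
          (θ : FSch.Hom _ 𝔛).app 0 ⁻¹ᵁ V,
        hpull h θ hF e = (pull _ hF (FSch.spfToSpec _ _) (FSch.spfToSpec_comm _ _) (W := ⊤) le_top).comp
          (Scheme.ΓSpecIso (CommRingCat.of (Sec 𝔛 h V))).inv.hom := by
  obtain ⟨-, hpp, -⟩ := proj_props h p hV hp hI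
  let J := I.map (baseHom h p V)
  have hψK : ∀ n, J ^ (n + 1) ≤ RingHom.ker ((proj 𝔛 h n V).comp (RingHom.id (Sec 𝔛 h V))) := fun n => by
    rw [RingHom.comp_id, (hpp n).2, Ideal.map_pow]
  obtain ⟨v, hv⟩ := exists_toSpf J h (RingHom.id (Sec 𝔛 h V)) hψK
  haveI : ∀ n, IsClosedImmersion (FSch.spfToSpec (Sec 𝔛 h V) J n) := fun n =>
    IsClosedImmersion.spec_of_surjective _ Ideal.Quotient.mk_surjective
  let e : ∀ n, (Sec 𝔛 h V) ⧸ J ^ (n + 1) →+* Γ(𝔛.X n, 𝔛.lvU h n V) := fun n =>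
    Ideal.Quotient.lift _ (proj 𝔛 h n V) fun a ha => RingHom.mem_ker.mp (by
      rw [(hpp n).2, Ideal.map_pow]; exact ha)
  have he : ∀ n, Function.Bijective (e n) := fun n => by
    refine ⟨RingHom.lift_injective_of_ker_le_ideal _ _ ?_, ?_⟩
    · rw [(hpp n).2, Ideal.map_pow]
    · intro y
      obtain ⟨x, rfl⟩ := (hpp n).1 y
      exact ⟨Ideal.Quotient.mk _ x, rfl⟩
  have hviso : ∀ n, IsIso ((v : FSch.Hom (𝔛.restrictOpen h V) (FSch.spf (Sec 𝔛 h V) J)).app n) := fun n => by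
    haveI : IsAffine (𝔛.lvU h n V).toScheme := isAffineOpen_lvU h n hV
    haveI : IsIso (CommRingCat.ofHom (e n)) :=
      (ConcreteCategory.isIso_iff_bijective _).mpr (he n)
    have h1 : (v : FSch.Hom (𝔛.restrictOpen h V) (FSch.spf (Sec 𝔛 h V) J)).app n =
        (𝔛.lvU h n V).toSpecΓ ≫ Spec.map (CommRingCat.ofHom (e n)) := by
      refine (cancel_mono (FSch.spfToSpec (Sec 𝔛 h V) J n)).mp ?_
      refine (hv n).trans ?_
      refine Eq.trans ?_ (Category.assoc _ _ _).symm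
      exact congrArg ((𝔛.lvU h n V).toSpecΓ ≫ ·)
        ((congrArg Spec.map (CommRingCat.hom_ext (RingHom.ext fun _ => rfl))).trans
          (Spec.map_comp (CommRingCat.ofHom (Ideal.Quotient.mk (J ^ (n + 1)))) (CommRingCat.ofHom (e n))))
    haveI : IsIso (𝔛.lvU h n V).toSpecΓ := by
      rw [Scheme.Opens.toSpecΓ]; infer_instance
    rw [h1]
    exact inferInstanceAs (IsIso ((𝔛.lvU h n V).toSpecΓ ≫ Spec.map (CommRingCat.ofHom (e n))))
  let w : ∀ n, (FSch.spf (Sec 𝔛 h V) J).X n ⟶ (𝔛.restrictOpen h V).X n := fun n =>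
    haveI := hviso n
    inv ((v : FSch.Hom (𝔛.restrictOpen h V) (FSch.spf (Sec 𝔛 h V) J)).app n)
  have hwv : ∀ n, w n ≫ (v : FSch.Hom (𝔛.restrictOpen h V) (FSch.spf (Sec 𝔛 h V) J)).app n = 𝟙 _ := fun n => by
    haveI := hviso n
    exact IsIso.inv_hom_id _
  let W : FSch.spf (Sec 𝔛 h V) J ⟶ 𝔛.restrictOpen h V := ⟨w, fun n => by
    haveI := hviso (n + 1)
    rw [← cancel_mono ((v : FSch.Hom (𝔛.restrictOpen h V) (FSch.spf (Sec 𝔛 h V) J)).app (n + 1)), Category.assoc,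
      Category.assoc, hwv, ← (v : FSch.Hom (𝔛.restrictOpen h V) (FSch.spf (Sec 𝔛 h V) J)).comm n, ← Category.assoc, hwv]
    simp⟩
  haveI : ∀ n, IsIso (w n) := fun n => by
    haveI := hviso n
    exact inferInstanceAs (IsIso (inv _))
  let θ : FSch.spf (Sec 𝔛 h V) J ⟶ 𝔛 := W ≫ 𝔛.restrictOpenι h V
  have hθ : ∀ n, (θ : FSch.Hom (FSch.spf (Sec 𝔛 h V) J) 𝔛).app n = w n ≫ (𝔛.lvU h n V).ι := fun n => rfl
  have hW : FSch.IsAdicHom W := fun n => IsPullback.of_vert_isIso ⟨(W : FSch.Hom _ _).comm n |>.symm⟩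
  have h0 : ∀ z, ((θ : FSch.Hom (FSch.spf (Sec 𝔛 h V) J) 𝔛).app 0).base z ∈ V := fun z => by
    rw [hθ]
    have h1 : (𝔛.gInv h 0).hom ((w 0).base z).1 ∈ V := ((w 0).base z).2
    have h2 : (𝔛.gInv h 0).hom ((w 0).base z).1 = ((w 0).base z).1 :=
      ConcreteCategory.congr_hom (𝔛.toX_base_gInv h 0) _
    rw [h2] at h1
    exact h1
  refine ⟨θ, fun n => MorphismProperty.comp_mem @IsOpenImmersion (w n) (𝔛.lvU h n V).ι
    (show IsOpenImmersion (w n) from inferInstance) (show IsOpenImmersion (Scheme.Opens.ι (𝔛.lvU h n V)) from inferInstance),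
    isAdicHom_comp hW (FSchLib.isAdicHom_restrictOpenι h V), Set.ext fun x => ⟨?_, fun hx => ?_⟩,
    fun z _ => h0 z, ?_⟩
  · rintro ⟨z, rfl⟩; exact h0 z
  · have hx0 : x ∈ 𝔛.lvU h 0 V := by
      change (𝔛.gInv h 0).hom x ∈ V
      have h2 : (𝔛.gInv h 0).hom x = x := ConcreteCategory.congr_hom (𝔛.toX_base_gInv h 0) x
      rw [h2]; exact hx
    haveI := hviso 0
    refine ⟨((v : FSch.Hom (𝔛.restrictOpen h V) (FSch.spf (Sec 𝔛 h V) J)).app 0).base ⟨x, hx0⟩, ?_⟩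
    have : (v : FSch.Hom (𝔛.restrictOpen h V) (FSch.spf (Sec 𝔛 h V) J)).app 0 ≫ w 0 = 𝟙 _ := IsIso.hom_inv_id _
    have h3 := ConcreteCategory.congr_hom (congrArg (fun m => (m ≫ (𝔛.lvU h 0 V).ι).base) this) ⟨x, hx0⟩
    exact h3
  refine RingHom.ext fun s => sec_ext _ hF fun n => ?_
  have e' : (⊤ : ((FSch.spf (Sec 𝔛 h V) J).X n).Opens) ≤ (θ : FSch.Hom (FSch.spf (Sec 𝔛 h V) J) 𝔛).app n ⁻¹ᵁ 𝔛.lvU h n V :=
    fun z _ => ((w n).base z).2
  haveI : IsAffine ((FSch.spf (Sec 𝔛 h V) J).X n) := inferInstanceAs (IsAffine (Spec _))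
  have h1 : toSpecOf (⊤ : ((FSch.spf (Sec 𝔛 h V) J).X n).Opens)
      (CommRingCat.ofHom (proj 𝔛 h n V) ≫ ((θ : FSch.Hom (FSch.spf (Sec 𝔛 h V) J) 𝔛).app n).appLE (𝔛.lvU h n V) ⊤ e') =
      toSpecOf ⊤ ((Scheme.ΓSpecIso (CommRingCat.of (Sec 𝔛 h V))).inv ≫ (FSch.spfToSpec (Sec 𝔛 h V) J n).appLE ⊤ ⊤ le_top) := by
    rw [← resLE_toSpecOf, ← ι_comp_eq_toSpecOf]
    have h2 : ((θ : FSch.Hom (FSch.spf (Sec 𝔛 h V) J) 𝔛).app n).resLE (𝔛.lvU h n V) ⊤ e' =
        (⊤ : ((FSch.spf (Sec 𝔛 h V) J).X n).Opens).ι ≫ w n := by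
      refine (cancel_mono (𝔛.lvU h n V).ι).mp ?_
      exact (Scheme.Hom.resLE_comp_ι _ _).trans (Category.assoc _ _ _).symm
    rw [h2]
    refine (Category.assoc _ _ _).trans (congrArg ((⊤ : ((FSch.spf (Sec 𝔛 h V) J).X n).Opens).ι ≫ ·) ?_)
    have h3 := congrArg (w n ≫ ·) (hv n)
    rw [← Category.assoc, hwv, Category.id_comp, RingHom.comp_id] at h3
    exact h3.symm
  haveI : IsAffine (⊤ : ((FSch.spf (Sec 𝔛 h V) J).X n).Opens).toScheme := isAffineOpen_top _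
  have h4 : CommRingCat.ofHom (proj 𝔛 h n V) ≫ ((θ : FSch.Hom (FSch.spf (Sec 𝔛 h V) J) 𝔛).app n).appLE (𝔛.lvU h n V) ⊤ e' =
      (Scheme.ΓSpecIso (CommRingCat.of (Sec 𝔛 h V))).inv ≫ (FSch.spfToSpec (Sec 𝔛 h V) J n).appLE ⊤ ⊤ le_top := by
    haveI : IsIso (⊤ : ((FSch.spf (Sec 𝔛 h V) J).X n).Opens).toSpecΓ := by
      rw [Scheme.Opens.toSpecΓ]; infer_instance
    exact Spec.map_injective ((cancel_epi (⊤ : ((FSch.spf (Sec 𝔛 h V) J).X n).Opens).toSpecΓ).mp h1)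
  exact (proj_hpull h θ hF _ n s).trans ((ConcreteCategory.congr_hom h4 s).trans
    (proj_pull _ hF (FSch.spfToSpec (Sec 𝔛 h V) J) (FSch.spfToSpec_comm (Sec 𝔛 h V) J) (W := ⊤) (V := ⊤) le_top n _).symm)

end Groth.Agent.FBlowLib
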