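import Groth.Agent.FBlowLib.OpenSub
import Groth.Agent.FSchLib.Completion
import Groth.Prelude.Def_W4bk4boschfrg79

/-!
# Maps out of the chart algebras of an admissible formal blowing-up into sections of a formal system

`existsUnique_chartHom`: if `c = f i` is a regular generator of `(f)·O_𝔛` over `U` and `I^(n+1)` dies on level `n`, there is
exactly one ring map `chartAdm I f i → O_𝔛(U)` over `A` killing the powers of `I` levelwise.
-/

universe u

open CategoryTheory CategoryTheory.Limits TopologicalSpace Opposite AlgebraicGeometry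

namespace Groth.Agent.FBlowLib

/-- Maps out of an adic completion killing a power of the ideal are determined on the ring. -/
theorem completion_ringHom_ext {S T : Type u} [CommRing S] [CommRing T] (K : Ideal S) (hK : K.FG) (n : ℕ)
    (φ ψ : AdicCompletion K S →+* T)
    (hφ : (K.map (algebraMap S (AdicCompletion K S))) ^ n ≤ RingHom.ker φ)
    (hψ : (K.map (algebraMap S (AdicCompletion K S))) ^ n ≤ RingHom.ker ψ)
    (h : ∀ s, φ (algebraMap S _ s) = ψ (algebraMap S _ s)) : φ = ψ := by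
  refine RingHom.ext fun x => ?_
  obtain ⟨s, hs⟩ := Ideal.Quotient.mk_surjective (AdicCompletion.evalₐ K n x)
  have hd : x - algebraMap S _ s ∈ RingHom.ker (AdicCompletion.evalₐ K n).toRingHom := by
    rw [RingHom.mem_ker]
    change AdicCompletion.evalₐ K n (x - algebraMap S _ s) = 0
    rw [map_sub, FSchLib.evalₐ_algebraMap, hs, sub_self]
  rw [FSchLib.ker_evalₐ K hK] at hd
  have h1 := RingHom.mem_ker.mp (hφ hd)
  have h2 := RingHom.mem_ker.mp (hψ hd)
  rw [map_sub, sub_eq_zero] at h1 h2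
  rw [h1, h2, h]

section Chart

variable {R A : Type u} [CommRing R] [CommRing A] [Algebra R A] (I : Ideal R) {r : ℕ} (f : Fin (r + 1) → A)
  (i : Fin (r + 1))

theorem mem_torsion_iff (x : AdicRing.chartCompl I f i) :
    Ideal.Quotient.mk (⨆ n : ℕ, Submodule.torsionBy (AdicRing.chartCompl I f i) (AdicRing.chartCompl I f i)
      (algebraMap A (AdicRing.chartCompl I f i) (f i) ^ n) : Ideal (AdicRing.chartCompl I f i)) x = 0 ↔
      ∃ n : ℕ, algebraMap A (AdicRing.chartCompl I f i) (f i) ^ n * x = 0 := by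
  rw [Ideal.Quotient.eq_zero_iff_mem]
  refine (Submodule.mem_iSup_of_directed _ ?_).trans ?_
  · refine Monotone.directed_le fun m n hmn y hy => ?_
    rw [Submodule.mem_torsionBy_iff] at hy ⊢
    obtain ⟨k, rfl⟩ := Nat.exists_eq_add_of_le hmn
    rw [pow_add, mul_comm, mul_smul, hy, smul_zero]
  · simp only [Submodule.mem_torsionBy_iff, smul_eq_mul]

theorem chartAdm_regular : algebraMap A (AdicRing.chartAdm I f i) (f i) ∈
    nonZeroDivisors (AdicRing.chartAdm I f i) := by
  refine mem_nonZeroDivisors_iff_right.mpr fun x hx => ?_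
  obtain ⟨x, rfl⟩ := Ideal.Quotient.mk_surjective x
  change Ideal.Quotient.mk _ x * Ideal.Quotient.mk _ (algebraMap A (AdicRing.chartCompl I f i) (f i)) = 0 at hx
  rw [← map_mul, mem_torsion_iff] at hx
  obtain ⟨n, hn⟩ := hx
  exact (mem_torsion_iff I f i x).mpr ⟨n + 1, by rw [pow_succ, mul_assoc, mul_comm _ x, hn]⟩

set_option maxHeartbeats 800000 in
/-- The class of `ζ_j`, with the convention `ζ_i = 1`. -/
theorem exists_chart_eq (j : Fin (r + 1)) : ∃ t : AdicRing.chartAdm I f i,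
    algebraMap A (AdicRing.chartAdm I f i) (f j) = t * algebraMap A (AdicRing.chartAdm I f i) (f i) := by
  by_cases hj : j = i
  · exact ⟨1, by rw [hj, one_mul]⟩
  · let S := AdicRing.chartAlg f i
    let C := AdicRing.chartCompl I f i
    refine ⟨Ideal.Quotient.mk _ (algebraMap S C (Ideal.Quotient.mk _ (MvPolynomial.X (⟨j, hj⟩ : {j : Fin (r + 1) // j ≠ i})))), ?_⟩
    change Ideal.Quotient.mk _ (algebraMap A C (f j)) = _ * Ideal.Quotient.mk _ (algebraMap A C (f i))
    rw [← map_mul]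
    refine congrArg _ ?_
    rw [IsScalarTower.algebraMap_apply A S C (f j), IsScalarTower.algebraMap_apply A S C (f i), ← map_mul]
    refine congrArg _ ?_
    change Ideal.Quotient.mk _ (MvPolynomial.C (f j)) =
      Ideal.Quotient.mk _ (MvPolynomial.X (⟨j, hj⟩ : {j : Fin (r + 1) // j ≠ i})) * Ideal.Quotient.mk _ (MvPolynomial.C (f i))
    rw [← map_mul, eq_comm, Ideal.Quotient.eq]
    refine Ideal.subset_span ⟨⟨j, hj⟩, ?_⟩
    ring

theorem chartAdm_map_le :
    (Ideal.span (Set.range f)).map (algebraMap A (AdicRing.chartAdm I f i)) ≤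
      Ideal.span {algebraMap A (AdicRing.chartAdm I f i) (f i)} := by
  rw [Ideal.map_span, Ideal.span_le]
  rintro _ ⟨_, ⟨j, rfl⟩, rfl⟩
  obtain ⟨t, ht⟩ := exists_chart_eq I f i j
  exact Ideal.mem_span_singleton'.mpr ⟨t, ht.symm⟩

variable (𝔛 : FSch.Sys.{u}) (h : 𝔛.IsFormal) (rX : ∀ n, 𝔛.X n ⟶ Spec (CommRingCat.of A))
  (hrX : ∀ n, 𝔛.ι n ≫ rX (n + 1) = rX n) (hI : I.FG)
  (hkill : ∀ (n : ℕ) (U : (𝔛.X 0).Opens) (a : R), a ∈ I ^ (n + 1) →
    proj 𝔛 h n U (rho 𝔛 h rX hrX U (algebraMap R A a)) = 0)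
  {U : (𝔛.X 0).Opens} (hU : IsLocGen 𝔛 h rX hrX (Ideal.span (Set.range f)) U (rho 𝔛 h rX hrX U (f i)))

include hI hkill hU in
set_option maxHeartbeats 800000 in
/-- The universal property of the chart algebra, into sections of a formal system. -/
theorem existsUnique_chartHom :
    ∃! ψ : AdicRing.chartAdm I f i →+* Sec 𝔛 h U,
      (∀ a : A, ψ (algebraMap A _ a) = rho 𝔛 h rX hrX U a) ∧
      ∀ n, (I.map (algebraMap R (AdicRing.chartAdm I f i))) ^ (n + 1) ≤
        RingHom.ker ((proj 𝔛 h n U).comp ψ) := by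
  classical
  let S := AdicRing.chartAlg f i
  let K : Ideal S := I.map (algebraMap R S)
  have hK : K.FG := Ideal.FG.map hI _
  let C := AdicRing.chartCompl I f i
  let ρ := rho 𝔛 h rX hrX U
  choose t ht using fun j : Fin (r + 1) => hU.dvd (f j) (Ideal.subset_span ⟨j, rfl⟩)
  let g : MvPolynomial {j : Fin (r + 1) // j ≠ i} A →+* Sec 𝔛 h U := MvPolynomial.eval₂Hom ρ fun j => t j.1
  let g' : S →+* Sec 𝔛 h U := Ideal.Quotient.lift _ g fun p hp => by
    refine (Ideal.span_le.2 ?_ : _ ≤ RingHom.ker g) hp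
    rintro _ ⟨j, rfl⟩
    change g (MvPolynomial.C (f i) * MvPolynomial.X j - MvPolynomial.C (f j.1)) = 0
    simp only [g, map_sub, map_mul, MvPolynomial.eval₂Hom_C, MvPolynomial.eval₂Hom_X']
    rw [sub_eq_zero, mul_comm]
    exact (ht j.1).symm
  have hgA : ∀ a : A, g' (algebraMap A S a) = ρ a := fun a => by
    change g (MvPolynomial.C a) = _
    exact MvPolynomial.eval₂Hom_C _ _ a
  have hgK : ∀ n, K ^ (n + 1) ≤ RingHom.ker ((proj 𝔛 h n U).comp g') := fun n => by
    rw [← Ideal.map_pow, Ideal.map_le_iff_le_comap]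
    intro a ha
    rw [Ideal.mem_comap, RingHom.mem_ker, RingHom.comp_apply, IsScalarTower.algebraMap_apply R A S, hgA]
    exact hkill n U a ha
  let φ : ∀ n, C →+* Γ(𝔛.X n, 𝔛.lvU h n U) := fun n =>
    (Ideal.Quotient.lift (K ^ (n + 1)) ((proj 𝔛 h n U).comp g') fun a ha => hgK n ha).comp
      (AdicCompletion.evalₐ K (n + 1)).toRingHom
  have hφS : ∀ n s, φ n (algebraMap S C s) = proj 𝔛 h n U (g' s) := fun n s => by
    simp only [φ, RingHom.comp_apply]
    erw [FSchLib.evalₐ_algebraMap]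
    rfl
  have hφK : ∀ n, (K.map (algebraMap S C)) ^ (n + 1) ≤ RingHom.ker (φ n) := fun n => by
    rw [← FSchLib.ker_evalₐ K hK]
    intro x hx
    rw [RingHom.mem_ker] at hx ⊢
    simp only [φ, RingHom.comp_apply, hx, map_zero]
  have hφc : ∀ n, (((𝔛.ι n).appLE _ _ (𝔛.lvU_le h n U)).hom.comp (φ (n + 1))) = φ n := fun n => by
    refine completion_ringHom_ext K hK (n + 1) _ _ ?_ (hφK n) fun s => ?_
    · rw [← Ideal.map_pow, Ideal.map_le_iff_le_comap]
      intro s hs
      rw [Ideal.mem_comap, RingHom.mem_ker, RingHom.comp_apply, hφS]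
      exact (proj_succ 𝔛 h n U (g' s)).trans (hgK n hs)
    · rw [RingHom.comp_apply, hφS, hφS]
      exact proj_succ 𝔛 h n U (g' s)
  obtain ⟨χ, hχ⟩ := exists_liftHom 𝔛 h φ fun n c => RingHom.congr_fun (hφc n) c
  have hχA : ∀ a : A, χ (algebraMap A C a) = ρ a := fun a => sec_ext 𝔛 h fun n => by
    rw [hχ, IsScalarTower.algebraMap_apply A S C, hφS, hgA]
  let ψ : AdicRing.chartAdm I f i →+* Sec 𝔛 h U := Ideal.Quotient.lift _ χ fun x hx => by
    obtain ⟨m, hm⟩ := (mem_torsion_iff I f i x).mp (Ideal.Quotient.eq_zero_iff_mem.mpr hx)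
    have h2 := congrArg χ hm
    rw [map_mul, map_pow, map_zero, hχA] at h2
    exact (mem_nonZeroDivisors_iff_left.mp (pow_mem hU.mem_nonZeroDivisors m)) _ h2
  have hψA : ∀ a : A, ψ (algebraMap A _ a) = ρ a := fun a => hχA a
  have hker : ∀ (ψ' : AdicRing.chartAdm I f i →+* Sec 𝔛 h U), (∀ a : A, ψ' (algebraMap A _ a) = ρ a) →
      ∀ n, (I.map (algebraMap R (AdicRing.chartAdm I f i))) ^ (n + 1) ≤
        RingHom.ker ((proj 𝔛 h n U).comp ψ') := fun ψ' hψ' n => by
    rw [← Ideal.map_pow, Ideal.map_le_iff_le_comap]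
    intro a ha
    rw [Ideal.mem_comap, RingHom.mem_ker, RingHom.comp_apply,
      IsScalarTower.algebraMap_apply R A (AdicRing.chartAdm I f i), hψ']
    exact hkill n U a ha
  refine ⟨ψ, ⟨hψA, hker ψ hψA⟩, fun ψ' ⟨hψ', hψ'K⟩ => ?_⟩
  refine Ideal.Quotient.ringHom_ext (RingHom.ext fun c => sec_ext 𝔛 h fun n => ?_)
  change proj 𝔛 h n U (ψ' (Ideal.Quotient.mk _ c)) = proj 𝔛 h n U (χ c)
  rw [hχ]
  revert c
  refine RingHom.congr_fun (?_ : ((proj 𝔛 h n U).comp ψ').comp (Ideal.Quotient.mk _) = φ n)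
  refine completion_ringHom_ext K hK (n + 1) _ _ ?_ (hφK n) fun s => ?_
  · rw [← Ideal.map_pow, Ideal.map_le_iff_le_comap, ← Ideal.map_pow, Ideal.map_le_iff_le_comap]
    intro a ha
    simp only [Ideal.mem_comap, RingHom.mem_ker, RingHom.comp_apply]
    rw [← IsScalarTower.algebraMap_apply R S C]
    exact hψ'K n (by rw [← Ideal.map_pow]; exact Ideal.mem_map_of_mem _ ha)
  · rw [hφS, RingHom.comp_apply, RingHom.comp_apply]
    congr 1
    revert s
    refine RingHom.congr_fun (?_ : (ψ'.comp ((Ideal.Quotient.mk _).comp (algebraMap S C))) = g')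
    refine Ideal.Quotient.ringHom_ext (MvPolynomial.ringHom_ext (fun a => ?_) fun j => ?_)
    · change ψ' (algebraMap A (AdicRing.chartAdm I f i) a) = g' (algebraMap A S a)
      rw [hψ', hgA]
    · change ψ' _ = g (MvPolynomial.X j)
      simp only [g, MvPolynomial.eval₂Hom_X']
      refine sub_eq_zero.mp (hU.reg U le_rfl _ ?_)
      erw [FBlow.IdealSh.map_id_apply]
      rw [sub_mul, sub_eq_zero, ← ht j.1, ← hψ' (f i), ← map_mul, ← hψ' (f j.1)]
      refine congrArg ψ' ?_
      rw [IsScalarTower.algebraMap_apply A S (AdicRing.chartAdm I f i) (f i),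
        IsScalarTower.algebraMap_apply A S (AdicRing.chartAdm I f i) (f j.1)]
      change algebraMap S (AdicRing.chartAdm I f i) _ * algebraMap S (AdicRing.chartAdm I f i) _ =
        algebraMap S (AdicRing.chartAdm I f i) _
      rw [← map_mul]
      refine congrArg _ ?_
      change Ideal.Quotient.mk _ _ * Ideal.Quotient.mk _ _ = Ideal.Quotient.mk _ (MvPolynomial.C (f j.1))
      rw [← map_mul, Ideal.Quotient.eq]
      refine Ideal.subset_span ⟨j, ?_⟩
      rw [MvPolynomial.algebraMap_eq]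
      ring

end Chart

end Groth.Agent.FBlowLib
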