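import Groth.Agent.FBlowLib.ChartMap
import Groth.Agent.FSchLib.Restrict

/-!
# The charts of an admissible formal blowing-up of `Spf A`

`exists_chart_openImmersion`: `Spf (chartAdm I f i)` is the open subsystem where `f i` generates the centre.
-/

universe u

open CategoryTheory CategoryTheory.Limits TopologicalSpace Opposite AlgebraicGeometry

namespace Groth.Agent.FBlowLib

theorem isAdicHom_comp {X Y Z : FSch.Sys.{u}} {f : X ⟶ Y} {g : Y ⟶ Z} (hf : FSch.IsAdicHom f)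
    (hg : FSch.IsAdicHom g) : FSch.IsAdicHom (f ≫ g) := fun n => by
  simp only [FSch.comp_app]
  exact (hf n).paste_vert (hg n)

section

variable {R A : Type u} [CommRing R] [CommRing A] [Algebra R A] (I : Ideal R) {r : ℕ} (f : Fin (r + 1) → A)
  (i : Fin (r + 1)) (𝔛 : FSch.Sys.{u}) (h : 𝔛.IsFormal) (rX : ∀ n, 𝔛.X n ⟶ Spec (CommRingCat.of A))
  (hrX : ∀ n, 𝔛.ι n ≫ rX (n + 1) = rX n) (hI : I.FG)
  (hkill : ∀ (n : ℕ) (U : (𝔛.X 0).Opens) (a : R), a ∈ I ^ (n + 1) →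
    proj 𝔛 h n U (rho 𝔛 h rX hrX U (algebraMap R A a)) = 0)
  {U : (𝔛.X 0).Opens} (hU : IsLocGen 𝔛 h rX hrX (Ideal.span (Set.range f)) U (rho 𝔛 h rX hrX U (f i)))

include hI hkill hU in
theorem chartHom_ext {ψ ψ' : AdicRing.chartAdm I f i →+* Sec 𝔛 h U}
    (hψ : ∀ a : A, ψ (algebraMap A _ a) = rho 𝔛 h rX hrX U a)
    (hψ' : ∀ a : A, ψ' (algebraMap A _ a) = rho 𝔛 h rX hrX U a) : ψ = ψ' := by
  have hk : ∀ φ : AdicRing.chartAdm I f i →+* Sec 𝔛 h U, (∀ a : A, φ (algebraMap A _ a) = rho 𝔛 h rX hrX U a) →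
      ∀ n, (I.map (algebraMap R (AdicRing.chartAdm I f i))) ^ (n + 1) ≤
        RingHom.ker ((proj 𝔛 h n U).comp φ) := fun φ hφ n => by
    rw [← Ideal.map_pow, Ideal.map_le_iff_le_comap]
    intro a ha
    rw [Ideal.mem_comap, RingHom.mem_ker, RingHom.comp_apply,
      IsScalarTower.algebraMap_apply R A (AdicRing.chartAdm I f i), hφ]
    exact hkill n U a ha
  exact (existsUnique_chartHom I f i 𝔛 h rX hrX hI hkill hU).unique ⟨hψ, hk ψ hψ⟩ ⟨hψ', hk ψ' hψ'⟩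

end

section Generic

variable {A B : Type u} [CommRing A] [CommRing B] (J : Ideal A) (JB : Ideal B) (φ : A →+* B)

theorem spfToSpec_comp_specMap (hle : J ≤ JB.comap φ) (n : ℕ) :
    FSch.spfToSpec B JB n ≫ Spec.map (CommRingCat.ofHom φ) =
      (FSch.spfMap JB J φ hle : FSch.Hom (FSch.spf B JB) (FSch.spf A J)).app n ≫ FSch.spfToSpec A J n := by
  change Spec.map _ ≫ Spec.map _ = Spec.map _ ≫ Spec.map _
  rw [← Spec.map_comp, ← Spec.map_comp]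
  congr 1

theorem isAdicHom_spfMap (hle : J ≤ JB.comap φ) (heq : J.map φ = JB) :
    FSch.IsAdicHom (FSch.spfMap JB J φ hle) := by
  haveI : ∀ n, IsClosedImmersion (FSch.spfToSpec B JB n) := fun n =>
    IsClosedImmersion.spec_of_surjective _ Ideal.Quotient.mk_surjective
  haveI : ∀ n, IsClosedImmersion (FSch.spfToSpec A J n) := fun n =>
    IsClosedImmersion.spec_of_surjective _ Ideal.Quotient.mk_surjective
  refine isAdicHom_of_ker _ (Spec.map (CommRingCat.ofHom φ)) (FSch.spfToSpec B JB) (FSch.spfToSpec A J)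
    (FSch.spfToSpec_comm B JB) (FSch.spfToSpec_comm A J) (spfToSpec_comp_specMap J JB φ hle) fun n => ?_
  refine (congrArg (fun 𝓘 => Scheme.IdealSheafData.comap 𝓘 _) (FSchLib.ker_specQuot A J n)).trans ?_
  refine Eq.trans ?_ (FSchLib.ker_specQuot B JB n).symm
  rw [FSchLib.comap_pow, FSchLib.idealSpec_comap, heq]

variable {𝔛 : FSch.Sys.{u}} (h : 𝔛.IsFormal) {U : (𝔛.X 0).Opens} (ψ : B →+* Sec 𝔛 h U)
  (hψK : ∀ n, JB ^ (n + 1) ≤ RingHom.ker ((proj 𝔛 h n U).comp ψ))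

include hψK in
/-- A continuous ring map `B → O_𝔛(U)` gives a morphism `𝔛|U ⟶ Spf B`. -/
theorem exists_toSpf : ∃ v : 𝔛.restrictOpen h U ⟶ FSch.spf B JB, ∀ n,
    (v : FSch.Hom (𝔛.restrictOpen h U) (FSch.spf B JB)).app n ≫ FSch.spfToSpec B JB n =
      toSpecOf (𝔛.lvU h n U) (CommRingCat.ofHom ((proj 𝔛 h n U).comp ψ)) := by
  let v : ∀ n, (𝔛.lvU h n U).toScheme ⟶ (FSch.spf B JB).X n := fun n =>
    toSpecOf _ (CommRingCat.ofHom (Ideal.Quotient.lift _ ((proj 𝔛 h n U).comp ψ) fun a ha => RingHom.mem_ker.mp (hψK n ha)))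
  have hvB : ∀ n, v n ≫ FSch.spfToSpec B JB n =
      toSpecOf _ (CommRingCat.ofHom ((proj 𝔛 h n U).comp ψ)) := fun n => by
    exact (Category.assoc _ _ _).trans (congrArg ((𝔛.lvU h n U).toSpecΓ ≫ ·) ((Spec.map_comp _ _).symm.trans rfl))
  haveI : ∀ n, IsClosedImmersion (FSch.spfToSpec B JB n) := fun n =>
    IsClosedImmersion.spec_of_surjective _ Ideal.Quotient.mk_surjective
  refine ⟨⟨v, fun n => ?_⟩, hvB⟩
  change v n ≫ (FSch.spf B JB).ι n = (𝔛.ι n).resLE _ _ (𝔛.lvU_le h n U) ≫ v (n + 1)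
  rw [← cancel_mono (FSch.spfToSpec B JB (n + 1)), Category.assoc, Category.assoc, FSch.spfToSpec_comm, hvB,
    hvB, resLE_toSpecOf]
  refine congrArg (toSpecOf _) (CommRingCat.hom_ext (RingHom.ext fun x => ?_))
  exact (proj_succ 𝔛 h n U (ψ x)).symm

theorem toSpecOf_over_base (r : ∀ n, 𝔛.X n ⟶ Spec (CommRingCat.of A))
    (hr : ∀ n, 𝔛.ι n ≫ r (n + 1) = r n) (hψA : ∀ a, ψ (φ a) = rho 𝔛 h r hr U a) (n : ℕ) :
    toSpecOf (𝔛.lvU h n U) (CommRingCat.ofHom ((proj 𝔛 h n U).comp ψ)) ≫ Spec.map (CommRingCat.ofHom φ) =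
      (𝔛.lvU h n U).ι ≫ r n := by
  rw [toSpecOf, Category.assoc, ← Spec.map_comp, ι_comp_eq_toSpecOf, toSpecOf]
  congr 2
  refine CommRingCat.hom_ext (RingHom.ext fun a => ?_)
  exact (congrArg (proj 𝔛 h n U) (hψA a)).trans (proj_pull 𝔛 h r hr (le_top : U ≤ r 0 ⁻¹ᵁ ⊤) n _)

variable (hB : (FSch.spf B JB).IsFormal) (u : FSch.spf B JB ⟶ 𝔛)
  (hu0 : (⊤ : ((FSch.spf B JB).X 0).Opens) ≤ (u : FSch.Hom (FSch.spf B JB) 𝔛).app 0 ⁻¹ᵁ U)
  (hEψ : (hpull h u hB hu0).comp ψ =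
      (pull (FSch.spf B JB) hB (FSch.spfToSpec B JB) (FSch.spfToSpec_comm B JB) (W := ⊤) le_top).comp
        (Scheme.ΓSpecIso (CommRingCat.of B)).inv.hom)

include hEψ in
set_option maxHeartbeats 800000 in
theorem lift_comp_toSpf_eq_id (n : ℕ) (u' : (FSch.spf B JB).X n ⟶ (𝔛.lvU h n U).toScheme)
    (hu' : u' ≫ (𝔛.lvU h n U).ι = (u : FSch.Hom (FSch.spf B JB) 𝔛).app n)
    (v : (𝔛.lvU h n U).toScheme ⟶ (FSch.spf B JB).X n)
    (hv : v ≫ FSch.spfToSpec B JB n = toSpecOf (𝔛.lvU h n U) (CommRingCat.ofHom ((proj 𝔛 h n U).comp ψ))) :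
    u' ≫ v = 𝟙 _ := by
  haveI : IsClosedImmersion (FSch.spfToSpec B JB n) :=
    IsClosedImmersion.spec_of_surjective _ Ideal.Quotient.mk_surjective
  rw [← cancel_mono (FSch.spfToSpec B JB n), Category.assoc, hv, Category.id_comp]
  haveI : IsIso (⊤ : ((FSch.spf B JB).X n).Opens).ι := (Scheme.topIso _).isIso_hom
  rw [← cancel_epi (⊤ : ((FSch.spf B JB).X n).Opens).ι, ← Category.assoc]
  have hun : (⊤ : ((FSch.spf B JB).X n).Opens) ≤
      (u : FSch.Hom (FSch.spf B JB) 𝔛).app n ⁻¹ᵁ 𝔛.lvU h n U :=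
    fun z _ => lvU_le_hom h u hB hu0 n (x := z) (Set.mem_univ _)
  have h1 : (⊤ : ((FSch.spf B JB).X n).Opens).ι ≫ u' =
      ((u : FSch.Hom (FSch.spf B JB) 𝔛).app n).resLE (𝔛.lvU h n U) ⊤ hun := by
    rw [← cancel_mono (𝔛.lvU h n U).ι, Category.assoc, hu', Scheme.Hom.resLE_comp_ι]
  rw [h1, resLE_toSpecOf, ι_comp_eq_toSpecOf]
  refine congrArg (toSpecOf _) (CommRingCat.hom_ext (RingHom.ext fun x => ?_))
  have h2 := congrArg (proj (FSch.spf B JB) hB n ⊤) (RingHom.congr_fun hEψ x)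
  have h3 := proj_pull (FSch.spf B JB) hB (FSch.spfToSpec B JB) (FSch.spfToSpec_comm B JB) (W := ⊤) (V := ⊤)
    le_top n ((Scheme.ΓSpecIso (CommRingCat.of B)).inv x)
  exact ((proj_hpull h u hB hu0 n (ψ x)).symm.trans h2).trans h3

end Generic

section Generators

variable {A : Type u} [CommRing A] {𝔛 𝔜 : FSch.Sys.{u}} (h : 𝔛.IsFormal) (h' : 𝔜.IsFormal) (u : 𝔜 ⟶ 𝔛)
  (r : ∀ n, 𝔛.X n ⟶ Spec (CommRingCat.of A)) (hr : ∀ n, 𝔛.ι n ≫ r (n + 1) = r n)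
  (r' : ∀ n, 𝔜.X n ⟶ Spec (CommRingCat.of A)) (hr' : ∀ n, 𝔜.ι n ≫ r' (n + 1) = r' n)
  (hu : ∀ n, (u : FSch.Hom 𝔜 𝔛).app n ≫ r n = r' n) (𝔞 : Ideal A) {c : A} (hc : c ∈ 𝔞)

include hu hc in
/-- If `c` generates upstairs, it generates near the image point. -/
theorem exists_isLocGen_of_hom (hinv : (centre 𝔛 h r hr 𝔞).IsInvertible)
    (hgen : ∀ V, IsLocGen 𝔜 h' r' hr' 𝔞 V (rho 𝔜 h' r' hr' V c)) (y : 𝔜.X 0) :
    ∃ V : (𝔛.X 0).Opens, ((u : FSch.Hom 𝔜 𝔛).app 0).base y ∈ V ∧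
      IsLocGen 𝔛 h r hr 𝔞 V (rho 𝔛 h r hr V c) := by
  obtain ⟨V, g, hxV, hg⟩ := (isInvertible_centre_iff 𝔛 h r hr 𝔞).mp hinv (((u : FSch.Hom 𝔜 𝔛).app 0).base y)
  obtain ⟨t, ht⟩ := hg.dvd c hc
  let W := (u : FSch.Hom 𝔜 𝔛).app 0 ⁻¹ᵁ V
  let P := hpull h u h' (le_refl W)
  have hPρ : ∀ a, P (rho 𝔛 h r hr V a) = rho 𝔜 h' r' hr' W a :=
    fun a => hpull_rho h' u r' hr' hu (le_refl W) a
  have hPg : P g ∈ 𝔞.map (rho 𝔜 h' r' hr' W) := by
    have := Ideal.mem_map_of_mem P hg.mem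
    rwa [Ideal.map_map, show P.comp (rho 𝔛 h r hr V) = rho 𝔜 h' r' hr' W from RingHom.ext hPρ] at this
  obtain ⟨d, hd⟩ := Ideal.mem_span_singleton'.mp ((hgen W).map_le_span hPg)
  have htd : P t * d = 1 := by
    refine sub_eq_zero.mp (mem_nonZeroDivisors_iff_right.mp (hgen W).mem_nonZeroDivisors _ ?_)
    rw [sub_mul, one_mul, mul_assoc, hd, ← map_mul, ← ht, hPρ, sub_self]
  have hy0 : (𝔜.toX 0).base y ∈ 𝔜.lvU h' 0 W := by
    change (𝔜.gInv h' 0).hom ((𝔜.toX 0).base y) ∈ W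
    erw [ConcreteCategory.congr_hom (𝔜.toX_base_gInv h' 0) y]
    exact hxV
  have h2 : (𝔜.toX 0).base y ∈ (𝔜.X 0).basicOpen (proj 𝔜 h' 0 W (P t)) :=
    ((𝔜.X 0).mem_basicOpen _ _ hy0).mpr (((IsUnit.of_mul_eq_one _ htd).map _).map _)
  rw [proj_hpull, Scheme.Hom.appLE, CommRingCat.comp_apply, Scheme.basicOpen_res] at h2
  have h3 := h2.2
  rw [← Scheme.preimage_basicOpen] at h3
  obtain ⟨V', iV', hxV', hu'⟩ := exists_isUnit_res 𝔛 h t hxV h3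
  refine ⟨V', hxV', ?_⟩
  rw [← res_rho 𝔛 h r hr iV', ht, map_mul]
  exact (hg.res iV').of_isUnit_mul _ _ _ _ _ hu'

end Generators

section Iso

variable {R A : Type u} [CommRing R] [CommRing A] [Algebra R A] (I : Ideal R) (hI : I.FG) {r : ℕ}
  (f : Fin (r + 1) → A) (k : ℕ) (hopen : (I ^ k).map (algebraMap R A) ≤ Ideal.span (Set.range f))
  (hX : (FSch.spf A (I.map (algebraMap R A))).IsFormal)
  (𝔛' : FSch.Sys.{u}) (h' : 𝔛'.IsFormal) (b : 𝔛' ⟶ FSch.spf A (I.map (algebraMap R A)))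
  (hb : FBlow.IsAdmBlowUp b h' hX (centre (FSch.spf A (I.map (algebraMap R A))) hX
    (FSch.spfToSpec A (I.map (algebraMap R A))) (FSch.spfToSpec_comm A (I.map (algebraMap R A)))
    (Ideal.span (Set.range f))))
  (r' : ∀ n, 𝔛'.X n ⟶ Spec (CommRingCat.of A)) (hr' : ∀ n, 𝔛'.ι n ≫ r' (n + 1) = r' n)
  (hbr : ∀ n, (b : FSch.Hom 𝔛' _).app n ≫ FSch.spfToSpec A (I.map (algebraMap R A)) n = r' n)

include hI hopen hb hbr in
set_option maxHeartbeats 1600000 in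
theorem exists_chart_openImmersion (i : Fin (r + 1))
    (hi : (FSch.spf (AdicRing.chartAdm I f i) (I.map (algebraMap R (AdicRing.chartAdm I f i)))).IsFormal)
    (hle : (I.map (algebraMap R A)) ≤ (I.map (algebraMap R (AdicRing.chartAdm I f i))).comap
      (algebraMap A (AdicRing.chartAdm I f i))) :
    ∃ u : FSch.spf (AdicRing.chartAdm I f i) (I.map (algebraMap R (AdicRing.chartAdm I f i))) ⟶ 𝔛',
      u ≫ b = FSch.spfMap (I.map (algebraMap R (AdicRing.chartAdm I f i))) (I.map (algebraMap R A))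
        (algebraMap A (AdicRing.chartAdm I f i)) hle ∧
      (∀ n, IsOpenImmersion ((u : FSch.Hom _ 𝔛').app n)) ∧
      Set.range ((u : FSch.Hom _ 𝔛').app 0).base =
        {x : 𝔛'.X 0 | ∃ V : (𝔛'.X 0).Opens, x ∈ V ∧
          IsLocGen 𝔛' h' r' hr' (Ideal.span (Set.range f)) V (rho 𝔛' h' r' hr' V (f i))} := by
  let J := I.map (algebraMap R A)
  let B := AdicRing.chartAdm I f i
  let JB := I.map (algebraMap R B)
  let φ : A →+* B := algebraMap A B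
  let 𝔞 := Ideal.span (Set.range f)
  let c : FSch.spf B JB ⟶ FSch.spf A J := FSch.spfMap JB J φ hle
  let rX := FSch.spfToSpec A J
  let rB : ∀ n, (FSch.spf B JB).X n ⟶ Spec (CommRingCat.of A) := fun n =>
    (c : FSch.Hom (FSch.spf B JB) (FSch.spf A J)).app n ≫ rX n
  have hrB : ∀ n, (FSch.spf B JB).ι n ≫ rB (n + 1) = rB n := fun n => by
    simp only [rB]
    rw [← Category.assoc, ← (c : FSch.Hom (FSch.spf B JB) (FSch.spf A J)).comm n, Category.assoc,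
      FSch.spfToSpec_comm]
  have hsqB : ∀ n, FSch.spfToSpec B JB n ≫ Spec.map (CommRingCat.ofHom φ) = rB n :=
    spfToSpec_comp_specMap J JB φ hle
  haveI : ∀ n, IsClosedImmersion (FSch.spfToSpec A J n) := fun n =>
    IsClosedImmersion.spec_of_surjective _ Ideal.Quotient.mk_surjective
  have hc : FSch.IsAdicHom c := isAdicHom_spfMap J JB φ hle
    (by rw [Ideal.map_map, ← IsScalarTower.algebraMap_eq R A B])
  have hfi : f i ∈ 𝔞 := Ideal.subset_span ⟨i, rfl⟩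
  have hgenB : ∀ V, IsLocGen (FSch.spf B JB) hi rB hrB 𝔞 V (rho (FSch.spf B JB) hi rB hrB V (f i)) := by
    refine fun V => isLocGen_spf_top φ JB 𝔞 hi rB hrB hsqB hfi (chartAdm_regular I f i) k ?_
      (chartAdm_map_le I f i) V
    refine le_trans ?_ (chartAdm_map_le I f i)
    rw [← Ideal.map_pow, show algebraMap R B = φ.comp (algebraMap R A) from IsScalarTower.algebraMap_eq R A B,
      ← Ideal.map_map]
    exact Ideal.map_mono hopen
  have hinvB : (FBlow.idealMap c hi hX (centre (FSch.spf A J) hX rX (FSch.spfToSpec_comm A J) 𝔞)).IsInvertible := by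
    rw [idealMap_centre 𝔞 hi c rB hrB fun n => rfl]
    exact (isInvertible_centre_iff _ hi rB hrB 𝔞).mpr fun x => ⟨⊤, _, trivial, hgenB ⊤⟩
  obtain ⟨u, hu, -⟩ := hb.2.2 (FSch.spf B JB) hi c hc hinvB
  have hun : ∀ n, (u : FSch.Hom (FSch.spf B JB) 𝔛').app n ≫ (b : FSch.Hom 𝔛' (FSch.spf A J)).app n =
      (c : FSch.Hom (FSch.spf B JB) (FSch.spf A J)).app n :=
    fun n => congrArg (fun m : FSch.spf B JB ⟶ FSch.spf A J => (m : FSch.Hom _ _).app n) hu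
  have hur : ∀ n, (u : FSch.Hom (FSch.spf B JB) 𝔛').app n ≫ r' n = rB n := fun n => by
    rw [← hbr n, ← Category.assoc, hun]
  have hinv' : (centre 𝔛' h' r' hr' 𝔞).IsInvertible := by
    have h0 := hb.2.1
    rw [idealMap_centre 𝔞 h' b r' hr' hbr] at h0
    exact h0
  let U : (𝔛'.X 0).Opens :=
    sSup {V : (𝔛'.X 0).Opens | IsLocGen 𝔛' h' r' hr' 𝔞 V (rho 𝔛' h' r' hr' V (f i))}
  have hmemU : ∀ x, x ∈ U ↔ ∃ V : (𝔛'.X 0).Opens, x ∈ V ∧
      IsLocGen 𝔛' h' r' hr' 𝔞 V (rho 𝔛' h' r' hr' V (f i)) := fun x => by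
    simp only [U, Opens.mem_sSup, Set.mem_setOf_eq]
    exact ⟨fun ⟨V, h1, h2⟩ => ⟨V, h2, h1⟩, fun ⟨V, h1, h2⟩ => ⟨V, h2, h1⟩⟩
  have hU := isLocGen_rho_of_local 𝔛' h' r' hr' 𝔞 hfi fun x hx => (hmemU x).mp hx
  have hkill : ∀ (n : ℕ) (V : (𝔛'.X 0).Opens) (a : R), a ∈ I ^ (n + 1) →
      proj 𝔛' h' n V (rho 𝔛' h' r' hr' V (algebraMap R A a)) = 0 := fun n V a ha =>
    proj_rho_eq_zero J 𝔛' h' b r' hr' hbr n V (by
      rw [← Ideal.map_pow]; exact Ideal.mem_map_of_mem _ ha)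
  have hkillB : ∀ (n : ℕ) (V : ((FSch.spf B JB).X 0).Opens) (a : R), a ∈ I ^ (n + 1) →
      proj (FSch.spf B JB) hi n V (rho (FSch.spf B JB) hi rB hrB V (algebraMap R A a)) = 0 := fun n V a ha =>
    proj_rho_eq_zero J (FSch.spf B JB) hi c rB hrB (fun _ => rfl) n V (by
      rw [← Ideal.map_pow]; exact Ideal.mem_map_of_mem _ ha)
  obtain ⟨ψ, ⟨hψA, hψK⟩, -⟩ := existsUnique_chartHom I f i 𝔛' h' r' hr' hI hkill hU
  -- the image of `u` lies in `U`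
  have hu0 : (⊤ : ((FSch.spf B JB).X 0).Opens) ≤ (u : FSch.Hom (FSch.spf B JB) 𝔛').app 0 ⁻¹ᵁ U :=
    fun y _ => (hmemU _).mpr (exists_isLocGen_of_hom h' hi u r' hr' rB hrB hur 𝔞 hfi hinv' hgenB y)
  have hun' : ∀ n, (⊤ : ((FSch.spf B JB).X n).Opens) ≤
      (u : FSch.Hom (FSch.spf B JB) 𝔛').app n ⁻¹ᵁ 𝔛'.lvU h' n U := fun n z _ =>
    lvU_le_hom h' u hi hu0 n (x := z) (Set.mem_univ _)
  obtain ⟨vS, hvB⟩ := exists_toSpf JB h' ψ hψK
  let v : ∀ n, (𝔛'.lvU h' n U).toScheme ⟶ (FSch.spf B JB).X n :=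
    fun n => (vS : FSch.Hom (𝔛'.restrictOpen h' U) (FSch.spf B JB)).app n
  have hvr : ∀ n, v n ≫ rB n = (𝔛'.lvU h' n U).ι ≫ r' n := fun n => by
    rw [← hsqB n, ← Category.assoc]
    exact (congrArg (· ≫ Spec.map (CommRingCat.ofHom φ)) (hvB n)).trans
      (toSpecOf_over_base φ h' ψ r' hr' hψA n)
  let u' : ∀ n, (FSch.spf B JB).X n ⟶ (𝔛'.lvU h' n U).toScheme := fun n =>
    IsOpenImmersion.lift (𝔛'.lvU h' n U).ι ((u : FSch.Hom (FSch.spf B JB) 𝔛').app n) (by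
      rintro _ ⟨z, rfl⟩
      rw [Scheme.Opens.range_ι]
      exact hun' n (x := z) trivial)
  have hu'ι : ∀ n, u' n ≫ (𝔛'.lvU h' n U).ι = (u : FSch.Hom (FSch.spf B JB) 𝔛').app n :=
    fun n => IsOpenImmersion.lift_fac ..
  let E := hpull h' u hi hu0
  have hEψ : E.comp ψ =
      (pull (FSch.spf B JB) hi (FSch.spfToSpec B JB) (FSch.spfToSpec_comm B JB) (W := ⊤) le_top).comp
        (Scheme.ΓSpecIso (CommRingCat.of B)).inv.hom := by
    refine chartHom_ext I f i (FSch.spf B JB) hi rB hrB hI hkillB (hgenB ⊤) (fun a => ?_) fun a => ?_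
    · exact (congrArg E (hψA a)).trans (hpull_rho hi u rB hrB hur hu0 a)
    · exact (rho_eq_pull φ JB hi rB hrB hsqB ⊤ a).symm
  have huv : ∀ n, u' n ≫ v n = 𝟙 _ := fun n =>
    lift_comp_toSpf_eq_id JB h' ψ hi u hu0 hEψ n (u' n) (hu'ι n) (v n) (hvB n)
  let Z := 𝔛'.restrictOpen h' U
  let hZ := FSchLib.isFormal_restrictOpen h' U
  have hvu : vS ≫ u = 𝔛'.restrictOpenι h' U := by
    haveI : ∀ n, IsOpenImmersion ((𝔛'.restrictOpenι h' U : FSch.Hom Z 𝔛').app n) := fun n =>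
      inferInstanceAs (IsOpenImmersion (𝔛'.lvU h' n U).ι)
    let g : Z ⟶ FSch.spf A J := 𝔛'.restrictOpenι h' U ≫ b
    have hg : FSch.IsAdicHom g := isAdicHom_comp (FSchLib.isAdicHom_restrictOpenι h' U) hb.1
    let rZ : ∀ n, Z.X n ⟶ Spec (CommRingCat.of A) := fun n => (g : FSch.Hom Z (FSch.spf A J)).app n ≫ rX n
    have hrZ : ∀ n, Z.ι n ≫ rZ (n + 1) = rZ n := fun n => by
      simp only [rZ]
      rw [← Category.assoc, ← (g : FSch.Hom Z (FSch.spf A J)).comm n, Category.assoc, FSch.spfToSpec_comm]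
    have hιr : ∀ n, (𝔛'.restrictOpenι h' U : FSch.Hom Z 𝔛').app n ≫ r' n = rZ n := fun n => by
      rw [← hbr n, ← Category.assoc]
      rfl
    have e : (⊤ : (Z.X 0).Opens) ≤ (𝔛'.restrictOpenι h' U : FSch.Hom Z 𝔛').app 0 ⁻¹ᵁ U := fun z _ => by
      have hz : (𝔛'.gInv h' 0).hom z.1 ∈ U := z.2
      have h0 : (𝔛'.gInv h' 0).hom z.1 = z.1 := ConcreteCategory.congr_hom (𝔛'.toX_base_gInv h' 0) z.1
      rw [h0] at hz
      exact hz
    have hinvZ : (FBlow.idealMap g hZ hX (centre (FSch.spf A J) hX rX (FSch.spfToSpec_comm A J) 𝔞)).IsInvertible := by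
      rw [idealMap_centre 𝔞 hZ g rZ hrZ fun n => rfl]
      exact (isInvertible_centre_iff Z hZ rZ hrZ 𝔞).mpr fun x =>
        ⟨⊤, _, trivial, IsLocGen.hpull h' (𝔛'.restrictOpenι h' U) hZ rZ hrZ hιr hU e⟩
    refine (hb.2.2 Z hZ g hg hinvZ).unique ?_ rfl
    rw [Category.assoc, hu]
    refine FSch.Hom.ext (funext fun n => ?_)
    rw [← cancel_mono (rX n)]
    change (v n ≫ _) ≫ _ = ((𝔛'.lvU h' n U).ι ≫ _) ≫ _
    rw [Category.assoc, Category.assoc, hbr]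
    exact hvr n
  have hvun : ∀ n, v n ≫ (u : FSch.Hom (FSch.spf B JB) 𝔛').app n = (𝔛'.lvU h' n U).ι := fun n =>
    congrArg (fun m : Z ⟶ 𝔛' => (m : FSch.Hom _ _).app n) hvu
  have hiso : ∀ n, IsIso (u' n) := fun n => ⟨v n, huv n, by
    rw [← cancel_mono (𝔛'.lvU h' n U).ι, Category.assoc, hu'ι, hvun, Category.id_comp]⟩
  refine ⟨u, hu, fun n => ?_, Set.ext fun x => ?_⟩
  · haveI := hiso n
    rw [← hu'ι n]
    infer_instance
  · refine Iff.trans ⟨fun hx => ?_, fun hx => ?_⟩ (hmemU x)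
    · obtain ⟨y, rfl⟩ := hx
      exact hu0 (x := y) trivial
    · have hx0 : x ∈ 𝔛'.lvU h' 0 U := by
        change (𝔛'.gInv h' 0).hom x ∈ U
        have h0 : (𝔛'.gInv h' 0).hom x = x := ConcreteCategory.congr_hom (𝔛'.toX_base_gInv h' 0) x
        rw [h0]
        exact hx
      exact ⟨(v 0).base ⟨x, hx0⟩, ConcreteCategory.congr_hom (congrArg (fun m => m.base) (hvun 0)) ⟨x, hx0⟩⟩

end Iso

end Groth.Agent.FBlowLib
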