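import Groth.Agent.FBlowLib.Chart

/-!
# Helpers for the chart description of an admissible formal blowing-up

`exists_mem_locus` (the loci of the generators cover), `exists_chartMap` (the map from the locus to the chart).
-/

universe u

open CategoryTheory CategoryTheory.Limits TopologicalSpace Opposite AlgebraicGeometry

namespace Groth.Agent.FBlowLib

theorem appLE_specMap_ΓSpec {A B : Type u} [CommRing A] [CommRing B] (φ : A →+* B) (a : A) :
    (Spec.map (CommRingCat.ofHom φ)).appLE ⊤ ⊤ le_top ((Scheme.ΓSpecIso (CommRingCat.of A)).inv a) =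
      (Scheme.ΓSpecIso (CommRingCat.of B)).inv (φ a) := by
  have h2 : (Spec.map (CommRingCat.ofHom φ)).appLE ⊤ ⊤ le_top = (Spec.map (CommRingCat.ofHom φ)).appTop :=
    (Scheme.Hom.app_eq_appLE _).symm
  rw [h2]
  exact (ConcreteCategory.congr_hom (Scheme.ΓSpecIso_inv_naturality (CommRingCat.ofHom φ)) a).symm

section Kill

variable {A : Type u} [CommRing A] (J : Ideal A) (𝔛 : FSch.Sys.{u}) (h : 𝔛.IsFormal)
  (b : 𝔛 ⟶ FSch.spf A J) (r : ∀ n, 𝔛.X n ⟶ Spec (CommRingCat.of A))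
  (hr : ∀ n, 𝔛.ι n ≫ r (n + 1) = r n)
  (hb : ∀ n, (b : FSch.Hom 𝔛 (FSch.spf A J)).app n ≫ FSch.spfToSpec A J n = r n)

include hb in
/-- On level `n` the `(n+1)`-st power of the ideal of definition vanishes. -/
theorem proj_rho_eq_zero (n : ℕ) (U : (𝔛.X 0).Opens) {a : A} (ha : a ∈ J ^ (n + 1)) :
    proj 𝔛 h n U (rho 𝔛 h r hr U a) = 0 := by
  refine (proj_pull 𝔛 h r hr (le_top : U ≤ r 0 ⁻¹ᵁ ⊤) n _).trans ?_
  rw [← FSch.appLE_comp_appLE_of_eq _ (FSch.spfToSpec A J n) (r n) (hb n) ⊤ ⊤ (𝔛.lvU h n U) le_top le_top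
    (lvU_le_preimage 𝔛 h r hr le_top n), CommRingCat.comp_apply]
  have h1 : (FSch.spfToSpec A J n).appLE ⊤ ⊤ le_top ((Scheme.ΓSpecIso (CommRingCat.of A)).inv a) = 0 := by
    refine (appLE_specMap_ΓSpec (Ideal.Quotient.mk (J ^ (n + 1))) a).trans ?_
    rw [Ideal.Quotient.eq_zero_iff_mem.mpr ha, map_zero]
    rfl
  exact (congrArg _ h1).trans (map_zero _)

end Kill

section Cover

variable {A : Type u} [CommRing A] {m : ℕ} (f : Fin m → A) (𝔛 : FSch.Sys.{u}) (h : 𝔛.IsFormal)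
  (r : ∀ n, 𝔛.X n ⟶ Spec (CommRingCat.of A)) (hr : ∀ n, 𝔛.ι n ≫ r (n + 1) = r n)

/-- Near every point one of the `f j` generates an invertible `(f) · O_𝔛`. -/
theorem exists_mem_locus (hinv : (centre 𝔛 h r hr (Ideal.span (Set.range f))).IsInvertible) (x : 𝔛.X 0) :
    ∃ (j : Fin m) (V : (𝔛.X 0).Opens), x ∈ V ∧
      IsLocGen 𝔛 h r hr (Ideal.span (Set.range f)) V (rho 𝔛 h r hr V (f j)) := by
  obtain ⟨V, g, hxV, hg⟩ := (isInvertible_centre_iff 𝔛 h r hr _).mp hinv x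
  choose t ht using fun j => hg.dvd (f j) (Ideal.subset_span ⟨j, rfl⟩)
  have hm := hg.mem
  rw [Ideal.map_span, ← Set.range_comp] at hm
  obtain ⟨d, hd⟩ := Ideal.mem_span_range_iff_exists_fun.mp hm
  have hsum : ∑ j, d j * t j = 1 := by
    refine sub_eq_zero.mp (hg.reg V le_rfl _ ?_)
    erw [FBlow.IdealSh.map_id_apply]
    rw [sub_mul, one_mul, Finset.sum_mul, sub_eq_zero]
    refine (Finset.sum_congr rfl fun j _ => ?_).trans hd
    rw [mul_assoc, ← ht j]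
    rfl
  have hx0 : (𝔛.toX 0).base x ∈ 𝔛.lvU h 0 V := by
    change (𝔛.gInv h 0).hom ((𝔛.toX 0).base x) ∈ V
    erw [ConcreteCategory.congr_hom (𝔛.toX_base_gInv h 0) x]
    exact hxV
  have h1 : ∑ j, (𝔛.X 0).presheaf.germ _ _ hx0 (proj 𝔛 h 0 V (d j * t j)) = 1 := by
    rw [← map_sum, ← map_sum, hsum, map_one, map_one]
  obtain ⟨j, hj⟩ : ∃ j, IsUnit ((𝔛.X 0).presheaf.germ _ _ hx0 (proj 𝔛 h 0 V (d j * t j))) := by
    by_contra hno
    push Not at hno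
    exact (IsLocalRing.notMem_maximalIdeal.mpr isUnit_one) (h1 ▸ Ideal.sum_mem _ fun j _ =>
      (IsLocalRing.mem_maximalIdeal _).mpr (hno j))
  have hj' : IsUnit ((𝔛.X 0).presheaf.germ _ _ hx0 (proj 𝔛 h 0 V (t j))) := by
    rw [map_mul, map_mul] at hj
    exact isUnit_of_mul_isUnit_right hj
  obtain ⟨V', i, hxV', hu⟩ := exists_isUnit_res 𝔛 h (t j) hxV (((𝔛.X 0).mem_basicOpen _ _ hx0).mpr hj')
  refine ⟨j, V', hxV', ?_⟩
  rw [← res_rho 𝔛 h r hr i, ht j, map_mul]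
  exact (hg.res i).of_isUnit_mul _ _ _ _ _ hu

end Cover

end Groth.Agent.FBlowLib
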