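import Groth.Agent.FBlowLib.CohLocal
import Groth.Agent.FBlowLib.Admissible

/-!
# Local models

`exists_localModel`: an admissible formal `R`-scheme with a coherent open ideal is, near every point, the formal
spectrum of an admissible algebra with the centre of an open finitely generated ideal.
-/

universe u

open CategoryTheory CategoryTheory.Limits TopologicalSpace Opposite AlgebraicGeometry

namespace Groth.Agent.FBlowLib

/-- Compatible families into an affine scheme are determined by their ring maps to global sections. -/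
theorem eq_of_rho_eq {A : Type u} [CommRing A] {𝔛 : FSch.Sys.{u}} (h : 𝔛.IsFormal)
    (r r' : ∀ n, 𝔛.X n ⟶ Spec (CommRingCat.of A)) (hr : ∀ n, 𝔛.ι n ≫ r (n + 1) = r n)
    (hr' : ∀ n, 𝔛.ι n ≫ r' (n + 1) = r' n) (H : ∀ a, rho 𝔛 h r hr ⊤ a = rho 𝔛 h r' hr' ⊤ a) (n : ℕ) :
    r n = r' n := by
  have h1 : (𝔛.lvU h n ⊤).ι ≫ r n = (𝔛.lvU h n ⊤).ι ≫ r' n := by
    rw [ι_comp_eq_toSpecOf, ι_comp_eq_toSpecOf]
    congr 1
    refine CommRingCat.hom_ext (RingHom.ext fun a => ?_)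
    have h2 := congrArg (proj 𝔛 h n ⊤) (H a)
    exact (proj_pull 𝔛 h r hr (W := ⊤) (V := ⊤) le_top n _).symm.trans
      (h2.trans (proj_pull 𝔛 h r' hr' (W := ⊤) (V := ⊤) le_top n _))
  haveI : IsIso (𝔛.lvU h n ⊤).ι := (𝔛.X n).topIso.isIso_hom
  exact (cancel_epi (𝔛.lvU h n ⊤).ι).mp h1

/-- Composites of compatible families are compatible. -/
theorem comp_comm {𝔛 𝔜 : FSch.Sys.{u}} (f : 𝔜 ⟶ 𝔛) {Y : Scheme.{u}} (r : ∀ n, 𝔛.X n ⟶ Y)
    (hr : ∀ n, 𝔛.ι n ≫ r (n + 1) = r n) (n : ℕ) :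
    𝔜.ι n ≫ (f : FSch.Hom 𝔜 𝔛).app (n + 1) ≫ r (n + 1) = (f : FSch.Hom 𝔜 𝔛).app n ≫ r n := by
  rw [← Category.assoc, ← (f : FSch.Hom 𝔜 𝔛).comm n, Category.assoc, hr]

variable {𝔛 : FSch.Sys.{u}} (h : 𝔛.IsFormal) {R : Type u} [CommRing R] {I : Ideal R} (p : 𝔛 ⟶ FSch.spf R I)

theorem exists_localModel (hR : AdicRing.IsBase R I) (hp : FSch.IsAdicHom p)
    (hfp : ∀ n, LocallyOfFinitePresentation ((p : FSch.Hom 𝔛 (FSch.spf R I)).app n))
    (htf : ∀ (U : (𝔛.X 0).Opens) (s : (𝔛.Osh h).obj.obj (Opposite.op U)),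
      (∀ a ∈ (FBlow.IdealSh.ker (𝔛.OshProj h 0)).sect U, a * s = 0) → s = 0)
    (J : FBlow.IdealSh (𝔛.Osh h)) (hJ : FBlow.IsCohOpen 𝔛 h J) (x : 𝔛.X 0) :
    ∃ (A : Type u) (_ : CommRing A) (_ : Algebra R A), AdicRing.Admissible R I A ∧
      ∃ (hF : (FSch.spf A (I.map (algebraMap R A))).IsFormal) (θ : FSch.spf A (I.map (algebraMap R A)) ⟶ 𝔛),
        (∀ n, IsOpenImmersion ((θ : FSch.Hom _ 𝔛).app n)) ∧ FSch.IsAdicHom θ ∧
        x ∈ Set.range ((θ : FSch.Hom _ 𝔛).app 0).base ∧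
        (∀ n, (θ : FSch.Hom _ 𝔛).app n ≫ rS p n =
          FSch.spfToSpec A (I.map (algebraMap R A)) n ≫ Spec.map (CommRingCat.ofHom (algebraMap R A))) ∧
        ∃ (r : ℕ) (f : Fin (r + 1) → A) (k : ℕ), (I ^ k).map (algebraMap R A) ≤ Ideal.span (Set.range f) ∧
          FBlow.idealMap θ hF h J = centre (FSch.spf A (I.map (algebraMap R A))) hF
            (FSch.spfToSpec A (I.map (algebraMap R A))) (FSch.spfToSpec_comm A (I.map (algebraMap R A)))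
            (Ideal.span (Set.range f)) := by
  obtain ⟨U, hxU, n, 𝒜, hft, hJU⟩ := hJ x
  obtain ⟨V, hV, hxV, hVU⟩ := Opens.isBasis_iff_nbhd.mp (𝔛.X 0).isBasis_affineOpens hxU
  have hI := ValTate.isBase_fg hR
  have hF := isFormal_spf (I.map (baseHom h p V))
  obtain ⟨θ, hop, had, hrange, e, hθ⟩ := exists_chartSys h p hV hp hI hF
  obtain ⟨𝔞, h𝔞, hk, hcent⟩ := exists_centre_eq h p hp hI J hJU hV hft hVU hF θ e hθ
  letI : Algebra R (Sec 𝔛 h V) := (baseHom h p V).toAlgebra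
  have hspan : ∃ (r : ℕ) (f : Fin (r + 1) → Sec 𝔛 h V), Ideal.span (Set.range f) = 𝔞 := by
    obtain ⟨m, g, hg⟩ := Submodule.fg_iff_exists_fin_generating_family.1 h𝔞
    refine ⟨m, Fin.cons 0 g, ?_⟩
    rw [Fin.range_cons, Ideal.span_insert_zero]
    exact hg
  obtain ⟨r, f, rfl⟩ := hspan
  refine ⟨Sec 𝔛 h V, inferInstance, (baseHom h p V).toAlgebra,
    ⟨topFinitePresentation_sec h p hV hp hI hfp hR, noPowTorsion_sec h p hV hp hI htf⟩, hF, θ, hop, had,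
    hrange.symm ▸ hxV, fun m => ?_, r, f, n + 1, (Ideal.map_pow _ _ _).trans_le hk, hcent⟩
  have hr' := comp_comm θ (rS p) (rS_comm p)
  have hr'' : ∀ m, (FSch.spf (Sec 𝔛 h V) (I.map (baseHom h p V))).ι m ≫
      (FSch.spfToSpec (Sec 𝔛 h V) (I.map (baseHom h p V)) (m + 1) ≫ Spec.map (CommRingCat.ofHom (baseHom h p V))) =
      FSch.spfToSpec (Sec 𝔛 h V) (I.map (baseHom h p V)) m ≫ Spec.map (CommRingCat.ofHom (baseHom h p V)) := fun m => by
    rw [← Category.assoc, FSch.spfToSpec_comm]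
  refine eq_of_rho_eq hF (fun k => (θ : FSch.Hom _ 𝔛).app k ≫ rS p k)
    (fun k => FSch.spfToSpec (Sec 𝔛 h V) (I.map (baseHom h p V)) k ≫ Spec.map (CommRingCat.ofHom (baseHom h p V)))
    hr' hr'' (fun a => ?_) m
  rw [rho_eq_pull (baseHom h p V) _ hF _ hr'' (fun _ => rfl)]
  refine Eq.trans (hpull_rho (h := h) (hr := rS_comm p) hF θ _ hr' (fun _ => rfl) e a).symm ?_
  exact RingHom.congr_fun hθ (baseHom h p V a)

end Groth.Agent.FBlowLib
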