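import Groth.Agent.FBlowLib.ChartIso
import Groth.Agent.FBlowLib.LocalModel

/-!
# Charts of a blow-up of an admissible formal scheme

`exists_chartAt`: near every point an admissible formal blow-up of an admissible formal `R`-scheme is the formal
spectrum of an admissible `R`-algebra.
-/

universe u

open CategoryTheory CategoryTheory.Limits TopologicalSpace Opposite AlgebraicGeometry

namespace Groth.Agent.FBlowLib

variable {𝔛 𝔛' : FSch.Sys.{u}} (h : 𝔛.IsFormal) (h' : 𝔛'.IsFormal) {R : Type u} [CommRing R] {I : Ideal R}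
  (p : 𝔛 ⟶ FSch.spf R I)

set_option maxHeartbeats 1600000 in
theorem exists_chartAt (hR : AdicRing.IsBase R I) (hp : FSch.IsAdicHom p)
    (hfp : ∀ n, LocallyOfFinitePresentation ((p : FSch.Hom 𝔛 (FSch.spf R I)).app n))
    (htf : ∀ (U : (𝔛.X 0).Opens) (s : (𝔛.Osh h).obj.obj (Opposite.op U)),
      (∀ a ∈ (FBlow.IdealSh.ker (𝔛.OshProj h 0)).sect U, a * s = 0) → s = 0)
    (J : FBlow.IdealSh (𝔛.Osh h)) (hJ : FBlow.IsCohOpen 𝔛 h J)
    (b : 𝔛' ⟶ 𝔛) (hb : FBlow.IsAdmBlowUp b h' h J) (x' : 𝔛'.X 0) :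
    ∃ (B : Type u) (_ : CommRing B) (_ : Algebra R B), AdicRing.Admissible R I B ∧
      ∃ (hB : (FSch.spf B (I.map (algebraMap R B))).IsFormal) (w : FSch.spf B (I.map (algebraMap R B)) ⟶ 𝔛'),
        (∀ n, IsOpenImmersion ((w : FSch.Hom _ 𝔛').app n)) ∧
        x' ∈ Set.range ((w : FSch.Hom _ 𝔛').app 0).base ∧
        ∀ n, (w : FSch.Hom _ 𝔛').app n ≫ (b : FSch.Hom 𝔛' 𝔛).app n ≫ rS p n =
          FSch.spfToSpec B (I.map (algebraMap R B)) n ≫ Spec.map (CommRingCat.ofHom (algebraMap R B)) := by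
  obtain ⟨A, _, _, hA, hF, θ, hop, had, hxθ, hθR, r, f, k, hopen, hcent⟩ :=
    exists_localModel h p hR hp hfp htf J hJ (((b : FSch.Hom 𝔛' 𝔛).app 0).base x')
  haveI := hop
  let O : (𝔛'.X 0).Opens := (b : FSch.Hom 𝔛' 𝔛).app 0 ⁻¹ᵁ ((θ : FSch.Hom _ 𝔛).app 0).opensRange
  let 𝔜 := 𝔛'.restrictOpen h' O
  let ι' : 𝔜 ⟶ 𝔛' := 𝔛'.restrictOpenι h' O
  have hι' : ∀ n, IsOpenImmersion ((ι' : FSch.Hom 𝔜 𝔛').app n) := fun n =>
    inferInstanceAs (IsOpenImmersion (𝔛'.lvU h' n O).ι)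
  have h𝔜 : 𝔜.IsFormal := FSchLib.isFormal_restrictOpen h' O
  have hmem : ∀ z, z ∈ 𝔛'.lvU h' 0 O ↔ z ∈ O := fun z => by
    change (𝔛'.gInv h' 0).hom z ∈ O ↔ _
    rw [show (𝔛'.gInv h' 0).hom z = z from ConcreteCategory.congr_hom (𝔛'.toX_base_gInv h' 0) z]
  have hrange : Set.range (((ι' ≫ b : 𝔜 ⟶ 𝔛) : FSch.Hom 𝔜 𝔛).app 0).base ⊆
      Set.range ((θ : FSch.Hom _ 𝔛).app 0).base := by
    rintro _ ⟨⟨z, hz⟩, rfl⟩
    exact (hmem z).mp hz
  obtain ⟨b'', hb'', -⟩ := existsUnique_lift θ h𝔜 (ι' ≫ b) hrange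
  have hι'ad : FSch.IsAdicHom ι' := FSchLib.isAdicHom_restrictOpenι h' O
  have hblow := isAdmBlowUp_of_openImmersion h hF h' h𝔜 hb θ had ι' hι'ad b'' hb''
    (fun z hz => ⟨⟨z, (hmem z).mpr hz⟩, rfl⟩)
  rw [hcent] at hblow
  let r' : ∀ n, 𝔜.X n ⟶ Spec (CommRingCat.of A) := fun n =>
    (b'' : FSch.Hom 𝔜 _).app n ≫ FSch.spfToSpec A (I.map (algebraMap R A)) n
  have hr' : ∀ n, 𝔜.ι n ≫ r' (n + 1) = r' n := comp_comm b'' _ (FSch.spfToSpec_comm A _)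
  have hinv : (centre 𝔜 h𝔜 r' hr' (Ideal.span (Set.range f))).IsInvertible := by
    rw [← idealMap_centre (Ideal.span (Set.range f)) h𝔜 b'' r' hr' (fun n => rfl)]
    exact hblow.2.1
  obtain ⟨i, Vi, hxVi, hgen⟩ := exists_mem_locus f 𝔜 h𝔜 r' hr' hinv
    ⟨x', (hmem x').mpr (show ((b : FSch.Hom 𝔛' 𝔛).app 0).base x' ∈ Set.range ((θ : FSch.Hom _ 𝔛).app 0).base from hxθ)⟩
  have hI := ValTate.isBase_fg hR
  have hB := isFormal_spf (I.map (algebraMap R (AdicRing.chartAdm I f i)))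
  have hle : (I.map (algebraMap R A)) ≤ (I.map (algebraMap R (AdicRing.chartAdm I f i))).comap
      (algebraMap A (AdicRing.chartAdm I f i)) := by
    rw [← Ideal.map_le_iff_le_comap, Ideal.map_map, ← IsScalarTower.algebraMap_eq]
  obtain ⟨u, hu, hou, hru⟩ := exists_chart_openImmersion I hI f k hopen hF 𝔜 h𝔜 b'' hblow r' hr' (fun n => rfl)
    i hB hle
  refine ⟨AdicRing.chartAdm I f i, inferInstance, inferInstance, admissible_chartAdm f i hR hA k hopen, hB,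
    u ≫ ι', fun n => ?_, ?_, fun n => ?_⟩
  · haveI := hou n
    haveI := hι' n
    exact inferInstanceAs (IsOpenImmersion ((u : FSch.Hom _ 𝔜).app n ≫ (ι' : FSch.Hom 𝔜 𝔛').app n))
  · obtain ⟨z, hz⟩ := hru.ge ⟨Vi, hxVi, hgen⟩
    refine ⟨z, ?_⟩
    change ((ι' : FSch.Hom 𝔜 𝔛').app 0).base (((u : FSch.Hom _ 𝔜).app 0).base z) = x'
    rw [hz]
    rfl
  · have h1 : (ι' : FSch.Hom 𝔜 𝔛').app n ≫ (b : FSch.Hom 𝔛' 𝔛).app n =
        (b'' : FSch.Hom 𝔜 _).app n ≫ (θ : FSch.Hom _ 𝔛).app n :=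
      (congrArg (fun m : 𝔜 ⟶ 𝔛 => (m : FSch.Hom 𝔜 𝔛).app n) hb'').symm
    have h2 : (u : FSch.Hom _ 𝔜).app n ≫ (b'' : FSch.Hom 𝔜 _).app n =
        (FSch.spfMap (I.map (algebraMap R (AdicRing.chartAdm I f i))) (I.map (algebraMap R A))
          (algebraMap A (AdicRing.chartAdm I f i)) hle : FSch.Hom _ _).app n :=
      congrArg (fun m : FSch.spf (AdicRing.chartAdm I f i) (I.map (algebraMap R (AdicRing.chartAdm I f i))) ⟶
        FSch.spf A (I.map (algebraMap R A)) => (m : FSch.Hom _ _).app n) hu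
    change ((u : FSch.Hom _ 𝔜).app n ≫ (ι' : FSch.Hom 𝔜 𝔛').app n) ≫ (b : FSch.Hom 𝔛' 𝔛).app n ≫ rS p n = _
    rw [Category.assoc, ← Category.assoc ((ι' : FSch.Hom 𝔜 𝔛').app n), h1, Category.assoc, hθR,
      ← Category.assoc, h2, ← Category.assoc, ← spfToSpec_comp_specMap, Category.assoc, ← Spec.map_comp,
      ← CommRingCat.ofHom_comp, ← IsScalarTower.algebraMap_eq]

end Groth.Agent.FBlowLib
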