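import Groth.Agent.FBlowLib.ToAffine

/-!
# The completion of a blow-up of an affine scheme is an admissible formal blow-up

`isAdicHom_of_ker`: a morphism of systems embedded in schemes is adic when the kernels pull back to one
another.  `isInvertible_centre_of_effCartier`: an effective Cartier ideal containing a power of `𝓚` stays
invertible on the completion along `𝓚`.  `isAdmBlowUp_of_isBlowUp`: a system adically embedded in a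
blow-up has the universal property of the admissible formal blowing-up.
-/

universe u

open CategoryTheory CategoryTheory.Limits TopologicalSpace Opposite AlgebraicGeometry

namespace Groth.Agent.FBlowLib

section Adic

variable {𝔛 𝔜 : FSch.Sys.{u}} (f : 𝔛 ⟶ 𝔜) {P Q : Scheme.{u}} (F : P ⟶ Q)
  (a : ∀ n, 𝔛.X n ⟶ P) (b : ∀ n, 𝔜.X n ⟶ Q) [∀ n, IsClosedImmersion (a n)] [∀ n, IsClosedImmersion (b n)]

theorem isPullback_of_ker (hsq : ∀ n, a n ≫ F = (f : FSch.Hom 𝔛 𝔜).app n ≫ b n)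
    (hker : ∀ n, (b n).ker.comap F = (a n).ker) (n : ℕ) :
    IsPullback (a n) ((f : FSch.Hom 𝔛 𝔜).app n) F (b n) :=
  isPullback_of_isClosedImmersion (a n) (b n) _ F (hsq n) (hker n)

theorem isAdicHom_of_ker (ha : ∀ n, 𝔛.ι n ≫ a (n + 1) = a n) (hb : ∀ n, 𝔜.ι n ≫ b (n + 1) = b n)
    (hsq : ∀ n, a n ≫ F = (f : FSch.Hom 𝔛 𝔜).app n ≫ b n)
    (hker : ∀ n, (b n).ker.comap F = (a n).ker) : FSch.IsAdicHom f := fun n => by
  refine IsPullback.of_right ?_ ((f : FSch.Hom 𝔛 𝔜).comm n).symm (isPullback_of_ker f F a b hsq hker (n + 1))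
  rw [ha, hb]
  exact isPullback_of_ker f F a b hsq hker n

end Adic

section Invertible

variable {A : Type u} [CommRing A] (J 𝔞 : Ideal A) (k : ℕ) (hk : J ^ k ≤ 𝔞)
  {P : Scheme.{u}} (q : P ⟶ Spec (CommRingCat.of A))

variable (𝔛 : FSch.Sys.{u}) (h : 𝔛.IsFormal) (a : ∀ n, 𝔛.X n ⟶ P)
  (ha : ∀ n, 𝔛.ι n ≫ a (n + 1) = a n) [∀ n, IsClosedImmersion (a n)]
  (hker : ∀ n, (a n).ker = (FSch.idealSpec A J).comap q ^ (n + 1))
  (r : ∀ n, 𝔛.X n ⟶ Spec (CommRingCat.of A)) (hr : ∀ n, 𝔛.ι n ≫ r (n + 1) = r n)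
  (hra : ∀ n, a n ≫ q = r n)

include hk hker ha hra in
theorem isInvertible_centre_of_effCartier
    (hcart : BlowUp.IsEffCartierIdeal ((FSch.idealSpec A 𝔞).comap q)) :
    (centre 𝔛 h r hr 𝔞).IsInvertible := by
  refine (isInvertible_centre_iff 𝔛 h r hr 𝔞).mpr fun x => ?_
  obtain ⟨W, hxW, f, hf, hW⟩ := hcart ((a 0).base x)
  let φ : A →+* Γ(P, W.1) := ((Scheme.ΓSpecIso (CommRingCat.of A)).inv ≫ q.appLE ⊤ W.1 le_top).hom
  have hideal : ∀ L : Ideal A, ((FSch.idealSpec A L).comap q).ideal W = L.map φ := fun L => by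
    rw [FSchLib.ideal_comap_eq_map q _ W ⟨⊤, isAffineOpen_top _⟩ le_top, FSchLib.idealSpec_ideal_top,
      Ideal.map_map]
    rfl
  rw [hideal] at hW
  let V : (𝔛.X 0).Opens := a 0 ⁻¹ᵁ W.1
  have hρ : ∀ c, rho 𝔛 h r hr V c = pull 𝔛 h a ha (le_refl V) (φ c) := fun c =>
    (pull_comp 𝔛 h a ha q r hr hra (le_top : W.1 ≤ q ⁻¹ᵁ ⊤) (le_refl V) le_top _).symm
  refine ⟨V, pull 𝔛 h a ha (le_refl V) f, hxW, ?_, fun c hc => ?_, fun V' i t ht => ?_⟩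
  · rw [show rho 𝔛 h r hr V = (pull 𝔛 h a ha (le_refl V)).comp φ from RingHom.ext hρ, ← Ideal.map_map, hW]
    exact Ideal.mem_map_of_mem _ (Ideal.mem_span_singleton_self f)
  · obtain ⟨t, ht⟩ := Ideal.mem_span_singleton'.mp (hW ▸ Ideal.mem_map_of_mem φ hc)
    exact ⟨pull 𝔛 h a ha (le_refl V) t, by rw [hρ, ← map_mul, ht]⟩
  · refine eq_zero_of_mul_pull_eq_zero 𝔛 h a ha ((FSch.idealSpec A J).comap q) hker W f hf k ?_
      (i.trans (le_refl V)) t ?_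
    · rw [hideal, ← Ideal.map_pow, ← hW]
      exact Ideal.map_mono hk
    · rw [← ht]
      congr 1
      exact (res_pull 𝔛 h a ha (le_refl V) i f).symm

end Invertible

section UP

variable {A : Type u} [CommRing A] {𝔛 𝔛' : FSch.Sys.{u}} (h : 𝔛.IsFormal) (h' : 𝔛'.IsFormal)
  (b : 𝔛' ⟶ 𝔛) (J 𝔞 : Ideal A) (k : ℕ) (hk : J ^ k ≤ 𝔞)
  {P : Scheme.{u}} (q : P ⟶ Spec (CommRingCat.of A))
  (a : ∀ n, 𝔛'.X n ⟶ P) (ha : ∀ n, 𝔛'.ι n ≫ a (n + 1) = a n) [∀ n, IsClosedImmersion (a n)]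
  (hker : ∀ n, (a n).ker = (FSch.idealSpec A J).comap q ^ (n + 1))
  (r : ∀ n, 𝔛.X n ⟶ Spec (CommRingCat.of A)) [∀ n, IsClosedImmersion (r n)]
  (hr : ∀ n, 𝔛.ι n ≫ r (n + 1) = r n)
  (hkerr : ∀ n, (r n).ker = FSch.idealSpec A J ^ (n + 1))
  (hsq : ∀ n, a n ≫ q = (b : FSch.Hom 𝔛' 𝔛).app n ≫ r n)

include hk ha hker hkerr hsq in
theorem isAdmBlowUp_of_isBlowUp (hq : BlowUp.IsBlowUp q (FSch.idealSpec A 𝔞)) :
    FBlow.IsAdmBlowUp b h' h (centre 𝔛 h r hr 𝔞) := by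
  have hker' : ∀ n, (r n).ker.comap q = (a n).ker := fun n => by
    rw [hkerr, hker, FSchLib.comap_pow]
  have hr' : ∀ n, 𝔛'.ι n ≫ ((b : FSch.Hom 𝔛' 𝔛).app (n + 1) ≫ r (n + 1)) =
      (b : FSch.Hom 𝔛' 𝔛).app n ≫ r n := fun n => by
    rw [← Category.assoc, ← (b : FSch.Hom 𝔛' 𝔛).comm n, Category.assoc, hr]
  refine ⟨isAdicHom_of_ker b q a r ha hr hsq hker', ?_, fun 𝔜 h𝔜 g _ hinv => ?_⟩
  · rw [idealMap_centre 𝔞 h' b _ hr' fun n => rfl]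
    exact isInvertible_centre_of_effCartier J 𝔞 k hk q 𝔛' h' a ha hker _ hr' hsq hq.1
  have hg : ∀ n, 𝔜.ι n ≫ ((g : FSch.Hom 𝔜 𝔛).app (n + 1) ≫ r (n + 1)) =
      (g : FSch.Hom 𝔜 𝔛).app n ≫ r n := fun n => by
    rw [← Category.assoc, ← (g : FSch.Hom 𝔜 𝔛).comm n, Category.assoc, hr]
  rw [idealMap_centre 𝔞 h𝔜 g _ hg fun n => rfl] at hinv
  obtain ⟨K, ⟨hKι, hKq⟩, hK⟩ := existsUnique_family q 𝔜 h𝔜 _ hg 𝔞 hq hinv
  have hp := isPullback_of_ker b q a r hsq hker'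
  let κ : ∀ n, 𝔜.X n ⟶ 𝔛'.X n := fun n => (hp n).lift (K n) ((g : FSch.Hom 𝔜 𝔛).app n) (hKq n)
  have hκ1 : ∀ n, κ n ≫ a n = K n := fun n => (hp n).lift_fst ..
  have hκ2 : ∀ n, κ n ≫ (b : FSch.Hom 𝔛' 𝔛).app n = (g : FSch.Hom 𝔜 𝔛).app n := fun n => (hp n).lift_snd ..
  refine ⟨⟨κ, fun n => (hp (n + 1)).hom_ext ?_ ?_⟩, FSch.Hom.ext (funext hκ2), fun κ' hκ' => ?_⟩
  · rw [Category.assoc, ha, hκ1, Category.assoc, hκ1, hKι]
  · rw [Category.assoc, Category.assoc, hκ2, ← (b : FSch.Hom 𝔛' 𝔛).comm n, ← Category.assoc, hκ2,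
      (g : FSch.Hom 𝔜 𝔛).comm n]
  · have h2 : ∀ n, (κ' : FSch.Hom 𝔜 𝔛').app n ≫ (b : FSch.Hom 𝔛' 𝔛).app n = (g : FSch.Hom 𝔜 𝔛).app n :=
      fun n => congrArg (fun m : 𝔜 ⟶ 𝔛 => (m : FSch.Hom 𝔜 𝔛).app n) hκ'
    have hK' := hK (fun n => (κ' : FSch.Hom 𝔜 𝔛').app n ≫ a n)
      ⟨fun n => by rw [← Category.assoc, ← (κ' : FSch.Hom 𝔜 𝔛').comm n, Category.assoc, ha],
        fun n => by rw [Category.assoc, hsq, ← Category.assoc, h2]⟩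
    refine FSch.Hom.ext (funext fun n => (hp n).hom_ext ?_ ?_)
    · exact (congrFun hK' n).trans (hκ1 n).symm
    · exact (h2 n).trans (hκ2 n).symm

end UP

end Groth.Agent.FBlowLib
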