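import Groth.Agent.FBlowLib.OpenGlue
import Groth.Agent.FBlowLib.Completion
import Groth.Agent.FBlowLib.Admissible
import Groth.Agent.FBlowLib.ChartIso
import Groth.Agent.BlowUpLib.Exists

/-!
# Blow-ups over open subsets; existence over a formal spectrum

`IsBlowUpOn h J V c`: the blow-up of `J` over the open `V`, as a morphism to the whole system.
-/

universe u

open CategoryTheory CategoryTheory.Limits TopologicalSpace Opposite AlgebraicGeometry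

namespace Groth.Agent.FBlowLib

variable {𝔛 : FSch.Sys.{u}} (h : 𝔛.IsFormal) (J : FBlow.IdealSh (𝔛.Osh h))

/-- `c` is a blow-up of `J` over the open `V`. -/
structure IsBlowUpOn (V : (𝔛.X 0).Opens) {ℨ : FSch.Sys.{u}} (hZ : ℨ.IsFormal) (c : ℨ ⟶ 𝔛) : Prop where
  adic : FSch.IsAdicHom c
  inv : (FBlow.idealMap c hZ h J).IsInvertible
  range : Set.range ((c : FSch.Hom ℨ 𝔛).app 0).base ⊆ V
  lift : ∀ (𝔜 : FSch.Sys.{u}) (hY : 𝔜.IsFormal) (g : 𝔜 ⟶ 𝔛), FSch.IsAdicHom g →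
    (FBlow.idealMap g hY h J).IsInvertible → Set.range ((g : FSch.Hom 𝔜 𝔛).app 0).base ⊆ V →
    ∃! k : 𝔜 ⟶ ℨ, k ≫ c = g

variable {h J}

/-- A blow-up of an open subsystem is a blow-up over its image. -/
theorem IsBlowUpOn.of_openImmersion {𝔜 ℨ : FSch.Sys.{u}} (hY : 𝔜.IsFormal) (hZ : ℨ.IsFormal) (θ : 𝔜 ⟶ 𝔛)
    [∀ n, IsOpenImmersion ((θ : FSch.Hom 𝔜 𝔛).app n)] (hθ : FSch.IsAdicHom θ) (b : ℨ ⟶ 𝔜)
    (hb : FBlow.IsAdmBlowUp b hZ hY (FBlow.idealMap θ hY h J)) :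
    IsBlowUpOn h J ((θ : FSch.Hom 𝔜 𝔛).app 0).opensRange hZ (b ≫ θ) := by
  refine ⟨isAdicHom_comp hb.1 hθ, ?_, ?_, fun 𝔜' hY' g hg hinv hr => ?_⟩
  · rw [← idealMap_comp h hY hZ θ b J]; exact hb.2.1
  · rintro _ ⟨z, rfl⟩
    exact ⟨((b : FSch.Hom ℨ 𝔜).app 0).base z, rfl⟩
  obtain ⟨g', hg', hg'u⟩ := existsUnique_lift θ hY' g hr
  have hg'ad : FSch.IsAdicHom g' := isAdicHom_of_comp hθ (hg'.symm ▸ hg)
  obtain ⟨k, hk, hku⟩ := hb.2.2 𝔜' hY' g' hg'ad (by rw [idealMap_comp h hY hY' θ g' J, hg']; exact hinv)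
  refine ⟨k, show k ≫ b ≫ θ = g by rw [← Category.assoc, hk, hg'], fun q hq => hku q (hg'u (q ≫ b) ?_)⟩
  exact (Category.assoc _ _ _).trans hq

/-- The inverse image of an open. -/
theorem mem_lvU_zero {ℨ : FSch.Sys.{u}} (hZ : ℨ.IsFormal) (O : (ℨ.X 0).Opens) (z : ℨ.X 0) :
    z ∈ ℨ.lvU hZ 0 O ↔ z ∈ O := by
  change (ℨ.gInv hZ 0).hom z ∈ O ↔ _
  rw [show (ℨ.gInv hZ 0).hom z = z from ConcreteCategory.congr_hom (ℨ.toX_base_gInv hZ 0) z]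

theorem range_restrictOpenι {ℨ : FSch.Sys.{u}} (hZ : ℨ.IsFormal) (O : (ℨ.X 0).Opens) :
    Set.range ((ℨ.restrictOpenι hZ O : FSch.Hom _ ℨ).app 0).base = O := by
  change Set.range (ℨ.lvU hZ 0 O).ι.base = _
  ext z
  constructor
  · rintro ⟨w, rfl⟩; exact (mem_lvU_zero hZ O _).mp w.2
  · intro hz; exact ⟨⟨z, (mem_lvU_zero hZ O z).mpr hz⟩, rfl⟩

/-- Restriction to a smaller open. -/
theorem IsBlowUpOn.restrict {V V' : (𝔛.X 0).Opens} {ℨ : FSch.Sys.{u}} {hZ : ℨ.IsFormal} {c : ℨ ⟶ 𝔛}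
    (hc : IsBlowUpOn h J V hZ c) (hV : V' ≤ V) :
    IsBlowUpOn h J V' (FSchLib.isFormal_restrictOpen hZ ((c : FSch.Hom ℨ 𝔛).app 0 ⁻¹ᵁ V'))
      (ℨ.restrictOpenι hZ ((c : FSch.Hom ℨ 𝔛).app 0 ⁻¹ᵁ V') ≫ c) := by
  set O := (c : FSch.Hom ℨ 𝔛).app 0 ⁻¹ᵁ V'
  let ι := ℨ.restrictOpenι hZ O
  haveI : ∀ n, IsOpenImmersion ((ι : FSch.Hom _ ℨ).app n) := fun n =>
    inferInstanceAs (IsOpenImmersion (ℨ.lvU hZ n O).ι)
  have hι : FSch.IsAdicHom ι := FSchLib.isAdicHom_restrictOpenι hZ O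
  refine ⟨isAdicHom_comp hι hc.adic, ?_, ?_, fun 𝔜 hY g hg hinv hr => ?_⟩
  · rw [← idealMap_comp h hZ (FSchLib.isFormal_restrictOpen hZ O) c ι J]
    exact isInvertible_idealMap hZ _ ι hc.inv
  · rintro _ ⟨z, rfl⟩
    exact (range_restrictOpenι hZ O).le ⟨z, rfl⟩
  obtain ⟨k, hk, hku⟩ := hc.lift 𝔜 hY g hg hinv (hr.trans hV)
  obtain ⟨k', hk', hk'u⟩ := existsUnique_lift ι hY k (by
    rw [range_restrictOpenι]
    rintro _ ⟨y, rfl⟩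
    exact hr ⟨y, (ConcreteCategory.congr_hom (congrArg (fun m : 𝔜 ⟶ 𝔛 => ((m : FSch.Hom _ _).app 0).base) hk) y).symm⟩)
  refine ⟨k', show k' ≫ ι ≫ c = g by rw [← Category.assoc, hk', hk], fun q hq => hk'u q (hku (q ≫ ι) ?_)⟩
  exact (Category.assoc _ _ _).trans hq

/-- A blow-up over everything is an admissible formal blow-up. -/
theorem IsBlowUpOn.isAdmBlowUp {ℨ : FSch.Sys.{u}} {hZ : ℨ.IsFormal} {c : ℨ ⟶ 𝔛}
    (hc : IsBlowUpOn h J ⊤ hZ c) : FBlow.IsAdmBlowUp c hZ h J :=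
  ⟨hc.adic, hc.inv, fun 𝔜 hY g hg hinv => hc.lift 𝔜 hY g hg hinv (Set.subset_univ _)⟩

/-- An admissible formal blow-up is a blow-up over everything. -/
theorem isBlowUpOn_top {ℨ : FSch.Sys.{u}} {hZ : ℨ.IsFormal} {c : ℨ ⟶ 𝔛} (hc : FBlow.IsAdmBlowUp c hZ h J) :
    IsBlowUpOn h J ⊤ hZ c :=
  ⟨hc.1, hc.2.1, Set.subset_univ _, fun 𝔜 hY g hg hinv _ => hc.2.2 𝔜 hY g hg hinv⟩

/-- Endomorphisms of a blow-up over `V` are trivial. -/
theorem IsBlowUpOn.eq_id {V : (𝔛.X 0).Opens} {ℨ : FSch.Sys.{u}} {hZ : ℨ.IsFormal} {c : ℨ ⟶ 𝔛}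
    (hc : IsBlowUpOn h J V hZ c) {k : ℨ ⟶ ℨ} (hk : k ≫ c = c) : k = 𝟙 ℨ :=
  (hc.lift ℨ hZ c hc.adic hc.inv hc.range).unique hk (Category.id_comp c)

/-- The comparison of blow-ups over `V' ≤ V` is an open immersion onto the preimage of `V'`. -/
theorem IsBlowUpOn.comparison {V V' : (𝔛.X 0).Opens} (hV : V' ≤ V) {ℨ ℨ' : FSch.Sys.{u}} {hZ : ℨ.IsFormal}
    {hZ' : ℨ'.IsFormal} {c : ℨ ⟶ 𝔛} {c' : ℨ' ⟶ 𝔛} (hc : IsBlowUpOn h J V hZ c)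
    (hc' : IsBlowUpOn h J V' hZ' c') (k : ℨ' ⟶ ℨ) (hk : k ≫ c = c') :
    ∀ n, IsOpenImmersion ((k : FSch.Hom ℨ' ℨ).app n) ∧
      Set.range ((k : FSch.Hom ℨ' ℨ).app n).base = ((c : FSch.Hom ℨ 𝔛).app n).base ⁻¹' (𝔛.lvU h n V') := by
  set O := (c : FSch.Hom ℨ 𝔛).app 0 ⁻¹ᵁ V'
  let ι := ℨ.restrictOpenι hZ O
  have hr := hc.restrict hV
  obtain ⟨α, hα, -⟩ := hr.lift ℨ' hZ' c' hc'.adic hc'.inv hc'.range
  obtain ⟨β, hβ, -⟩ := hc'.lift _ _ (ι ≫ c) hr.adic hr.inv hr.range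
  have h1 : α ≫ β = 𝟙 ℨ' := hc'.eq_id (by rw [Category.assoc, hβ, hα])
  have h2 : β ≫ α = 𝟙 _ := hr.eq_id (by rw [Category.assoc, hα, hβ])
  have hkα : k = α ≫ ι := ((hc.lift ℨ' hZ' c' hc'.adic hc'.inv (hc'.range.trans hV)).unique hk
    (show (α ≫ ι) ≫ c = c' by rw [Category.assoc, hα]))
  intro n
  haveI : IsIso ((α : FSch.Hom ℨ' _).app n) :=
    ⟨(β : FSch.Hom _ ℨ').app n, congrArg (fun m : ℨ' ⟶ ℨ' => (m : FSch.Hom _ _).app n) h1,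
      congrArg (fun m : ℨ.restrictOpen hZ O ⟶ ℨ.restrictOpen hZ O => (m : FSch.Hom _ _).app n) h2⟩
  subst hkα
  refine ⟨MorphismProperty.comp_mem @IsOpenImmersion ((α : FSch.Hom ℨ' _).app n) (ℨ.lvU hZ n O).ι
    (show IsOpenImmersion ((α : FSch.Hom ℨ' _).app n) from inferInstance)
    (show IsOpenImmersion (Scheme.Opens.ι (ℨ.lvU hZ n O)) from inferInstance), ?_⟩
  change Set.range ((ℨ.lvU hZ n O).ι.base ∘ ((α : FSch.Hom ℨ' _).app n).base) = _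
  have hs : Function.Surjective ((α : FSch.Hom ℨ' _).app n).base :=
    ((α : FSch.Hom ℨ' _).app n).surjective
  refine (hs.range_comp ((ℨ.lvU hZ n O).ι.base)).trans ((Scheme.Opens.range_ι _).trans ?_)
  exact congrArg (fun U : (ℨ.X n).Opens => (U : Set (ℨ.X n))) (FSch.Hom.lvU_preimage c hZ h n V').symm

/-- Admissible formal blow-ups of formal spectra exist. -/
theorem exists_blowUp_spf {A : Type u} [CommRing A] (I : Ideal A) (𝔞 : Ideal A) (k : ℕ) (hk : I ^ k ≤ 𝔞)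
    (hA : (FSch.spf A I).IsFormal) :
    ∃ (ℨ : FSch.Sys.{u}) (hZ : ℨ.IsFormal) (b : ℨ ⟶ FSch.spf A I),
      FBlow.IsAdmBlowUp b hZ hA (centre (FSch.spf A I) hA (FSch.spfToSpec A I) (FSch.spfToSpec_comm A I) 𝔞) := by
  obtain ⟨P, q, hq⟩ := BlowUpLib.exists_isBlowUp (FSch.idealSpec A 𝔞)
  haveI : ∀ n, IsClosedImmersion (FSch.spfToSpec A I n) := fun n =>
    IsClosedImmersion.spec_of_surjective _ Ideal.Quotient.mk_surjective
  let ℨ : FSch.Sys.{u} :=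
    { X := fun n => pullback q (FSch.spfToSpec A I n)
      ι := fun n => pullback.map _ _ _ _ (𝟙 P) ((FSch.spf A I).ι n) (𝟙 _) (by simp)
        (by rw [Category.comp_id, FSch.spfToSpec_comm]) }
  let a : ∀ n, ℨ.X n ⟶ P := fun n => pullback.fst _ _
  haveI : ∀ n, IsClosedImmersion (a n) := fun n => inferInstanceAs (IsClosedImmersion (pullback.fst _ _))
  have ha : ∀ n, ℨ.ι n ≫ a (n + 1) = a n := fun n => (pullback.lift_fst _ _ _).trans (Category.comp_id _)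
  have hker : ∀ n, (a n).ker = (FSch.idealSpec A I).comap q ^ (n + 1) := fun n => by
    rw [FSchLib.ker_of_isPullback (IsPullback.of_hasPullback q (FSch.spfToSpec A I n)),
      show (FSch.spfToSpec A I n).ker = FSch.idealSpec A I ^ (n + 1) from FSchLib.ker_specQuot A I n,
      FSchLib.comap_pow]
  have hZ := (FSchLib.isFormal_isAdic_of_embedding a ha _ hker).1
  let b : ℨ ⟶ FSch.spf A I := ⟨fun n => pullback.snd _ _, fun n => (pullback.lift_snd _ _ _).symm⟩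
  exact ⟨ℨ, hZ, b, isAdmBlowUp_of_isBlowUp hA hZ b I 𝔞 k hk q a ha hker (FSch.spfToSpec A I)
    (FSch.spfToSpec_comm A I) (fun n => FSchLib.ker_specQuot A I n) (fun n => pullback.condition) hq⟩

end Groth.Agent.FBlowLib
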