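import Groth.Agent.FBlowLib.AffinePiece
import Groth.Agent.FBlowLib.OnOpen
import Groth.Agent.FlatMorDevissage.FPFlat
import Groth.Agent.ValTate.Admissible
import Mathlib.RingTheory.Ideal.GoingDown
import Mathlib.RingTheory.Valuation.ValuationRing

/-!
# Closures of open subsets of admissible formal schemes have quasi-compact complements

`isCompact_compl_closure`: in an affine open of an admissible formal scheme over a base of class (N) or (V),
the complement of the closure of any open subset is quasi-compact.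
-/

universe u

open CategoryTheory CategoryTheory.Limits TopologicalSpace Opposite AlgebraicGeometry

namespace Groth.Agent.FBlowLib

section Ring

variable {R A : Type u} [CommRing R] [CommRing A] [Algebra R A] (I : Ideal R)

theorem radical_isPrime_of_valuationRing [IsDomain R] [ValuationRing R] (hI : I ≠ ⊤) : I.radical.IsPrime := by
  refine ⟨fun h => hI (Ideal.radical_eq_top.mp h), fun {a b} hab => ?_⟩
  obtain ⟨n, hn⟩ := hab
  rcases ValuationRing.dvd_total a b with ⟨c, rfl⟩ | ⟨c, rfl⟩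
  · refine Or.inr ⟨2 * n, ?_⟩
    have e : (a * c) ^ (2 * n) = (a * (a * c)) ^ n * c ^ n := by ring
    rw [e]
    exact Ideal.mul_mem_right _ _ hn
  · refine Or.inl ⟨2 * n, ?_⟩
    have e : (b * c) ^ (2 * n) = (b * c * b) ^ n * c ^ n := by ring
    rw [e]
    exact Ideal.mul_mem_right _ _ hn

theorem isCompact_compl_closure_val [IsDomain R] [ValuationRing R] [Module.Flat R A]
    (B : Type u) [CommRing B] [Algebra R B] [Algebra.FiniteType R B] (π : A →ₐ[R] B)
    (hπ : Function.Surjective π) (hker : RingHom.ker π.toRingHom = I.map (algebraMap R A))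
    (U : Set (PrimeSpectrum B)) (hU : IsOpen U) : IsCompact (closure U)ᶜ := by
  by_cases hI : I = ⊤
  · haveI : Subsingleton (PrimeSpectrum B) := ⟨fun P Q => by
      exfalso
      have h1 : (1 : A) ∈ RingHom.ker π.toRingHom := by
        rw [hker, hI, Ideal.map_top]
        trivial
      have h2 : (1 : B) = 0 := by
        rw [← map_one π]
        exact h1
      exact P.isPrime.ne_top ((Ideal.eq_top_iff_one _).mpr (h2 ▸ zero_mem _))⟩
    exact (Set.toFinite _).isCompact
  have hp : I.radical.IsPrime := radical_isPrime_of_valuationRing I hI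
  -- generizations over the minimal prime of the base
  have hIB : ∀ P : PrimeSpectrum B, I.radical ≤ P.asIdeal.comap (algebraMap R B) := fun P => by
    refine (Ideal.IsPrime.radical_le_iff (P.isPrime.comap _)).mpr fun a ha => ?_
    have h1 : π (algebraMap R A a) = 0 :=
      RingHom.mem_ker.mp (hker.symm ▸ Ideal.mem_map_of_mem (algebraMap R A) ha)
    rw [Ideal.mem_comap, ← AlgHom.commutes π a, h1]
    exact zero_mem _
  have hgen : ∀ P : PrimeSpectrum B, ∃ Q : PrimeSpectrum B, Q ≤ P ∧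
      Q.asIdeal.comap (algebraMap R B) = I.radical := fun P => by
    haveI := hp
    haveI := P.isPrime
    let PA : Ideal A := P.asIdeal.comap π.toRingHom
    haveI : PA.IsPrime := P.isPrime.comap _
    haveI : PA.LiesOver (PA.comap (algebraMap R A)) := ⟨rfl⟩
    haveI : (PA.comap (algebraMap R A)).IsPrime := Ideal.IsPrime.comap _
    have hle : I.radical ≤ PA.comap (algebraMap R A) := fun a ha => by
      have := hIB P ha
      rw [Ideal.mem_comap, ← AlgHom.commutes π a] at this
      exact this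
    obtain ⟨Q, hQ, hQp, hQo⟩ := Ideal.exists_ideal_le_liesOver_of_le (S := A) PA hle
    have hkQ : RingHom.ker π.toRingHom ≤ Q := by
      rw [hker, Ideal.map_le_iff_le_comap]
      intro a ha
      exact (SetLike.ext_iff.mp hQo.over a).mp (Ideal.le_radical ha)
    have hQB : (Q.map π.toRingHom).IsPrime := Ideal.map_isPrime_of_surjective hπ hkQ
    refine ⟨⟨Q.map π.toRingHom, hQB⟩, ?_, ?_⟩
    · exact Ideal.map_le_iff_le_comap.mpr hQ
    · ext a
      have h1 : a ∈ I.radical ↔ algebraMap R A a ∈ Q := by rw [hQo.over]; rfl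
      rw [Ideal.mem_comap, h1, ← AlgHom.commutes π a]
      change π.toRingHom (algebraMap R A a) ∈ Q.map π.toRingHom ↔ _
      rw [← Ideal.mem_comap, Ideal.comap_map_of_surjective π.toRingHom hπ, ← RingHom.ker_eq_comap_bot,
        sup_eq_left.mpr hkQ]
  let 𝔮 : Ideal B := PrimeSpectrum.vanishingIdeal U
  have hp𝔮 : ∀ a ∈ I.radical, algebraMap R B a ∈ 𝔮 := fun a ha =>
    (PrimeSpectrum.mem_vanishingIdeal _ _).mpr fun P _ => hIB P ha
  haveI : I.radical.IsPrime := hp
  haveI : ValuationRing (R ⧸ I.radical) :=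
    { cond' := fun a b => by
        obtain ⟨a, rfl⟩ := Ideal.Quotient.mk_surjective a
        obtain ⟨b, rfl⟩ := Ideal.Quotient.mk_surjective b
        obtain ⟨c, hc | hc⟩ := ValuationRing.cond a b
        · exact ⟨Ideal.Quotient.mk _ c, Or.inl (by rw [← map_mul, hc])⟩
        · exact ⟨Ideal.Quotient.mk _ c, Or.inr (by rw [← map_mul, hc])⟩ }
  letI : Algebra (R ⧸ I.radical) (B ⧸ 𝔮) := (Ideal.Quotient.lift I.radical (algebraMap R (B ⧸ 𝔮))
    (fun a ha => Ideal.Quotient.eq_zero_iff_mem.mpr (hp𝔮 a ha))).toAlgebra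
  haveI : IsScalarTower R (R ⧸ I.radical) (B ⧸ 𝔮) := .of_algebraMap_eq fun a => rfl
  haveI : Algebra.FiniteType (R ⧸ I.radical) (B ⧸ 𝔮) :=
    Algebra.FiniteType.of_restrictScalars_finiteType R (R ⧸ I.radical) (B ⧸ 𝔮)
  haveI : Module.Flat (R ⧸ I.radical) (B ⧸ 𝔮) := by
    rw [Module.Flat.flat_iff_torsion_eq_bot_of_isBezout, eq_bot_iff]
    rintro s ⟨⟨d, hd⟩, hds⟩
    obtain ⟨b, rfl⟩ := Ideal.Quotient.mk_surjective s
    obtain ⟨d, rfl⟩ := Ideal.Quotient.mk_surjective d
    have hd' : d ∉ I.radical := fun h => nonZeroDivisors.ne_zero hd (Ideal.Quotient.eq_zero_iff_mem.mpr h)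
    rw [Submodule.mem_bot, Ideal.Quotient.eq_zero_iff_mem]
    refine (PrimeSpectrum.mem_vanishingIdeal _ _).mpr fun P hP => ?_
    obtain ⟨Q, hQP, hQ⟩ := hgen P
    have hQU : Q ∈ U := hU.stableUnderGeneralization ((PrimeSpectrum.le_iff_specializes _ _).mp hQP) hP
    have h1 : algebraMap R B d * b ∈ 𝔮 := Ideal.Quotient.eq_zero_iff_mem.mp hds
    rcases Q.isPrime.mem_or_mem ((PrimeSpectrum.mem_vanishingIdeal _ _).mp h1 Q hQU) with h2 | h2
    · exact absurd (hQ ▸ (Ideal.mem_comap.mpr h2) : d ∈ I.radical) hd'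
    · exact hQP h2
  haveI : Algebra.FinitePresentation (R ⧸ I.radical) (B ⧸ 𝔮) :=
    FlatMorDevissage.algebra_finitePresentation_of_flat (FlatMorDevissage.weakAss_finite_of_isDomain _)
  -- generators of the ideal up to the ideal of definition
  obtain ⟨n, φ, hφ⟩ := Algebra.FiniteType.iff_quotient_mvPolynomial''.mp ‹Algebra.FiniteType R B›
  let τ : MvPolynomial (Fin n) (R ⧸ I.radical) →ₐ[R ⧸ I.radical] B ⧸ 𝔮 :=
    MvPolynomial.aeval fun i => Ideal.Quotient.mk 𝔮 (φ (MvPolynomial.X i))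
  let μ : MvPolynomial (Fin n) R →+* MvPolynomial (Fin n) (R ⧸ I.radical) :=
    MvPolynomial.map (Ideal.Quotient.mk I.radical)
  have hμ : Function.Surjective μ := MvPolynomial.map_surjective _ Ideal.Quotient.mk_surjective
  have hτ : τ.toRingHom.comp μ = (Ideal.Quotient.mk 𝔮).comp φ.toRingHom := by
    refine MvPolynomial.ringHom_ext (fun a => ?_) (fun i => ?_)
    · simp only [μ, τ, RingHom.comp_apply, AlgHom.toRingHom_eq_coe, RingHom.coe_coe, MvPolynomial.map_C,
        MvPolynomial.aeval_C]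
      rw [← MvPolynomial.algebraMap_eq, φ.commutes]
      rfl
    · simp [μ, τ]
  have hτs : Function.Surjective τ := fun y => by
    obtain ⟨b, rfl⟩ := Ideal.Quotient.mk_surjective y
    obtain ⟨f, rfl⟩ := hφ b
    exact ⟨μ f, RingHom.congr_fun hτ f⟩
  obtain ⟨G, hG⟩ := Algebra.FinitePresentation.ker_fG_of_surjective τ hτs
  classical
  choose l hl using hμ
  let gs : Finset B := G.image fun g => φ (l g)
  have hgs : ∀ g ∈ gs, g ∈ 𝔮 := fun g hg => by
    obtain ⟨g', hg', rfl⟩ := Finset.mem_image.mp hg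
    refine Ideal.Quotient.eq_zero_iff_mem.mp ?_
    refine ((RingHom.congr_fun hτ (l g')).symm.trans ?_)
    rw [RingHom.comp_apply, hl]
    exact RingHom.mem_ker.mp (hG ▸ Submodule.subset_span hg')
  have hspan : ∀ P : PrimeSpectrum B, (∀ g ∈ gs, g ∈ P.asIdeal) → 𝔮 ≤ P.asIdeal := fun P hP q hq => by
    obtain ⟨f, rfl⟩ := hφ q
    have h1 : μ f ∈ RingHom.ker τ.toRingHom :=
      RingHom.mem_ker.mpr ((RingHom.congr_fun hτ f).trans (Ideal.Quotient.eq_zero_iff_mem.mpr hq))
    rw [← hG] at h1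
    have h2 : Ideal.span (G : Set (MvPolynomial (Fin n) (R ⧸ I.radical))) ≤
        (P.asIdeal.comap φ.toRingHom).map μ := Ideal.span_le.mpr fun g hg => by
      rw [← hl g]
      exact Ideal.mem_map_of_mem μ (hP _ (Finset.mem_image_of_mem _ hg))
    have h3 : RingHom.ker μ ≤ P.asIdeal.comap φ.toRingHom := by
      rw [MvPolynomial.ker_map, Ideal.mk_ker, Ideal.map_le_iff_le_comap]
      intro a ha
      rw [Ideal.mem_comap, Ideal.mem_comap, ← MvPolynomial.algebraMap_eq]
      change φ (algebraMap R _ a) ∈ _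
      rw [φ.commutes]
      exact hIB P ha
    have h4 := h2 h1
    rw [← Ideal.mem_comap, Ideal.comap_map_of_surjective _ (fun y => ⟨l y, hl y⟩), ← RingHom.ker_eq_comap_bot,
      sup_eq_left.mpr h3] at h4
    exact h4
  have heq : (closure U)ᶜ = ⋃ g ∈ gs, (PrimeSpectrum.basicOpen g : Set (PrimeSpectrum B)) := by
    rw [← PrimeSpectrum.zeroLocus_vanishingIdeal_eq_closure]
    ext P
    simp only [Set.mem_compl_iff, PrimeSpectrum.mem_zeroLocus, SetLike.coe_subset_coe, Set.mem_iUnion,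
      SetLike.mem_coe, PrimeSpectrum.mem_basicOpen, exists_prop]
    constructor
    · intro h
      by_contra hc
      exact h (hspan P fun g hg => by_contra fun hgP => hc ⟨g, hg, hgP⟩)
    · rintro ⟨g, hg, hgP⟩ h
      exact hgP (h (hgs g hg))
  rw [heq]
  exact gs.finite_toSet.isCompact_biUnion fun g _ => PrimeSpectrum.isCompact_basicOpen g

end Ring

variable {R : Type u} [CommRing R] {I : Ideal R} {𝔛 : FSch.Sys.{u}} (h : 𝔛.IsFormal) (p : 𝔛 ⟶ FSch.spf R I)

theorem isCompact_compl_closure (hR : AdicRing.IsBase R I) (hp : FSch.IsAdicHom p)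
    (hfp : ∀ n, LocallyOfFinitePresentation ((p : FSch.Hom 𝔛 (FSch.spf R I)).app n))
    (htf : ∀ (U : (𝔛.X 0).Opens) (s : (𝔛.Osh h).obj.obj (Opposite.op U)),
      (∀ a ∈ (FBlow.IdealSh.ker (𝔛.OshProj h 0)).sect U, a * s = 0) → s = 0)
    {D : (𝔛.X 0).Opens} (hD : IsAffineOpen D) (U : (𝔛.X 0).Opens) :
    IsCompact ((D : Set (𝔛.X 0)) \ closure (U : Set (𝔛.X 0))) := by
  have hI := ValTate.isBase_fg hR
  have hD0 : (𝔛.lvU h 0 D : Set (𝔛.X 0)) = D := Set.ext fun x => mem_lvU_zero h D x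
  have haff := isAffineOpen_lvU h 0 hD
  rw [← hD0, ← haff.range_fromSpec, Set.diff_eq, ← Set.image_univ, ← Set.image_inter_preimage]
  refine IsCompact.image ?_ haff.fromSpec.continuous
  rw [Set.univ_inter, Set.preimage_compl, haff.fromSpec.isOpenEmbedding.isOpenMap.preimage_closure_eq_closure_preimage
    haff.fromSpec.continuous]
  letI : Algebra R (Sec 𝔛 h D) := (baseHom h p D).toAlgebra
  letI : Algebra R Γ(𝔛.X 0, 𝔛.lvU h 0 D) := ((proj 𝔛 h 0 D).comp (baseHom h p D)).toAlgebra
  let π : Sec 𝔛 h D →ₐ[R] Γ(𝔛.X 0, 𝔛.lvU h 0 D) := { proj 𝔛 h 0 D with commutes' := fun a => rfl }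
  obtain ⟨-, hpp, hcompl⟩ := proj_props h p hD hp hI
  have hπ : Function.Surjective π := (hpp 0).1
  haveI : IsAdicComplete (I.map (algebraMap R (Sec 𝔛 h D))) (Sec 𝔛 h D) := hcompl
  haveI := (ValTate.topFinitePresentation_iff_trunc hR).mp (topFinitePresentation_sec h p hD hp hI hfp hR) 0
  haveI : Algebra.FiniteType R Γ(𝔛.X 0, 𝔛.lvU h 0 D) :=
    Algebra.FiniteType.of_surjective
      (Ideal.Quotient.liftₐ ((I ^ (0 + 1)).map (algebraMap R (Sec 𝔛 h D))) π (fun a ha => by
        exact RingHom.mem_ker.mp ((hpp 0).2.symm ▸ ha)))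
      (fun y => by
        obtain ⟨a, rfl⟩ := hπ y
        exact ⟨Ideal.Quotient.mk _ a, rfl⟩)
  rcases hR.2 with ⟨hN, -⟩ | ⟨hdom, hval, hdim, t, -, rfl⟩
  · haveI := hN
    haveI : IsNoetherianRing Γ(𝔛.X 0, 𝔛.lvU h 0 D) := Algebra.FiniteType.isNoetherianRing R _
    exact TopologicalSpace.NoetherianSpace.isCompact _
  · haveI := hdom
    haveI := hval
    haveI : ValuationRing R := {}
    haveI := hdim
    haveI : IsAdicComplete (Ideal.span {t}) R := hR.1
    haveI : Module.Flat R (Sec 𝔛 h D) :=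
      ValTate.flat_of_noPowTorsion t (Sec 𝔛 h D) (noPowTorsion_sec h p hD hp hI htf)
    refine isCompact_compl_closure_val (Ideal.span {t}) _ π hπ ?_ _ ?_
    · refine ((hpp 0).2).trans ?_
      rw [zero_add, pow_one]
      rfl
    · exact U.2.preimage haff.fromSpec.continuous

end Groth.Agent.FBlowLib
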