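import Groth.Agent.FBlowLib.AffinePiece

/-!
# Coherent open ideals on affine pieces

`exists_centre_eq`: over an affine open `V` where `J` is the preimage of finite-type ideal data at level `n`,
the pullback of `J` along the chart `Spf O_𝔛(V) ⟶ 𝔛` is the centre of a finitely generated ideal containing
the `(n+1)`-st power of the ideal of definition.
-/

universe u

open CategoryTheory CategoryTheory.Limits TopologicalSpace Opposite AlgebraicGeometry

namespace Groth.Agent.FBlowLib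

/-- Quasi-coherence: membership in `ofData` on an affine open is membership in the ideal. -/
theorem mem_ideal_of_memData {X : Scheme.{u}} (𝓘 : X.IdealSheafData) (U : X.affineOpens) {s : Γ(X, U.1)}
    (hs : FBlow.MemData 𝓘 U.1 s) : s ∈ 𝓘.ideal U := by
  let S : Set Γ(X, U.1) := {g | ∃ m : ℕ, g ^ m * s ∈ 𝓘.ideal U}
  have hspan : Ideal.span S = ⊤ := by
    rw [← U.2.self_le_iSup_basicOpen_iff]
    intro x hx
    obtain ⟨V, i, hxV, hV⟩ := hs x hx
    obtain ⟨g, hg, hxg⟩ := U.2.exists_basicOpen_le (V := V.1) ⟨x, hxV⟩ hx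
    have h1 := FBlow.res_mem_ofData 𝓘 (V := V) (W := X.affineBasicOpen g) hg hV
    replace h1 := (congrArg (· ∈ 𝓘.ideal (X.affineBasicOpen g)) (FBlow.sch_map_comp_apply i hg s)).mp h1
    rw [← 𝓘.map_ideal (U := X.affineBasicOpen g) (V := U) (hg.trans i)] at h1
    haveI := U.2.isLocalization_basicOpen g
    obtain ⟨_, ⟨m, rfl⟩, hm⟩ :=
      (IsLocalization.algebraMap_mem_map_algebraMap_iff (Submonoid.powers g) Γ(X, X.basicOpen g) _ _).1 h1
    exact Opens.mem_iSup.mpr ⟨⟨g, m, hm⟩, hxg⟩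
  refine Submodule.mem_of_span_eq_top_of_smul_pow_mem _ S hspan s ?_
  rintro ⟨g, m, hm⟩
  exact ⟨m, hm⟩

variable {𝔛 : FSch.Sys.{u}} (h : 𝔛.IsFormal) {R : Type u} [CommRing R] {I : Ideal R} (p : 𝔛 ⟶ FSch.spf R I)
  (hp : FSch.IsAdicHom p) (hI : I.FG) (J : FBlow.IdealSh (𝔛.Osh h)) {U : (𝔛.X 0).Opens} {n : ℕ}
  {𝒜 : (𝔛.X n).IdealSheafData}
  (hJ : ∀ V : (𝔛.X 0).Opens, V ≤ U → J.sect V = (FBlow.ofLevel 𝔛 h n 𝒜).sect V)
  {V : (𝔛.X 0).Opens} (hV : IsAffineOpen V)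

include hJ hV in
/-- Over an affine open the sections of `J` are the preimage of the ideal of `𝒜`. -/
theorem sect_eq_comap (hVU : V ≤ U) :
    J.sect V = (𝒜.ideal ⟨_, isAffineOpen_lvU h n hV⟩).comap (proj 𝔛 h n V) := by
  rw [hJ V hVU]
  refine le_antisymm (fun s hs => ?_) (fun s hs => ?_)
  · exact mem_ideal_of_memData 𝒜 ⟨_, isAffineOpen_lvU h n hV⟩ hs
  · intro x hx
    refine ⟨⟨_, isAffineOpen_lvU h n hV⟩, le_rfl, hx, ?_⟩
    change (𝔛.X n).presheaf.map (homOfLE le_rfl).op (proj 𝔛 h n V s) ∈ _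
    exact (congrArg (· ∈ 𝒜.ideal ⟨_, isAffineOpen_lvU h n hV⟩)
      (FBlow.IdealSh.map_id_apply (O := (𝔛.X n).sheaf) (le_refl (𝔛.lvU h n V)) (proj 𝔛 h n V s))).mpr hs

include hp hI hJ hV in
/-- Over a smaller affine open the sections are generated by those over `V` . -/
theorem sect_le_map (hVU : V ≤ U) {D : (𝔛.X 0).Opens} (hD : IsAffineOpen D) (i : D ≤ V) :
    J.sect D ≤ (J.sect V).map (res 𝔛 h i) := by
  obtain ⟨-, hppV, -⟩ := proj_props h p hV hp hI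
  obtain ⟨-, hppD, -⟩ := proj_props h p hD hp hI
  rw [sect_eq_comap h J hJ hV hVU, sect_eq_comap h J hJ hD (i.trans hVU)]
  intro s hs
  rw [Ideal.mem_comap, ← 𝒜.map_ideal (U := ⟨_, isAffineOpen_lvU h n hD⟩) (V := ⟨_, isAffineOpen_lvU h n hV⟩)
    (show 𝔛.lvU h n D ≤ 𝔛.lvU h n V from FBlow.lvU_mono 𝔛 h n i),
    ← Ideal.map_comap_of_surjective _ (hppV n).1 (𝒜.ideal ⟨_, isAffineOpen_lvU h n hV⟩), Ideal.map_map] at hs
  have hc : (((𝔛.X n).presheaf.map (homOfLE (FBlow.lvU_mono 𝔛 h n i)).op).hom.comp (proj 𝔛 h n V)) =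
      (proj 𝔛 h n D).comp (res 𝔛 h i) := RingHom.ext fun a => (proj_res 𝔛 h n i a).symm
  erw [hc, ← Ideal.map_map] at hs
  obtain ⟨t, ht, hts⟩ := (Ideal.mem_map_iff_of_surjective _ (hppD n).1).mp hs
  have hker : s - t ∈ RingHom.ker (proj 𝔛 h n D) := by rw [RingHom.mem_ker, map_sub, hts, sub_self]
  rw [(hppD n).2] at hker
  have hle : (I ^ (n + 1)).map (baseHom h p D) ≤
      ((𝒜.ideal ⟨_, isAffineOpen_lvU h n hV⟩).comap (proj 𝔛 h n V)).map (res 𝔛 h i) := by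
    have h1 : (res 𝔛 h i).comp (baseHom h p V) = baseHom h p D := RingHom.ext fun a => res_baseHom h p i a
    rw [← h1, ← Ideal.map_map]
    refine Ideal.map_mono ?_
    rw [← (hppV n).2]
    exact Ideal.comap_mono bot_le
  rw [show s = t + (s - t) by ring]
  exact Ideal.add_mem _ ht (hle hker)

include hp hI hJ hV in
/-- The pullback of `J` to the chart is the centre of `Γ(V, J)`. -/
theorem exists_centre_eq (hft : FSch.IdealFT 𝒜) (hVU : V ≤ U)
    (hF : (FSch.spf (Sec 𝔛 h V) (I.map (baseHom h p V))).IsFormal)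
    (θ : FSch.spf (Sec 𝔛 h V) (I.map (baseHom h p V)) ⟶ 𝔛)
    (e : (⊤ : ((FSch.spf (Sec 𝔛 h V) (I.map (baseHom h p V))).X 0).Opens) ≤
      (θ : FSch.Hom _ 𝔛).app 0 ⁻¹ᵁ V)
    (hθ : hpull h θ hF e = (pull _ hF (FSch.spfToSpec _ _) (FSch.spfToSpec_comm _ _) (W := ⊤) le_top).comp
      (Scheme.ΓSpecIso (CommRingCat.of (Sec 𝔛 h V))).inv.hom) :
    ∃ 𝔞 : Ideal (Sec 𝔛 h V), 𝔞.FG ∧ (I.map (baseHom h p V)) ^ (n + 1) ≤ 𝔞 ∧
      FBlow.idealMap θ hF h J =
        centre (FSch.spf (Sec 𝔛 h V) (I.map (baseHom h p V))) hF (FSch.spfToSpec _ _) (FSch.spfToSpec_comm _ _) 𝔞 := by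
  obtain ⟨-, hppV, -⟩ := proj_props h p hV hp hI
  have hρ : ∀ (W : ((FSch.spf (Sec 𝔛 h V) (I.map (baseHom h p V))).X 0).Opens) (a : Sec 𝔛 h V),
      rho _ hF (FSch.spfToSpec (Sec 𝔛 h V) (I.map (baseHom h p V))) (FSch.spfToSpec_comm _ _) W a =
        hpull h θ hF (le_top.trans e) a := fun W a => by
    have h1 := congrArg (res _ hF (le_top : W ≤ ⊤)) (RingHom.congr_fun hθ a)
    rw [res_hpull] at h1
    refine Eq.trans ?_ h1.symm
    exact (res_pull _ hF (FSch.spfToSpec _ _) (FSch.spfToSpec_comm _ _) (W := ⊤) le_top le_top _).symm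
  refine ⟨J.sect V, ?_, ?_, ?_⟩
  · rw [sect_eq_comap h J hJ hV hVU]
    refine Ideal.fg_of_fg_map_of_fg_inf_ker_of_surjective ?_ ?_ (hppV n).1
    · rw [Ideal.map_comap_of_surjective _ (hppV n).1]
      exact hft _
    · rw [inf_eq_right.mpr (show RingHom.ker (proj 𝔛 h n V) ≤ Ideal.comap (proj 𝔛 h n V) _ from Ideal.comap_mono bot_le), (hppV n).2]
      exact (hI.pow).map _
  · rw [sect_eq_comap h J hJ hV hVU, ← Ideal.map_pow, ← (hppV n).2]
    exact Ideal.comap_mono bot_le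
  · refine FBlow.IdealSh.ext (funext fun O => le_antisymm ?_ ?_)
    · refine idealMap_le_iff h hF θ J (fun W s hs O' e' => ?_) O
      refine (centre _ hF (FSch.spfToSpec (Sec 𝔛 h V) (I.map (baseHom h p V))) (FSch.spfToSpec_comm _ _)
        (J.sect V)).mem_of_local fun z hz => ?_
      obtain ⟨D, hD, hzD, hDW⟩ := Opens.isBasis_iff_nbhd.mp (𝔛.X 0).isBasis_affineOpens
        (show ((θ : FSch.Hom _ 𝔛).app 0).base z ∈ W ⊓ V from ⟨e' hz, e trivial⟩)
      refine ⟨O' ⊓ (θ : FSch.Hom _ 𝔛).app 0 ⁻¹ᵁ D, inf_le_left, ⟨hz, hzD⟩, ?_⟩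
      have h1 : res 𝔛 h (hDW.trans inf_le_left) s ∈ (J.sect V).map (res 𝔛 h (hDW.trans inf_le_right)) :=
        sect_le_map h p hp hI J hJ hV hVU hD (hDW.trans inf_le_right) (J.map_mem _ hs)
      have h2 := Ideal.mem_map_of_mem (hpull h θ hF
        (inf_le_right : O' ⊓ (θ : FSch.Hom _ 𝔛).app 0 ⁻¹ᵁ D ≤ _)) h1
      rw [hpull_res, Ideal.map_map] at h2
      change res _ hF inf_le_left (hpull h θ hF e' s) ∈ _
      rw [res_hpull]
      refine (Ideal.map_le_iff_le_comap.mpr fun a ha => ?_) h2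
      rw [Ideal.mem_comap, RingHom.comp_apply, hpull_res, ← hρ]
      exact rho_mem_centre _ hF _ _ _ _ ha
    · refine centre_le _ hF _ _ _ (fun W a ha => ?_) O
      rw [hρ]
      exact hpull_mem_idealMap h hF θ J ha _

end Groth.Agent.FBlowLib
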