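import Groth.Agent.FBlowLib.CohLocal
import Groth.Agent.FSchLib.IdealSheaf
import Mathlib.RingTheory.Localization.Finiteness

/-!
# Inverse images of coherent open ideals

`isCohOpen_idealMap`: along an adic morphism over `Spf R` the inverse image of a coherent open ideal is coherent open.
-/

universe u

open CategoryTheory CategoryTheory.Limits TopologicalSpace Opposite AlgebraicGeometry

namespace Groth.Agent.FBlowLib

/-- Finite type ideal data pull back to finite type ideal data. -/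
theorem idealFT_comap {X Y : Scheme.{u}} (f : X ⟶ Y) {𝒜 : Y.IdealSheafData} (hA : FSch.IdealFT 𝒜) :
    FSch.IdealFT (𝒜.comap f) := fun U => by
  let S : Set Γ(X, U.1) := {g | ∃ V : Y.affineOpens, X.basicOpen g ≤ f ⁻¹ᵁ V.1}
  have hspan : Ideal.span S = ⊤ := by
    rw [← U.2.self_le_iSup_basicOpen_iff]
    intro x hx
    obtain ⟨V, hV, hxV, -⟩ := Opens.isBasis_iff_nbhd.mp Y.isBasis_affineOpens
      (show f.base x ∈ (⊤ : Y.Opens) from trivial)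
    obtain ⟨g, hg, hxg⟩ := U.2.exists_basicOpen_le (V := f ⁻¹ᵁ V) ⟨x, hxV⟩ hx
    exact Opens.mem_iSup.mpr ⟨⟨g, ⟨V, hV⟩, hg⟩, hxg⟩
  refine Ideal.fg_of_localizationSpan S hspan fun ⟨g, V, hg⟩ => ?_
  haveI := U.2.isLocalization_basicOpen g
  let e : Γ(X, X.basicOpen g) ≃ₐ[Γ(X, U.1)] Localization.Away g :=
    IsLocalization.algEquiv (Submonoid.powers g) _ _
  have h1 : ((𝒜.comap f).ideal (X.affineBasicOpen g)).FG := by
    rw [FSchLib.ideal_comap_eq_map f 𝒜 (X.affineBasicOpen g) V hg]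
    exact (hA V).map _
  rw [← (𝒜.comap f).map_ideal (U := X.affineBasicOpen g) (V := U) (X.basicOpen_le g)] at h1
  have h2 := h1.map e.toRingEquiv.toRingHom
  refine Eq.mp (congrArg Submodule.FG ((Ideal.map_map _ _).trans ?_)) h2
  exact congrArg (fun φ => Ideal.map φ ((𝒜.comap f).ideal U)) (RingHom.ext fun a => e.commutes a)

variable {𝔛 𝔜 : FSch.Sys.{u}} (h : 𝔛.IsFormal) (h' : 𝔜.IsFormal) {R : Type u} [CommRing R] {I : Ideal R}
  (p : 𝔛 ⟶ FSch.spf R I) (f : 𝔜 ⟶ 𝔛)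

theorem hpull_baseHom {V : (𝔛.X 0).Opens} {W : (𝔜.X 0).Opens}
    (e : W ≤ (f : FSch.Hom 𝔜 𝔛).app 0 ⁻¹ᵁ V) (a : R) :
    hpull h f h' e (baseHom h p V a) = baseHom h' (f ≫ p) W a :=
  hpull_rho (h := h) (hr := rS_comm p) h' f (rS (f ≫ p)) (rS_comm (f ≫ p))
    (fun n => (Category.assoc _ _ _).symm) e a

theorem isCohOpen_idealMap (hp : FSch.IsAdicHom p) (hf : FSch.IsAdicHom f) (hI : I.FG)
    {J : FBlow.IdealSh (𝔛.Osh h)} (hJ : FBlow.IsCohOpen 𝔛 h J) :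
    FBlow.IsCohOpen 𝔜 h' (FBlow.idealMap f h' h J) := by
  intro y
  obtain ⟨U, hyU, n, 𝒜, hft, hJU⟩ := hJ (((f : FSch.Hom 𝔜 𝔛).app 0).base y)
  refine ⟨(f : FSch.Hom 𝔜 𝔛).app 0 ⁻¹ᵁ U, hyU, n, 𝒜.comap ((f : FSch.Hom 𝔜 𝔛).app n),
    idealFT_comap _ hft, fun O hO => le_antisymm ?_ ?_⟩
  · intro s hs
    refine (FBlow.ofLevel 𝔜 h' n _).mem_of_local fun z hz => ?_
    obtain ⟨W, i, hzW, hW⟩ := exists_mem_span_of_mem_idealMap h h' f J hs hz
    refine ⟨W, i, hzW, (Ideal.span_le.mpr ?_ : _ ≤ (FBlow.ofLevel 𝔜 h' n _).sect W) hW⟩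
    rintro _ ⟨U', e, a, ha, rfl⟩
    refine (FBlow.ofLevel 𝔜 h' n _).mem_of_local fun w hw => ?_
    obtain ⟨D, hD, hwD, hDle⟩ := Opens.isBasis_iff_nbhd.mp (𝔛.X 0).isBasis_affineOpens
      (show ((f : FSch.Hom 𝔜 𝔛).app 0).base w ∈ U' ⊓ U from ⟨e hw, hO (i hw)⟩)
    obtain ⟨D', hD', hwD', hD'le⟩ := Opens.isBasis_iff_nbhd.mp (𝔜.X 0).isBasis_affineOpens
      (show w ∈ W ⊓ (f : FSch.Hom 𝔜 𝔛).app 0 ⁻¹ᵁ D from ⟨hw, hwD⟩)
    refine ⟨D', hD'le.trans inf_le_left, hwD', ?_⟩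
    change res 𝔜 h' _ (hpull h f h' e a) ∈ _
    rw [res_hpull, ← hpull_res h f h' (hDle.trans inf_le_left) (hD'le.trans inf_le_right)]
    intro z hz
    refine ⟨⟨_, isAffineOpen_lvU h' n hD'⟩, le_rfl, hz, ?_⟩
    have h1 : proj 𝔛 h n D (res 𝔛 h (hDle.trans inf_le_left) a) ∈ 𝒜.ideal ⟨_, isAffineOpen_lvU h n hD⟩ := by
      have := (sect_eq_comap h J hJU hD (hDle.trans inf_le_right)).le (J.map_mem (hDle.trans inf_le_left) ha)
      exact this
    refine (congrArg (· ∈ _) (FBlow.IdealSh.map_id_apply (O := (𝔜.X n).sheaf) (le_refl (𝔜.lvU h' n D')) _)).mpr ?_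
    rw [FSchLib.ideal_comap_eq_map _ 𝒜 ⟨_, isAffineOpen_lvU h' n hD'⟩ ⟨_, isAffineOpen_lvU h n hD⟩
      (lvU_le_hom h f h' (hD'le.trans inf_le_right) n)]
    refine (congrArg (· ∈ _) (proj_hpull h f h' (hD'le.trans inf_le_right) n _)).mpr ?_
    exact Ideal.mem_map_of_mem _ h1
  · intro s hs
    refine (FBlow.idealMap f h' h J).mem_of_local fun z hz => ?_
    obtain ⟨D, hD, hzD, hDU⟩ := Opens.isBasis_iff_nbhd.mp (𝔛.X 0).isBasis_affineOpens
      (show ((f : FSch.Hom 𝔜 𝔛).app 0).base z ∈ U from hO hz)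
    obtain ⟨D', hD', hzD', hD'le⟩ := Opens.isBasis_iff_nbhd.mp (𝔜.X 0).isBasis_affineOpens
      (show z ∈ O ⊓ (f : FSch.Hom 𝔜 𝔛).app 0 ⁻¹ᵁ D from ⟨hz, hzD⟩)
    refine ⟨D', hD'le.trans inf_le_left, hzD', ?_⟩
    obtain ⟨-, hppD, -⟩ := proj_props h p hD hp hI
    obtain ⟨-, hppD', -⟩ := proj_props h' (f ≫ p) hD' (isAdicHom_comp hf hp) hI
    have h1 : res 𝔜 h' (hD'le.trans inf_le_left) s ∈ (FBlow.ofLevel 𝔜 h' n
        (𝒜.comap ((f : FSch.Hom 𝔜 𝔛).app n))).sect D' := (FBlow.ofLevel 𝔜 h' n _).map_mem _ hs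
    replace h1 := mem_ideal_of_memData _ ⟨_, isAffineOpen_lvU h' n hD'⟩ h1
    rw [FSchLib.ideal_comap_eq_map _ 𝒜 ⟨_, isAffineOpen_lvU h' n hD'⟩ ⟨_, isAffineOpen_lvU h n hD⟩
      (lvU_le_hom h f h' (hD'le.trans inf_le_right) n),
      ← Ideal.map_comap_of_surjective _ (hppD n).1 (𝒜.ideal ⟨_, isAffineOpen_lvU h n hD⟩), Ideal.map_map] at h1
    have hc : (((f : FSch.Hom 𝔜 𝔛).app n).appLE (𝔛.lvU h n D) (𝔜.lvU h' n D')
        (lvU_le_hom h f h' (hD'le.trans inf_le_right) n)).hom.comp (proj 𝔛 h n D) =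
        (proj 𝔜 h' n D').comp (hpull h f h' (hD'le.trans inf_le_right)) :=
      RingHom.ext fun a => (proj_hpull h f h' _ n a).symm
    erw [hc, ← Ideal.map_map] at h1
    obtain ⟨t, ht, hts⟩ := (Ideal.mem_map_iff_of_surjective _ (hppD' n).1).mp h1
    have hker : res 𝔜 h' (hD'le.trans inf_le_left) s - t ∈ RingHom.ker (proj 𝔜 h' n D') := by
      rw [RingHom.mem_ker, map_sub, sub_eq_zero]
      exact hts.symm
    rw [(hppD' n).2] at hker
    have hJD : ∀ a ∈ (𝒜.ideal ⟨_, isAffineOpen_lvU h n hD⟩).comap (proj 𝔛 h n D),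
        hpull h f h' (hD'le.trans inf_le_right) a ∈ (FBlow.idealMap f h' h J).sect D' := fun a ha =>
      hpull_mem_idealMap h h' f J ((sect_eq_comap h J hJU hD hDU).ge ha) _
    have h2 : t ∈ (FBlow.idealMap f h' h J).sect D' :=
      (Ideal.map_le_iff_le_comap (f := hpull h f h' (hD'le.trans inf_le_right))
        (I := (𝒜.ideal ⟨_, isAffineOpen_lvU h n hD⟩).comap (proj 𝔛 h n D)) (K := (FBlow.idealMap f h' h J).sect D')).mpr (fun a ha => hJD a ha) ht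
    have h3 : res 𝔜 h' (hD'le.trans inf_le_left) s - t ∈ (FBlow.idealMap f h' h J).sect D' := by
      refine (Ideal.map_le_iff_le_comap.mpr fun a ha => ?_) hker
      rw [Ideal.mem_comap, ← hpull_baseHom h h' p f (hD'le.trans inf_le_right)]
      refine hJD _ (Ideal.comap_mono bot_le ?_)
      change baseHom h p D a ∈ RingHom.ker (proj 𝔛 h n D)
      rw [(hppD n).2]
      exact Ideal.mem_map_of_mem _ ha
    have h4 := Ideal.add_mem _ h2 h3
    rw [add_sub_cancel] at h4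
    exact h4

end Groth.Agent.FBlowLib
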