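import Groth.Agent.FBlowLib.AffinePiece

/-!
# Products of ideal sheaves and invertibility
-/

universe u

open CategoryTheory CategoryTheory.Limits TopologicalSpace Opposite AlgebraicGeometry

namespace Groth.Agent.FBlowLib

section Formal

variable {𝔛 𝔜 : FSch.Sys.{u}} (h : 𝔛.IsFormal) (h' : 𝔜.IsFormal)

theorem mul_mem_mul {J K : FBlow.IdealSh (𝔛.Osh h)} {V : (𝔛.X 0).Opens} {a b : Sec 𝔛 h V}
    (ha : a ∈ J.sect V) (hb : b ∈ K.sect V) : a * b ∈ (FBlow.IdealSh.mul J K).sect V :=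
  FBlow.IdealSh.subset_gen _ V ⟨a, ha, b, hb, rfl⟩

theorem exists_mem_of_mem_mul {J K : FBlow.IdealSh (𝔛.Osh h)} {U : (𝔛.X 0).Opens} {s : Sec 𝔛 h U}
    (hs : s ∈ (FBlow.IdealSh.mul J K).sect U) {x : 𝔛.X 0} (hx : x ∈ U) :
    ∃ (V : (𝔛.X 0).Opens) (i : V ≤ U), x ∈ V ∧ res 𝔛 h i s ∈ J.sect V * K.sect V := by
  obtain ⟨V, i, hxV, hV⟩ := hs x hx
  refine ⟨V, i, hxV, (Ideal.span_le.mpr ?_ : _ ≤ J.sect V * K.sect V) hV⟩
  rintro _ ⟨W, j, t, ⟨a, ha, b, hb, rfl⟩, rfl⟩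
  rw [map_mul]
  exact Ideal.mul_mem_mul (J.map_mem j ha) (K.map_mem j hb)

/-- Inverse image commutes with products. -/
theorem idealMap_mul (f : 𝔜 ⟶ 𝔛) (J K : FBlow.IdealSh (𝔛.Osh h)) :
    FBlow.idealMap f h' h (FBlow.IdealSh.mul J K) =
      FBlow.IdealSh.mul (FBlow.idealMap f h' h J) (FBlow.idealMap f h' h K) := by
  refine FBlow.IdealSh.ext (funext fun O => le_antisymm ?_ ?_)
  · refine idealMap_le_iff h h' f _ (fun W s hs V e => ?_) O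
    refine (FBlow.IdealSh.mul (FBlow.idealMap f h' h J) (FBlow.idealMap f h' h K)).mem_of_local fun z hz => ?_
    obtain ⟨U, i, hzU, hU⟩ := exists_mem_of_mem_mul h hs (e hz)
    refine ⟨V ⊓ (f : FSch.Hom 𝔜 𝔛).app 0 ⁻¹ᵁ U, inf_le_left, ⟨hz, hzU⟩, ?_⟩
    change res 𝔜 h' inf_le_left (hpull h f h' e s) ∈ _
    rw [res_hpull, ← hpull_res h f h' i (inf_le_right : V ⊓ (f : FSch.Hom 𝔜 𝔛).app 0 ⁻¹ᵁ U ≤ _)]
    refine Submodule.mul_induction_on hU (fun a ha b hb => ?_) fun a b ha hb => ?_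
    · rw [map_mul]
      exact mul_mem_mul h' (hpull_mem_idealMap h h' f J ha _) (hpull_mem_idealMap h h' f K hb _)
    · rw [map_add]
      exact Ideal.add_mem _ ha hb
  · refine FBlow.IdealSh.gen_le (fun W => ?_) O
    rintro _ ⟨a, ha, b, hb, rfl⟩
    refine (FBlow.idealMap f h' h (FBlow.IdealSh.mul J K)).mem_of_local fun z hz => ?_
    obtain ⟨W₁, i₁, hz₁, h₁⟩ := exists_mem_span_of_mem_idealMap h h' f J ha hz
    obtain ⟨W₂, i₂, hz₂, h₂⟩ := exists_mem_span_of_mem_idealMap h h' f K hb hz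
    refine ⟨W₁ ⊓ W₂, inf_le_left.trans i₁, ⟨hz₁, hz₂⟩, ?_⟩
    have h3 := Ideal.mem_map_of_mem (res 𝔜 h' (inf_le_left : W₁ ⊓ W₂ ≤ W₁)) h₁
    have h4 := Ideal.mem_map_of_mem (res 𝔜 h' (inf_le_right : W₁ ⊓ W₂ ≤ W₂)) h₂
    have e1 : res 𝔜 h' (inf_le_left : W₁ ⊓ W₂ ≤ W₁) (res 𝔜 h' i₁ a) = res 𝔜 h' (inf_le_left.trans i₁) a :=
      FBlow.IdealSh.map_comp_apply i₁ inf_le_left a
    have e2 : res 𝔜 h' (inf_le_right : W₁ ⊓ W₂ ≤ W₂) (res 𝔜 h' i₂ b) = res 𝔜 h' (inf_le_left.trans i₁) b :=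
      FBlow.IdealSh.map_comp_apply i₂ inf_le_right b
    rw [Ideal.map_span] at h3 h4
    rw [e1] at h3
    rw [e2] at h4
    have h5 := Ideal.mul_mem_mul h3 h4
    rw [Ideal.span_mul_span', ← map_mul] at h5
    refine (Ideal.span_le.mpr ?_ : _ ≤ (FBlow.idealMap f h' h (FBlow.IdealSh.mul J K)).sect (W₁ ⊓ W₂)) h5
    rintro _ ⟨_, ⟨_, ⟨U₁, e₁, a', ha', rfl⟩, rfl⟩, _, ⟨_, ⟨U₂, e₂, b', hb', rfl⟩, rfl⟩, rfl⟩
    have e : W₁ ⊓ W₂ ≤ (f : FSch.Hom 𝔜 𝔛).app 0 ⁻¹ᵁ (U₁ ⊓ U₂) := fun w hw => ⟨e₁ hw.1, e₂ hw.2⟩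
    have := hpull_mem_idealMap h h' f (FBlow.IdealSh.mul J K)
      (mul_mem_mul h (J.map_mem (inf_le_left : U₁ ⊓ U₂ ≤ U₁) ha') (K.map_mem (inf_le_right : U₁ ⊓ U₂ ≤ U₂) hb')) e
    simp only [map_mul] at this
    rw [hpull_res h f h' inf_le_left e, hpull_res h f h' inf_le_right e] at this
    simp only [res_hpull, SetLike.mem_coe]
    exact this

/-- A product of invertible ideals is invertible. -/
theorem isInvertible_mul {P Q : FBlow.IdealSh (𝔛.Osh h)} (hP : P.IsInvertible) (hQ : Q.IsInvertible) :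
    (FBlow.IdealSh.mul P Q).IsInvertible := by
  intro x
  obtain ⟨U₁, hx₁, p, hp, Hp⟩ := hP x
  obtain ⟨U₂, hx₂, q, hq, Hq⟩ := hQ x
  refine ⟨U₁ ⊓ U₂, ⟨hx₁, hx₂⟩, res 𝔛 h inf_le_left p * res 𝔛 h inf_le_right q,
    mul_mem_mul h (P.map_mem _ hp) (Q.map_mem _ hq), fun V i => ?_⟩
  have e : (𝔛.Osh h).obj.map (homOfLE i).op (res 𝔛 h inf_le_left p * res 𝔛 h inf_le_right q) =
      res 𝔛 h (i.trans inf_le_left) p * res 𝔛 h (i.trans inf_le_right) q :=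
    (map_mul (res 𝔛 h i) _ _).trans (congrArg₂ (· * ·) (FBlow.IdealSh.map_comp_apply _ i p)
      (FBlow.IdealSh.map_comp_apply _ i q))
  have hreg : ∀ (W : (𝔛.X 0).Opens) (j : W ≤ V) (t : Sec 𝔛 h W),
      t * (res 𝔛 h (j.trans (i.trans inf_le_left)) p * res 𝔛 h (j.trans (i.trans inf_le_right)) q) = 0 → t = 0 :=
    fun W j t ht => (Hp W (j.trans (i.trans inf_le_left))).1 t ((Hq W (j.trans (i.trans inf_le_right))).1 _
      (by rw [mul_assoc]; exact ht))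
  refine ⟨fun t ht => hreg V le_rfl t (by rw [e] at ht; exact ht), fun s hs => ?_⟩
  rw [e]
  refine exists_eq_mul_of_local (O := 𝔛.Osh h) _ (fun W j t ht => hreg W j t ?_) s fun z hz => ?_
  · rw [map_mul, FBlow.IdealSh.map_comp_apply, FBlow.IdealSh.map_comp_apply] at ht
    exact ht
  · obtain ⟨W, j, hzW, hW⟩ := exists_mem_of_mem_mul h hs hz
    refine ⟨W, j, hzW, ?_⟩
    have hWle : P.sect W * Q.sect W ≤ Ideal.span {res 𝔛 h (j.trans (i.trans inf_le_left)) p *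
        res 𝔛 h (j.trans (i.trans inf_le_right)) q} := by
      rw [← Ideal.span_singleton_mul_span_singleton]
      refine Ideal.mul_mono (fun a ha => ?_) fun a ha => ?_
      · obtain ⟨t, rfl⟩ := (Hp W (j.trans (i.trans inf_le_left))).2 a ha
        exact Ideal.mem_span_singleton'.mpr ⟨t, rfl⟩
      · obtain ⟨t, rfl⟩ := (Hq W (j.trans (i.trans inf_le_right))).2 a ha
        exact Ideal.mem_span_singleton'.mpr ⟨t, rfl⟩
    obtain ⟨t, ht⟩ := Ideal.mem_span_singleton'.mp (hWle hW)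
    refine ⟨t, ht.symm.trans ?_⟩
    rw [map_mul, FBlow.IdealSh.map_comp_apply, FBlow.IdealSh.map_comp_apply]

/-- Factors of an invertible product are invertible. -/
theorem isInvertible_of_mul {P Q : FBlow.IdealSh (𝔛.Osh h)} (hPQ : (FBlow.IdealSh.mul P Q).IsInvertible) :
    P.IsInvertible ∧ Q.IsInvertible := by
  suffices H : ∀ x : 𝔛.X 0, ∃ (V : (𝔛.X 0).Opens) (u p q : Sec 𝔛 h V), x ∈ V ∧ p ∈ P.sect V ∧ q ∈ Q.sect V ∧
      ∀ (W : (𝔛.X 0).Opens) (i : W ≤ V),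
        (∀ t : Sec 𝔛 h W, t * (res 𝔛 h i p * res 𝔛 h i q) = 0 → t = 0) ∧
        ∀ s ∈ (FBlow.IdealSh.mul P Q).sect W, ∃ t, s = t * (res 𝔛 h i p * res 𝔛 h i q) by
    constructor <;> intro x <;> obtain ⟨V, u, p, q, hxV, hp, hq, HV⟩ := H x
    · refine ⟨V, hxV, p, hp, fun W i => ⟨fun t ht => (HV W i).1 t (by
        rw [← mul_assoc]; exact (congrArg (· * res 𝔛 h i q) ht).trans (zero_mul _)), fun s hs => ?_⟩⟩
      obtain ⟨t, ht⟩ := (HV W i).2 _ (mul_mem_mul h hs (Q.map_mem i hq))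
      refine ⟨t, sub_eq_zero.mp ((HV W i).1 _ ?_)⟩
      calc (s - t * res 𝔛 h i p) * (res 𝔛 h i p * res 𝔛 h i q)
          = (s * res 𝔛 h i q - t * (res 𝔛 h i p * res 𝔛 h i q)) * res 𝔛 h i p := by ring
        _ = 0 := by
          rw [show s * res 𝔛 h i q = t * (res 𝔛 h i p * res 𝔛 h i q) from ht, sub_self, zero_mul]
    · refine ⟨V, hxV, q, hq, fun W i => ⟨fun t ht => (HV W i).1 t (by
        rw [mul_comm (res 𝔛 h i p), ← mul_assoc]
        exact (congrArg (· * res 𝔛 h i p) ht).trans (zero_mul _)), fun s hs => ?_⟩⟩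
      obtain ⟨t, ht⟩ := (HV W i).2 _ (mul_mem_mul h (P.map_mem i hp) hs)
      refine ⟨t, sub_eq_zero.mp ((HV W i).1 _ ?_)⟩
      calc (s - t * res 𝔛 h i q) * (res 𝔛 h i p * res 𝔛 h i q)
          = (res 𝔛 h i p * s - t * (res 𝔛 h i p * res 𝔛 h i q)) * res 𝔛 h i q := by ring
        _ = 0 := by
          rw [show res 𝔛 h i p * s = t * (res 𝔛 h i p * res 𝔛 h i q) from ht, sub_self, zero_mul]
  intro x
  obtain ⟨U, hxU, g, hg, Hg⟩ := hPQ x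
  obtain ⟨W, i, hxW, hW⟩ := exists_mem_of_mem_mul h hg hxU
  rw [← Ideal.span_eq (P.sect W), ← Ideal.span_eq (Q.sect W), Ideal.span_mul_span',
    Ideal.span, Submodule.mem_span_set'] at hW
  obtain ⟨m, c, pq, hsum⟩ := hW
  choose p hp q hq hpq using fun l => (pq l).2
  have hd : ∀ l, ∃ d : Sec 𝔛 h W, p l * q l = d * res 𝔛 h i g := fun l =>
    (Hg W i).2 _ (mul_mem_mul h (hp l) (hq l))
  choose d hd using hd
  have h1 : (∑ l, c l * d l) = 1 := by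
    refine sub_eq_zero.mp ((Hg W i).1 _ ?_)
    change ((∑ l, c l * d l) - 1) * res 𝔛 h i g = 0
    rw [sub_mul, one_mul, Finset.sum_mul, sub_eq_zero]
    refine Eq.trans (Finset.sum_congr rfl fun l _ => ?_) hsum
    rw [smul_eq_mul, mul_assoc, ← hd, ← hpq]
  have hx0 : (𝔛.toX 0).base x ∈ 𝔛.lvU h 0 W := by
    change (𝔛.gInv h 0).hom ((𝔛.toX 0).base x) ∈ W
    rw [show (𝔛.gInv h 0).hom ((𝔛.toX 0).base x) = x from ConcreteCategory.congr_hom (𝔛.toX_base_gInv h 0) x]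
    exact hxW
  have h2 : ∃ l, (𝔛.toX 0).base x ∈ (𝔛.X 0).basicOpen (proj 𝔛 h 0 W (c l * d l)) := by
    by_contra hne
    simp only [not_exists] at hne
    let ev : Γ(𝔛.X 0, 𝔛.lvU h 0 W) →+* (𝔛.X 0).presheaf.stalk ((𝔛.toX 0).base x) :=
      ((𝔛.X 0).presheaf.germ (𝔛.lvU h 0 W) _ hx0).hom
    have h3 : ev (proj 𝔛 h 0 W (∑ l, c l * d l)) ∈
        IsLocalRing.maximalIdeal ((𝔛.X 0).presheaf.stalk ((𝔛.toX 0).base x)) := by
      rw [map_sum, map_sum]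
      exact Ideal.sum_mem _ fun l _ => fun hu => hne l (((𝔛.X 0).mem_basicOpen _ _ hx0).mpr hu)
    rw [h1, map_one, map_one] at h3
    exact h3 isUnit_one
  obtain ⟨l, hl⟩ := h2
  obtain ⟨V, j, hxV, hu⟩ := exists_isUnit_res 𝔛 h (c l * d l) hxW hl
  rw [map_mul] at hu
  have hud : IsUnit (res 𝔛 h j (d l)) := isUnit_of_mul_isUnit_right hu
  refine ⟨V, 1, res 𝔛 h j (p l), res 𝔛 h j (q l), hxV, P.map_mem j (hp l), Q.map_mem j (hq l), fun O k => ?_⟩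
  have e : res 𝔛 h k (res 𝔛 h j (p l)) * res 𝔛 h k (res 𝔛 h j (q l)) =
      res 𝔛 h k (res 𝔛 h j (d l)) * res 𝔛 h (k.trans (j.trans i)) g := by
    rw [← map_mul, ← map_mul, hd l, map_mul, map_mul]
    congr 1
    exact (congrArg _ (FBlow.IdealSh.map_comp_apply i j g)).trans (FBlow.IdealSh.map_comp_apply (j.trans i) k g)
  have hu' : IsUnit (res 𝔛 h k (res 𝔛 h j (d l))) := hud.map _
  refine ⟨fun t ht => ?_, fun s hs => ?_⟩
  · rw [e, ← mul_assoc] at ht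
    exact hu'.mul_left_eq_zero.mp ((Hg O (k.trans (j.trans i))).1 _ ht)
  · obtain ⟨t, ht⟩ := (Hg O (k.trans (j.trans i))).2 s hs
    obtain ⟨v, hv⟩ := hu'.exists_left_inv
    refine ⟨t * v, ?_⟩
    rw [e, ← mul_assoc, mul_assoc t v, hv, mul_one]
    exact ht

end Formal

end Groth.Agent.FBlowLib
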