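import Groth.Agent.FBlowLib.ExtendFormal
import Groth.Agent.FBlowLib.Mul

/-!
# Products of coherent open ideals

`isCohOpen_mul`: the product of two coherent open ideals of a formal system adic over `Spf R` is coherent open.
-/

universe u

open CategoryTheory CategoryTheory.Limits TopologicalSpace Opposite AlgebraicGeometry

namespace Groth.Agent.FBlowLib

variable {R : Type u} [CommRing R] {I : Ideal R} {𝔛 : FSch.Sys.{u}} (h : 𝔛.IsFormal) (p : 𝔛 ⟶ FSch.spf R I)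

theorem sect_le_of_affine {J K : FBlow.IdealSh (𝔛.Osh h)} {U : (𝔛.X 0).Opens}
    (H : ∀ D : (𝔛.X 0).Opens, D ≤ U → IsAffineOpen D → J.sect D ≤ K.sect D) {V : (𝔛.X 0).Opens} (hV : V ≤ U) :
    J.sect V ≤ K.sect V := fun _ hs => K.mem_of_local fun x hx => by
  obtain ⟨D, hD, hxD, hle⟩ := exists_isAffineOpen_mem_and_subset (x := x) (U := V) hx
  exact ⟨D, hle, hxD, H D (le_trans hle hV) hD (J.map_mem hle hs)⟩

theorem sect_eq_of_affine {J K : FBlow.IdealSh (𝔛.Osh h)} {U : (𝔛.X 0).Opens}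
    (H : ∀ D : (𝔛.X 0).Opens, D ≤ U → IsAffineOpen D → J.sect D = K.sect D) {V : (𝔛.X 0).Opens} (hV : V ≤ U) :
    J.sect V = K.sect V :=
  le_antisymm (sect_le_of_affine h (fun D hD hDa => (H D hD hDa).le) hV)
    (sect_le_of_affine h (fun D hD hDa => (H D hD hDa).ge) hV)

theorem exists_affine_lvU_eq (N : ℕ) (V : (𝔛.X N).affineOpens) :
    ∃ (O : (𝔛.X 0).Opens) (hO : IsAffineOpen O), (⟨_, isAffineOpen_lvU h N hO⟩ : (𝔛.X N).affineOpens) = V := by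
  haveI : IsClosedImmersion (𝔛.toX N) := FSch.Sys.toX_isClosedImmersion 𝔛 h N
  exact ⟨_, V.2.preimage (𝔛.toX N), Subtype.ext (lvU_toX_preimage h N V.1)⟩

include h in
theorem isAffineHom_ι (n : ℕ) : IsAffineHom (𝔛.ι n) := by
  haveI := (h n).1
  infer_instance

/-- Over an affine open, the preimage of level data raised by one level. -/
theorem ofLevel_succ_ideal (n : ℕ) (𝒜 : (𝔛.X n).IdealSheafData) {D : (𝔛.X 0).Opens} (hD : IsAffineOpen D) :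
    haveI := isAffineHom_ι h n
    ((𝒜.map (𝔛.ι n)).ideal ⟨_, isAffineOpen_lvU h (n + 1) hD⟩) =
      (𝒜.ideal ⟨_, isAffineOpen_lvU h n hD⟩).comap
        ((𝔛.ι n).appLE (𝔛.lvU h (n + 1) D) (𝔛.lvU h n D) (𝔛.lvU_le h n D)).hom := by
  haveI := isAffineHom_ι h n
  rw [Scheme.IdealSheafData.ideal_map_of_isAffineHom]
  have key : ∀ (W : (𝔛.X n).Opens) (hW : IsAffineOpen W) (e : W ≤ (𝔛.ι n) ⁻¹ᵁ 𝔛.lvU h (n + 1) D),
      (𝔛.ι n) ⁻¹ᵁ 𝔛.lvU h (n + 1) D = W →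
      (𝒜.ideal ⟨_, (isAffineOpen_lvU h (n + 1) hD).preimage (𝔛.ι n)⟩).comap
          ((𝔛.ι n).app (𝔛.lvU h (n + 1) D)).hom =
        (𝒜.ideal ⟨W, hW⟩).comap ((𝔛.ι n).appLE (𝔛.lvU h (n + 1) D) W e).hom := by
    intro W hW e he
    subst he
    rw [Scheme.Hom.app_eq_appLE]
  exact key _ _ _ (𝔛.lvU_succ h n D)

variable (hp : FSch.IsAdicHom p) (hI : I.FG)

include hp hI in
/-- Level data can be moved to the next level. -/
theorem exists_ofLevel_succ (n : ℕ) (𝒜 : (𝔛.X n).IdealSheafData) (hft : FSch.IdealFT 𝒜) :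
    ∃ ℬ : (𝔛.X (n + 1)).IdealSheafData, FSch.IdealFT ℬ ∧
      FBlow.ofLevel 𝔛 h (n + 1) ℬ = FBlow.ofLevel 𝔛 h n 𝒜 := by
  haveI := isAffineHom_ι h n
  refine ⟨𝒜.map (𝔛.ι n), fun V => ?_, FBlow.IdealSh.ext (funext fun U => ?_)⟩
  · obtain ⟨O, hO, rfl⟩ := exists_affine_lvU_eq h (n + 1) V
    rw [ofLevel_succ_ideal h n 𝒜 hO]
    have hs := transition_surjective h hO n
    obtain ⟨L, hL, hLfg, hLmap⟩ := FlatMorStrata.exists_fg_le_map_eq
      ((𝔛.ι n).appLE (𝔛.lvU h (n + 1) O) (𝔛.lvU h n O) (𝔛.lvU_le h n O)).hom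
      ((𝒜.ideal ⟨_, isAffineOpen_lvU h n hO⟩).comap _)
      (by rw [Ideal.map_comap_of_surjective _ hs]; exact hft _)
    rw [Ideal.map_comap_of_surjective _ hs] at hLmap
    rw [← hLmap, Ideal.comap_map_of_surjective _ hs, ← RingHom.ker_eq_comap_bot, ker_transition h p hO hp n]
    exact Submodule.FG.sup hLfg ((Ideal.FG.pow hI).map _)
  · refine sect_eq_of_affine h (U := ⊤) (fun D _ hD => ?_) le_top
    rw [sect_eq_comap h (FBlow.ofLevel 𝔛 h (n + 1) (𝒜.map (𝔛.ι n))) (U := ⊤) (fun _ _ => rfl) hD le_top,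
      sect_eq_comap h (FBlow.ofLevel 𝔛 h n 𝒜) (U := ⊤) (fun _ _ => rfl) hD le_top,
      ofLevel_succ_ideal h n 𝒜 hD, Ideal.comap_comap]
    exact congrArg (fun φ => Ideal.comap φ _) (RingHom.ext fun s => proj_succ 𝔛 h n D s)

include hp hI in
/-- Level data can be moved to any higher level. -/
theorem exists_ofLevel_raise (n : ℕ) (𝒜 : (𝔛.X n).IdealSheafData) (hft : FSch.IdealFT 𝒜) (N : ℕ) (hN : n ≤ N) :
    ∃ ℬ : (𝔛.X N).IdealSheafData, FSch.IdealFT ℬ ∧ FBlow.ofLevel 𝔛 h N ℬ = FBlow.ofLevel 𝔛 h n 𝒜 := by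
  induction N, hN using Nat.le_induction with
  | base => exact ⟨𝒜, hft, rfl⟩
  | succ k hk ih =>
    obtain ⟨ℬ, hℬ, e⟩ := ih
    obtain ⟨𝒞, h𝒞, e'⟩ := exists_ofLevel_succ h p hp hI k ℬ hℬ
    exact ⟨𝒞, h𝒞, e'.trans e⟩

include hp hI in
/-- The product of two coherent open ideals is coherent open. -/
theorem isCohOpen_mul {J K : FBlow.IdealSh (𝔛.Osh h)} (hJ : FBlow.IsCohOpen 𝔛 h J)
    (hK : FBlow.IsCohOpen 𝔛 h K) : FBlow.IsCohOpen 𝔛 h (FBlow.IdealSh.mul J K) := by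
  intro x
  obtain ⟨U₁, hx₁, n, 𝒜, hA, hJU⟩ := hJ x
  obtain ⟨U₂, hx₂, m, ℬ, hB, hKU⟩ := hK x
  obtain ⟨𝒜', hA', eA⟩ := exists_ofLevel_raise h p hp hI n 𝒜 hA (n + m + 1) (by omega)
  obtain ⟨ℬ', hB', eB⟩ := exists_ofLevel_raise h p hp hI m ℬ hB (n + m + 1) (by omega)
  refine ⟨U₁ ⊓ U₂, ⟨hx₁, hx₂⟩, n + m + 1, 𝒜' * ℬ', fun V => ?_,
    fun V hV => sect_eq_of_affine h (fun D hD hDa => ?_) hV⟩
  · rw [Scheme.IdealSheafData.ideal_mul, Pi.mul_apply]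
    exact Submodule.FG.mul (hA' V) (hB' V)
  have hJ' : ∀ {D' : (𝔛.X 0).Opens} (hD' : IsAffineOpen D'), D' ≤ U₁ ⊓ U₂ →
      J.sect D' = (𝒜'.ideal ⟨_, isAffineOpen_lvU h (n + m + 1) hD'⟩).comap (proj 𝔛 h (n + m + 1) D') :=
    fun {D'} hD' hle => sect_eq_comap h J (U := U₁ ⊓ U₂)
      (fun W hW => (hJU W (hW.trans inf_le_left)).trans (by rw [eA])) hD' hle
  have hK' : ∀ {D' : (𝔛.X 0).Opens} (hD' : IsAffineOpen D'), D' ≤ U₁ ⊓ U₂ →
      K.sect D' = (ℬ'.ideal ⟨_, isAffineOpen_lvU h (n + m + 1) hD'⟩).comap (proj 𝔛 h (n + m + 1) D') :=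
    fun {D'} hD' hle => sect_eq_comap h K (U := U₁ ⊓ U₂)
      (fun W hW => (hKU W (hW.trans inf_le_right)).trans (by rw [eB])) hD' hle
  obtain ⟨-, hpp, -⟩ := proj_props h p hDa hp hI
  rw [sect_eq_comap h (FBlow.ofLevel 𝔛 h (n + m + 1) (𝒜' * ℬ')) (U := ⊤) (fun _ _ => rfl) hDa le_top,
    Scheme.IdealSheafData.ideal_mul, Pi.mul_apply]
  refine le_antisymm (fun s hs => ?_) (fun s hs => ?_)
  · rw [Ideal.mem_comap]
    refine mem_ideal_of_memData (𝒜' * ℬ') ⟨_, isAffineOpen_lvU h (n + m + 1) hDa⟩ fun z hz => ?_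
    obtain ⟨W, i, hzW, hW⟩ := exists_mem_of_mem_mul h hs (show (𝔛.gInv h (n + m + 1)).hom z ∈ D from hz)
    obtain ⟨D', hD', hzD', hle⟩ := exists_isAffineOpen_mem_and_subset (U := W) hzW
    have hD'D : D' ≤ D := le_trans hle i
    refine ⟨⟨_, isAffineOpen_lvU h (n + m + 1) hD'⟩, FBlow.lvU_mono 𝔛 h _ hD'D, hzD', ?_⟩
    have h1 := Ideal.mem_map_of_mem (res 𝔛 h hle) hW
    rw [Ideal.map_mul] at h1
    have h2 : res 𝔛 h hle (res 𝔛 h i s) ∈ J.sect D' * K.sect D' :=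
      Ideal.mul_mono (Ideal.map_le_iff_le_comap.2 fun a ha => J.map_mem hle ha)
        (Ideal.map_le_iff_le_comap.2 fun a ha => K.map_mem hle ha) h1
    rw [hJ' hD' (hD'D.trans hD), hK' hD' (hD'D.trans hD)] at h2
    have h3 := Ideal.mem_map_of_mem (proj 𝔛 h (n + m + 1) D') h2
    rw [Ideal.map_mul] at h3
    have h4 := Ideal.mul_mono Ideal.map_comap_le Ideal.map_comap_le h3
    have e : res 𝔛 h hle (res 𝔛 h i s) = res 𝔛 h hD'D s := FBlow.IdealSh.map_comp_apply i hle s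
    rw [e, proj_res] at h4
    exact h4
  · have hle : (𝒜'.ideal ⟨_, isAffineOpen_lvU h (n + m + 1) hDa⟩ * ℬ'.ideal ⟨_, isAffineOpen_lvU h (n + m + 1) hDa⟩).comap
        (proj 𝔛 h (n + m + 1) D) ≤ J.sect D * K.sect D := by
      have h1 : ∀ (a : Ideal Γ(𝔛.X (n + m + 1), 𝔛.lvU h (n + m + 1) D)),
          (a.comap (proj 𝔛 h (n + m + 1) D)).map (proj 𝔛 h (n + m + 1) D) = a := fun a =>
        Ideal.map_comap_of_surjective _ (hpp _).1 a
      rw [← h1 (𝒜'.ideal ⟨_, isAffineOpen_lvU h (n + m + 1) hDa⟩), ← h1 (ℬ'.ideal ⟨_, isAffineOpen_lvU h (n + m + 1) hDa⟩),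
        ← hJ' hDa hD, ← hK' hDa hD, ← Ideal.map_mul,
        Ideal.comap_map_of_surjective _ (hpp _).1, ← RingHom.ker_eq_comap_bot, (hpp _).2]
      refine sup_le le_rfl ?_
      rw [show n + m + 1 + 1 = (n + 1) + (m + 1) by ring, pow_add, Ideal.map_mul]
      exact Ideal.mul_mono
        (Ideal.map_le_iff_le_comap.2 fun a ha => ker_le_sect h p hp hI J hJU hDa (hD.trans inf_le_left) le_rfl a ha)
        (Ideal.map_le_iff_le_comap.2 fun a ha => ker_le_sect h p hp hI K hKU hDa (hD.trans inf_le_right) le_rfl a ha)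
    refine Submodule.mul_induction_on (hle hs) (fun a ha b hb => mul_mem_mul h ha hb)
      fun a b ha hb => Ideal.add_mem _ ha hb

/-- The unit ideal is coherent open. -/
theorem isCohOpen_top : FBlow.IsCohOpen 𝔛 h (FBlow.IdealSh.top (𝔛.Osh h)) := fun x => by
  refine ⟨⊤, trivial, 0, ⊤, fun V => ⟨{1}, ?_⟩, fun V _ => sect_eq_of_affine h (U := ⊤) (fun D _ hD => ?_) le_top⟩
  · rw [Scheme.IdealSheafData.ideal_top]
    simp
  · rw [sect_eq_comap h (FBlow.ofLevel 𝔛 h 0 ⊤) (U := ⊤) (fun _ _ => rfl) hD le_top,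
      Scheme.IdealSheafData.ideal_top, Pi.top_apply, Ideal.comap_top]
    rfl

/-- Being coherent open is local. -/
theorem isCohOpen_of_local {J : FBlow.IdealSh (𝔛.Osh h)}
    (H : ∀ x : 𝔛.X 0, ∃ (U : (𝔛.X 0).Opens) (K : FBlow.IdealSh (𝔛.Osh h)), x ∈ U ∧ FBlow.IsCohOpen 𝔛 h K ∧
      ∀ V : (𝔛.X 0).Opens, V ≤ U → J.sect V = K.sect V) : FBlow.IsCohOpen 𝔛 h J := fun x => by
  obtain ⟨U, K, hxU, hK, hJK⟩ := H x
  obtain ⟨U', hxU', n, 𝒜, hft, hKU⟩ := hK x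
  exact ⟨U ⊓ U', ⟨hxU, hxU'⟩, n, 𝒜, hft, fun V hV =>
    (hJK V (hV.trans inf_le_left)).trans (hKU V (hV.trans inf_le_right))⟩

end Groth.Agent.FBlowLib
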