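import Groth.Agent.FlatMorStrata.Extend
import Groth.Prelude.Def_FSch3
import Mathlib.RingTheory.Noetherian.Nilpotent

/-!
# Extending finite type ideal data

`exists_ft_extend`: compatible finitely generated ideals on finitely many affine opens, with union `U` whose
closure lies in a quasi-compact open `W` and has quasi-compact complement in `W`, extend to finite type ideal
data which is the unit ideal away from `U`.
-/

universe u

set_option autoImplicit false
set_option backward.isDefEq.respectTransparency false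

open AlgebraicGeometry CategoryTheory TopologicalSpace Opposite

namespace Groth.Agent.FBlowLib

variable {S : Scheme.{u}}

/-- Ideal data with empty support on an affine open is the unit ideal there. -/
theorem ideal_eq_top_of_disjoint (G : S.IdealSheafData) (V : S.affineOpens)
    (hV : ∀ x ∈ V.1, x ∉ (G.support : Set S)) : G.ideal V = ⊤ := by
  have h2 : S.zeroLocus (U := V.1) (G.ideal V : Set Γ(S, V.1)) ∩ V.1 = ∅ := by
    rw [← Scheme.IdealSheafData.coe_support_inter]
    exact Set.eq_empty_of_forall_notMem fun x hx => hV x hx.2 hx.1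
  rw [← V.2.fromSpec_image_zeroLocus, Set.image_eq_empty] at h2
  exact PrimeSpectrum.zeroLocus_empty_iff_eq_top.mp h2

/-- A finite type ideal vanishing set-theoretically on an affine open is nilpotent there. -/
theorem exists_pow_ideal_eq_bot (G : S.IdealSheafData) (V : S.affineOpens) (hG : (G.ideal V).FG)
    (hV : (V.1 : Set S) ⊆ G.support) : ∃ n : ℕ, G.ideal V ^ n = ⊥ := by
  refine (Ideal.FG.isNilpotent_iff_le_nilradical hG).2 ?_
  have h2 : S.zeroLocus (U := V.1) (G.ideal V : Set Γ(S, V.1)) ∩ V.1 = V.1 := by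
    rw [← Scheme.IdealSheafData.coe_support_inter]
    exact Set.inter_eq_right.mpr hV
  rw [← V.2.fromSpec_image_zeroLocus] at h2
  conv_rhs at h2 => rw [← V.2.range_fromSpec, ← Set.image_univ]
  exact (PrimeSpectrum.zeroLocus_eq_univ_iff _).1
    (Set.image_injective.2 V.2.fromSpec.isOpenEmbedding.injective h2)

variable [QuasiSeparatedSpace S]

/-- Ideal data with the prescribed ideals on finitely many affine opens. -/
theorem exists_glue_ideals {σ : Type} [Finite σ] (D : σ → S.affineOpens) (K : ∀ i, Ideal Γ(S, (D i).1))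
    (hK : ∀ (i j : σ) (V : S.affineOpens) (hi : V.1 ≤ (D i).1) (hj : V.1 ≤ (D j).1),
      (K i).map (S.presheaf.map (homOfLE hi).op).hom = (K j).map (S.presheaf.map (homOfLE hj).op).hom) :
    ∃ G : S.IdealSheafData, ∀ i, G.ideal (D i) = K i := by
  have hone : ∀ i, ∃ G : S.IdealSheafData, G.ideal (D i) = K i ∧ ∀ j, K j ≤ G.ideal (D j) := by
    intro i
    let φ : Γ(S, (D i).1) ⟶ CommRingCat.of (Γ(S, (D i).1) ⧸ K i) := CommRingCat.ofHom (Ideal.Quotient.mk (K i))
    let h : Spec (.of (Γ(S, (D i).1) ⧸ K i)) ⟶ S := Spec.map φ ≫ (D i).2.fromSpec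
    have hqc : QuasiCompact h := inferInstance
    have hpre : h ⁻¹ᵁ (D i).1 = ⊤ := by
      rw [Scheme.Hom.comp_preimage, (D i).2.fromSpec_preimage_self]; rfl
    have happ : RingHom.ker (h.app (D i).1).hom = K i := FlatMorStrata.ker_app_closure (D i).2 (K i) hpre
    refine ⟨h.ker, by rw [Scheme.Hom.ker_apply]; exact happ, fun j => ?_⟩
    rw [Scheme.Hom.ker_apply]
    intro a ha
    rw [RingHom.mem_ker]
    apply (Spec (.of (Γ(S, (D i).1) ⧸ K i))).IsSheaf.section_ext
    intro z hz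
    have hzi : h z ∈ (D i).1 := by
      have : z ∈ h ⁻¹ᵁ (D i).1 := hpre.ge trivial
      exact this
    obtain ⟨V, hV, hzV, hVle⟩ := exists_isAffineOpen_mem_and_subset (x := h z) (U := (D j).1 ⊓ (D i).1) ⟨hz, hzi⟩
    have hVj : V ≤ (D j).1 := le_trans hVle inf_le_left
    have hVi : V ≤ (D i).1 := le_trans hVle inf_le_right
    refine ⟨h ⁻¹ᵁ V, Scheme.Hom.preimage_mono h hVj, hzV, ?_⟩
    have haV : (S.presheaf.map (homOfLE hVj).op).hom a ∈ (K i).map (S.presheaf.map (homOfLE hVi).op).hom := by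
      rw [hK i j ⟨V, hV⟩ hVi hVj]
      exact Ideal.mem_map_of_mem _ ha
    have hz0 : (h.app V).hom ((S.presheaf.map (homOfLE hVj).op).hom a) = 0 := by
      refine RingHom.mem_ker.1 ((Ideal.map_le_iff_le_comap.2 fun l hl => ?_) haV)
      rw [Ideal.mem_comap, RingHom.mem_ker]
      have := congr($(h.naturality (homOfLE hVi).op).hom l)
      simp only [CommRingCat.hom_comp, RingHom.comp_apply] at this
      rw [this, RingHom.mem_ker.1 (happ.ge hl), map_zero]
    have := congr($(h.naturality (homOfLE hVj).op).hom a)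
    simp only [CommRingCat.hom_comp, RingHom.comp_apply] at this
    rw [map_zero]
    exact this.symm.trans hz0
  choose G hG hG' using hone
  refine ⟨⨅ i, G i, fun j => ?_⟩
  rw [Scheme.IdealSheafData.ideal_iInf, iInf_apply]
  exact le_antisymm (iInf_le_of_le j (hG j).le) (le_iInf fun i => hG' i j)

/-- Finite type ideal data inside given ones, equal to them on finitely many affine opens and with the same
support if its complement is quasi-compact. -/
theorem exists_fg_le_finset [CompactSpace S] (G₀ : S.IdealSheafData) (s₀ : Finset S.affineOpens)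
    (hs₀ : ∀ M ∈ s₀, (G₀.ideal M).FG) :
    ∃ G ≤ G₀, FSch.IdealFT G ∧ (∀ M ∈ s₀, G.ideal M = G₀.ideal M) ∧
      (IsCompact (G₀.support : Set S)ᶜ → G.support = G₀.support) := by
  classical
  obtain ⟨c, hc⟩ := isCompact_univ.elim_finite_subcover (fun V : S.affineOpens => (V.1 : Set S))
    (fun V => V.1.2) (fun x _ => by
      obtain ⟨V, hV, hxV, -⟩ := exists_isAffineOpen_mem_and_subset (x := x) (U := ⊤) (Set.mem_univ _)
      exact Set.mem_iUnion.2 ⟨⟨V, hV⟩, hxV⟩)
  suffices ∀ s : Finset S.affineOpens, ∃ G ≤ G₀, (∀ M ∈ s, (G.ideal M).FG) ∧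
      (∀ M ∈ s₀, G.ideal M = G₀.ideal M) ∧ (IsCompact (G₀.support : Set S)ᶜ → G.support = G₀.support) by
    obtain ⟨G, h₁, h₂, h₃, h₄⟩ := this c
    refine ⟨G, h₁, FlatMorStrata.fg_of_cover G (fun M : c => M.1) ?_ (fun M => h₂ M.1 M.2), h₃, h₄⟩
    refine top_le_iff.1 fun x _ => ?_
    obtain ⟨M, hM, hxM⟩ := Set.mem_iUnion₂.1 (hc (Set.mem_univ x))
    exact Opens.mem_iSup.2 ⟨⟨M, hM⟩, hxM⟩
  intro s
  induction s using Finset.induction with
  | empty => exact ⟨G₀, le_rfl, by simp, fun _ _ => rfl, fun _ => rfl⟩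
  | @insert V s _ ih =>
    obtain ⟨G, h₁, h₂, h₃, h₄⟩ := ih
    obtain ⟨G', k₁, k₂, k₃, k₄⟩ := FlatMorStrata.exists_step G (s₀ ∪ s) (fun M hM => by
      rcases Finset.mem_union.1 hM with hM | hM
      · exact h₃ M hM ▸ hs₀ M hM
      · exact h₂ M hM) V
    refine ⟨G', k₁.trans h₁, fun M hM => ?_, fun M hM => (k₂ M (Finset.mem_union_left _ hM)).trans (h₃ M hM),
      fun hc => ?_⟩
    · rcases Finset.mem_insert.1 hM with rfl | hM
      · exact k₃
      · rw [k₂ M (Finset.mem_union_right _ hM)]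
        exact h₂ M hM
    · rw [k₄ (by rw [h₄ hc]; exact hc), h₄ hc]

/-- The quasi-compact case. -/
theorem exists_ft_extend_of_compact [CompactSpace S] {σ : Type} [Finite σ] (D : σ → S.affineOpens)
    (K : ∀ i, Ideal Γ(S, (D i).1)) (hfg : ∀ i, (K i).FG)
    (hK : ∀ (i j : σ) (V : S.affineOpens) (hi : V.1 ≤ (D i).1) (hj : V.1 ≤ (D j).1),
      (K i).map (S.presheaf.map (homOfLE hi).op).hom = (K j).map (S.presheaf.map (homOfLE hj).op).hom)
    (Z : Closeds S) (hDZ : ∀ i, ((D i).1 : Set S) ⊆ Z) (hZ : IsCompact (Z : Set S)ᶜ) :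
    ∃ B : S.IdealSheafData, FSch.IdealFT B ∧ (∀ i, B.ideal (D i) = K i) ∧ (B.support : Set S) ⊆ Z := by
  classical
  haveI := Fintype.ofFinite σ
  obtain ⟨G₀, hG₀⟩ := exists_glue_ideals D K hK
  obtain ⟨G, -, hG, hGD, -⟩ := exists_fg_le_finset G₀ (Finset.univ.image D) (fun M hM => by
    obtain ⟨i, -, rfl⟩ := Finset.mem_image.mp hM
    exact (hG₀ i).symm ▸ hfg i)
  obtain ⟨H, -, hH, -, hHsupp⟩ := exists_fg_le_finset (Scheme.IdealSheafData.vanishingIdeal Z) ∅ (by simp)
  have hs : (H.support : Set S) = Z := by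
    rw [hHsupp (by rw [Scheme.IdealSheafData.coe_support_vanishingIdeal]; exact hZ),
      Scheme.IdealSheafData.coe_support_vanishingIdeal]
  choose m hm using fun i => exists_pow_ideal_eq_bot H (D i) (hH _) (hs.symm ▸ hDZ i)
  let M := Finset.univ.sup m + 1
  refine ⟨G ⊔ H ^ M, fun V => ?_, fun i => ?_, ?_⟩
  · rw [Scheme.IdealSheafData.ideal_sup, Scheme.IdealSheafData.ideal_pow, Pi.sup_apply, Pi.pow_apply]
    exact Submodule.FG.sup (hG V) ((hH V).pow)
  · rw [Scheme.IdealSheafData.ideal_sup, Scheme.IdealSheafData.ideal_pow, Pi.sup_apply, Pi.pow_apply,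
      hGD _ (Finset.mem_image_of_mem _ (Finset.mem_univ i)), hG₀ i, sup_eq_left]
    exact ((Ideal.pow_le_pow_right (Nat.le_succ_of_le (Finset.le_sup (Finset.mem_univ i)))).trans
      (hm i).le).trans bot_le
  · refine (SetLike.coe_subset_coe.mpr (Scheme.IdealSheafData.support_antitone
      (le_sup_right : H ^ M ≤ G ⊔ H ^ M))).trans ?_
    rw [Scheme.IdealSheafData.support_pow_succ, hs]

/-- Compatible finitely generated ideals on finitely many affine opens extend to finite type ideal data which is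
the unit ideal away from these opens. -/
theorem exists_ft_extend {σ : Type} [Finite σ] (D : σ → S.affineOpens) (K : ∀ i, Ideal Γ(S, (D i).1))
    (hfg : ∀ i, (K i).FG)
    (hK : ∀ (i j : σ) (V : S.affineOpens) (hi : V.1 ≤ (D i).1) (hj : V.1 ≤ (D j).1),
      (K i).map (S.presheaf.map (homOfLE hi).op).hom = (K j).map (S.presheaf.map (homOfLE hj).op).hom)
    (W : S.Opens) (hW : IsCompact (W : Set S)) (hDW : closure (⋃ i, ((D i).1 : Set S)) ⊆ W)
    (hcl : IsCompact ((W : Set S) \ closure (⋃ i, ((D i).1 : Set S)))) :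
    ∃ B : S.IdealSheafData, FSch.IdealFT B ∧ (∀ i, B.ideal (D i) = K i) ∧
      (B.support : Set S) ⊆ closure (⋃ i, ((D i).1 : Set S)) := by
  let C : Set S := closure (⋃ i, ((D i).1 : Set S))
  haveI : CompactSpace W := isCompact_iff_compactSpace.mp hW
  haveI : QuasiSeparatedSpace W := W.2.isOpenEmbedding_subtypeVal.quasiSeparatedSpace
  haveI : QuasiCompact W.ι := inferInstance
  have hDle : ∀ i, (D i).1 ≤ W.ι.opensRange := fun i => by
    rw [Scheme.Opens.opensRange_ι]
    exact fun x hx => hDW (subset_closure (Set.mem_iUnion.mpr ⟨i, hx⟩))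
  let D' : σ → W.toScheme.affineOpens := fun i =>
    ⟨W.ι ⁻¹ᵁ (D i).1, (D i).2.preimage_of_isOpenImmersion W.ι (hDle i)⟩
  let K' : ∀ i, Ideal Γ(W.toScheme, (D' i).1) := fun i => (K i).map (W.ι.app (D i).1).hom
  have hiso : ∀ i, Function.Bijective (W.ι.app (D i).1).hom := fun i => by
    haveI : IsIso (W.ι.app (D i).1) := W.ι.isIso_app _ (hDle i)
    exact ConcreteCategory.bijective_of_isIso (W.ι.app (D i).1)
  obtain ⟨B, hB, hBD, hBs⟩ := exists_ft_extend_of_compact D' K' (fun i => (hfg i).map _) (fun i j V hi hj => by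
    have hV' : IsAffineOpen (W.ι ''ᵁ V.1) := V.2.image_of_isOpenImmersion W.ι
    have hle : ∀ l : σ, V.1 ≤ (D' l).1 → W.ι ''ᵁ V.1 ≤ (D l).1 := fun l hl => by
      rintro _ ⟨v, hv, rfl⟩
      exact hl hv
    have hcomm : ∀ (l : σ) (hl : V.1 ≤ (D' l).1),
        (W.toScheme.presheaf.map (homOfLE hl).op).hom.comp (W.ι.app (D l).1).hom =
        (W.ι.appLE (W.ι ''ᵁ V.1) V.1 (fun v hv => ⟨v, hv, rfl⟩)).hom.comp
          (S.presheaf.map (homOfLE (hle l hl)).op).hom := fun l hl => by
      rw [← CommRingCat.hom_comp, ← CommRingCat.hom_comp, Scheme.Hom.map_appLE, Scheme.Hom.app_eq_appLE,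
        Scheme.Hom.appLE_map]
    rw [Ideal.map_map, Ideal.map_map, hcomm i hi, hcomm j hj, ← Ideal.map_map, ← Ideal.map_map,
      hK i j ⟨_, hV'⟩ (hle i hi) (hle j hj)])
    ⟨W.ι.base ⁻¹' C, isClosed_closure.preimage W.ι.continuous⟩
    (fun i v hv => subset_closure (Set.mem_iUnion.mpr ⟨i, hv⟩)) (by
      rw [W.ι.isOpenEmbedding.isInducing.isCompact_iff]
      convert hcl using 1
      change W.ι.base '' (W.ι.base ⁻¹' C)ᶜ = (W : Set S) \ C
      rw [← Set.preimage_compl, Set.image_preimage_eq_inter_range, Scheme.Opens.range_ι, Set.inter_comm,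
        Set.diff_eq])
  have hsupp : ((B.map W.ι).support : Set S) ⊆ C := by
    rw [Scheme.IdealSheafData.support_map, Closeds.coe_closure]
    refine closure_minimal ?_ isClosed_closure
    rintro _ ⟨v, hv, rfl⟩
    exact hBs hv
  refine ⟨B.map W.ι, ?_, fun i => ?_, hsupp⟩
  · let P := {V : S.affineOpens // V.1 ≤ W ∨ Disjoint (V.1 : Set S) C}
    intro V
    refine FlatMorStrata.fg_of_cover (B.map W.ι) (fun P : P => P.1) (top_le_iff.mp fun x _ => ?_) (fun Q => ?_) V
    · by_cases hx : x ∈ W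
      · obtain ⟨O, hO, hxO, hOle⟩ := exists_isAffineOpen_mem_and_subset (x := x) (U := W) hx
        exact Opens.mem_iSup.mpr ⟨⟨⟨O, hO⟩, Or.inl hOle⟩, hxO⟩
      · obtain ⟨O, hO, hxO, hOle⟩ := exists_isAffineOpen_mem_and_subset (x := x)
          (U := ⟨Cᶜ, isClosed_closure.isOpen_compl⟩) (fun h => hx (hDW h))
        exact Opens.mem_iSup.mpr
          ⟨⟨⟨O, hO⟩, Or.inr (Set.disjoint_left.mpr fun a ha => hOle ha)⟩, hxO⟩
    · obtain ⟨Q, hQ | hQ⟩ := Q
      · have hQle : Q.1 ≤ W.ι.opensRange := by rw [Scheme.Opens.opensRange_ι]; exact hQ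
        change ((B.map W.ι).ideal Q).FG
        rw [Scheme.IdealSheafData.ideal_map B W.ι Q (Q.2.preimage_of_isOpenImmersion W.ι hQle)]
        haveI : IsIso (W.ι.app Q.1) := W.ι.isIso_app _ hQle
        let e := (asIso (W.ι.app Q.1)).commRingCatIsoToRingEquiv
        have : (W.ι.app Q.1).hom = e.toRingHom := rfl
        rw [this]
        exact (Ideal.map_symm (f := e) (I := B.ideal ⟨_, _⟩)).symm ▸ (hB _).map _
      · change ((B.map W.ι).ideal Q).FG
        rw [ideal_eq_top_of_disjoint (B.map W.ι) Q fun x hx hs => Set.disjoint_left.mp hQ hx (hsupp hs)]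
        exact ⟨{1}, by simp⟩
  · rw [Scheme.IdealSheafData.ideal_map B W.ι (D i) ((D i).2.preimage_of_isOpenImmersion W.ι (hDle i))]
    change (B.ideal (D' i)).comap _ = _
    rw [hBD i]
    exact Ideal.comap_map_of_bijective _ (hiso i)

end Groth.Agent.FBlowLib
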