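import Groth.Agent.FBlowLib.Mul
import Groth.Agent.FBlowLib.CohMap
import Groth.Agent.FBlowLib.ChartMap

/-!
# Pullbacks of invertible open ideals to torsion-free formal schemes
-/

universe u

open CategoryTheory CategoryTheory.Limits TopologicalSpace Opposite AlgebraicGeometry

namespace Groth.Agent.FBlowLib

variable {𝔛 𝔜 : FSch.Sys.{u}} (h : 𝔛.IsFormal) (h' : 𝔜.IsFormal) {R : Type u} [CommRing R] {I : Ideal R}

/-- An open ideal contains near each point the image of a power of the ideal of definition. -/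
theorem exists_baseHom_mem (p : 𝔛 ⟶ FSch.spf R I) {J : FBlow.IdealSh (𝔛.Osh h)} (hJ : FBlow.IsCohOpen 𝔛 h J)
    (x : 𝔛.X 0) : ∃ (U : (𝔛.X 0).Opens) (m : ℕ), x ∈ U ∧
      ∀ V : (𝔛.X 0).Opens, V ≤ U → ∀ a ∈ I ^ m, baseHom h p V a ∈ J.sect V := by
  obtain ⟨U, hxU, n, 𝒜, -, hJU⟩ := hJ x
  refine ⟨U, n + 1, hxU, fun V hV a ha => ?_⟩
  rw [hJU V hV]
  refine (FBlow.mem_ofLevel_iff 𝔛 h n 𝒜 V _).mpr ?_
  have h0 : (𝔛.OshProj h n).hom.app (op V) (baseHom h p V a) = 0 :=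
    proj_rho_eq_zero I 𝔛 h p (rS p) (rS_comm p) (fun _ => rfl) n V ha
  rw [h0]
  exact Ideal.zero_mem _

/-- Sections killed by a power of the ideal of definition vanish on a torsion-free system. -/
theorem eq_zero_of_pow_kill (p : 𝔛 ⟶ FSch.spf R I) (hp : FSch.IsAdicHom p) (hI : I.FG)
    (htf : ∀ (U : (𝔛.X 0).Opens) (s : (𝔛.Osh h).obj.obj (Opposite.op U)),
      (∀ a ∈ (FBlow.IdealSh.ker (𝔛.OshProj h 0)).sect U, a * s = 0) → s = 0)
    {W : (𝔛.X 0).Opens} (t : Sec 𝔛 h W) (m : ℕ) (ht : ∀ a ∈ I ^ m, baseHom h p W a * t = 0) : t = 0 := by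
  induction m generalizing t with
  | zero =>
    have := ht 1 (by simp)
    rwa [map_one, one_mul] at this
  | succ m ih =>
    refine ih t fun a ha => htf W _ fun b hb => ?_
    refine ((FBlow.IdealSh.bot (𝔛.Osh h)).mem_of_local fun z hz => ?_ : _ ∈ (FBlow.IdealSh.bot (𝔛.Osh h)).sect W)
    obtain ⟨D, hD, hzD, hDW⟩ := Opens.isBasis_iff_nbhd.mp (𝔛.X 0).isBasis_affineOpens hz
    refine ⟨D, hDW, hzD, (Ideal.mem_bot).mpr ?_⟩
    obtain ⟨-, hpp, -⟩ := proj_props h p hD hp hI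
    have hb' : res 𝔛 h hDW b ∈ I.map (baseHom h p D) := by
      have h1 : res 𝔛 h hDW b ∈ (FBlow.IdealSh.ker (𝔛.OshProj h 0)).sect D :=
        (FBlow.IdealSh.ker (𝔛.OshProj h 0)).map_mem hDW hb
      have h2 := (hpp 0).2
      rw [zero_add, pow_one] at h2
      rw [← h2]
      exact h1
    refine (map_mul (res 𝔛 h hDW) b _).trans ?_
    generalize res 𝔛 h hDW b = b' at hb' ⊢
    induction hb' using Submodule.span_induction with
    | mem c hc =>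
      obtain ⟨c, hc', rfl⟩ := hc
      have h3 := congrArg (res 𝔛 h hDW) (ht (a * c) (by rw [pow_succ]; exact Ideal.mul_mem_mul ha hc'))
      rw [map_mul, map_zero, res_baseHom, map_mul] at h3
      rw [map_mul, res_baseHom, ← mul_assoc, mul_comm (baseHom h p D c)]
      exact h3
    | zero => exact zero_mul _
    | add b₁ b₂ _ _ h₁ h₂ => rw [add_mul, h₁, h₂, add_zero]
    | smul r b _ h₁ => rw [smul_eq_mul, mul_assoc, h₁, mul_zero]

/-- An open ideal generated by the pullback of an invertible ideal is invertible on a torsion-free system. -/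
theorem isInvertible_idealMap_of_open (p' : 𝔜 ⟶ FSch.spf R I) (hp' : FSch.IsAdicHom p') (hI : I.FG)
    (htf : ∀ (U : (𝔜.X 0).Opens) (s : (𝔜.Osh h').obj.obj (Opposite.op U)),
      (∀ a ∈ (FBlow.IdealSh.ker (𝔜.OshProj h' 0)).sect U, a * s = 0) → s = 0)
    (f : 𝔜 ⟶ 𝔛) {P : FBlow.IdealSh (𝔛.Osh h)} (hP : P.IsInvertible)
    (hopen : ∀ y, ∃ (U : (𝔜.X 0).Opens) (m : ℕ), y ∈ U ∧
      ∀ V : (𝔜.X 0).Opens, V ≤ U → ∀ a ∈ I ^ m, baseHom h' p' V a ∈ (FBlow.idealMap f h' h P).sect V) :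
    (FBlow.idealMap f h' h P).IsInvertible := by
  intro y
  obtain ⟨U, hxU, g, hg, Hg⟩ := hP (((f : FSch.Hom 𝔜 𝔛).app 0).base y)
  obtain ⟨U', m, hyU', hm⟩ := hopen y
  refine ⟨U' ⊓ (f : FSch.Hom 𝔜 𝔛).app 0 ⁻¹ᵁ U, ⟨hyU', hxU⟩, hpull h f h' inf_le_right g,
    hpull_mem_idealMap h h' f P hg _, fun V i => ?_⟩
  have hloc : ∀ (V : (𝔜.X 0).Opens) (j : V ≤ (f : FSch.Hom 𝔜 𝔛).app 0 ⁻¹ᵁ U) (s : Sec 𝔜 h' V),
      s ∈ (FBlow.idealMap f h' h P).sect V → ∀ z ∈ V, ∃ (W : (𝔜.X 0).Opens) (k : W ≤ V), z ∈ W ∧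
        res 𝔜 h' k s ∈ Ideal.span {hpull h f h' (k.trans j) g} := by
    intro V j s hs z hz
    obtain ⟨W, k, hzW, hW⟩ := exists_mem_span_of_mem_idealMap h h' f P hs hz
    refine ⟨W, k, hzW, (Ideal.span_le.mpr ?_ : _ ≤ Ideal.span {hpull h f h' (k.trans j) g}) hW⟩
    rintro _ ⟨U₁, e₁, a, ha, rfl⟩
    have e : W ≤ (f : FSch.Hom 𝔜 𝔛).app 0 ⁻¹ᵁ (U₁ ⊓ U) := fun w hw => ⟨e₁ hw, j (k hw)⟩
    obtain ⟨t, ht⟩ := (Hg (U₁ ⊓ U) inf_le_right).2 _ (P.map_mem (inf_le_left : U₁ ⊓ U ≤ U₁) ha)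
    refine Ideal.mem_span_singleton'.mpr ⟨hpull h f h' e t, ?_⟩
    have h1 := congrArg (hpull h f h' e) ht
    rw [map_mul, hpull_res h f h' inf_le_left e, hpull_res h f h' inf_le_right e] at h1
    exact h1.symm
  have hreg : ∀ (W : (𝔜.X 0).Opens) (j : W ≤ U' ⊓ (f : FSch.Hom 𝔜 𝔛).app 0 ⁻¹ᵁ U) (t : Sec 𝔜 h' W),
      t * hpull h f h' (j.trans inf_le_right) g = 0 → t = 0 := by
    intro W j t ht
    refine eq_zero_of_pow_kill h' p' hp' hI htf t m fun a ha => ?_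
    refine (Ideal.mem_bot).mp (((FBlow.IdealSh.bot (𝔜.Osh h')).mem_of_local fun z hz => ?_) :
      _ ∈ (FBlow.IdealSh.bot (𝔜.Osh h')).sect W)
    obtain ⟨W', k, hzW', hW'⟩ := hloc W (j.trans inf_le_right) _ (hm W (j.trans inf_le_left) a ha) z hz
    obtain ⟨c, hc⟩ := Ideal.mem_span_singleton'.mp hW'
    refine ⟨W', k, hzW', (Ideal.mem_bot).mpr ?_⟩
    change res 𝔜 h' k (baseHom h' p' W a * t) = 0
    have h2 := congrArg (res 𝔜 h' k) ht
    rw [map_mul, map_zero, res_hpull] at h2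
    rw [map_mul, ← hc, mul_assoc, mul_comm _ (res 𝔜 h' k t), h2, mul_zero]
  have e : (𝔜.Osh h').obj.map (homOfLE i).op (hpull h f h' inf_le_right g) = hpull h f h' (i.trans inf_le_right) g :=
    res_hpull h f h' _ i g
  refine ⟨fun t ht => hreg V i t (by rw [e] at ht; exact ht), fun s hs => ?_⟩
  rw [e]
  refine exists_eq_mul_of_local (O := 𝔜.Osh h') _ (fun W j t ht => hreg W (j.trans i) t ?_) s fun z hz => ?_
  · exact (congrArg (t * ·) (res_hpull h f h' _ j g)).symm.trans ht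
  · obtain ⟨W, k, hzW, hW⟩ := hloc V (i.trans inf_le_right) s hs z hz
    obtain ⟨c, hc⟩ := Ideal.mem_span_singleton'.mp hW
    exact ⟨W, k, hzW, c, hc.symm.trans (congrArg (c * ·) (res_hpull h f h' _ k g).symm)⟩

end Groth.Agent.FBlowLib
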