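import Groth.Agent.FBlowLib.LocalBlow
import Groth.Agent.FBlowLib.FTExtend
import Groth.Agent.FBlowLib.PullInvertible
import Groth.Agent.FlatMorAdm.Descend

/-!
# Descent of ideals along admissible formal blow-ups

`exists_descend_formal`: some `(J O')^N * J'` is the inverse image of a coherent open ideal; hence composites of
admissible formal blow-ups of quasi-compact quasi-separated systems are admissible formal blow-ups.
-/

universe u

open CategoryTheory CategoryTheory.Limits TopologicalSpace Opposite AlgebraicGeometry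

namespace Groth.Agent.FBlowLib

section Scheme

variable {X Y : Scheme.{u}}

theorem le_comap_map_of_openImmersion (f : X ⟶ Y) [IsOpenImmersion f] [QuasiCompact f] (K : X.IdealSheafData) :
    (K.map f).comap f = K := by
  refine le_antisymm (Scheme.IdealSheafData.comap_map_le _ _) fun V a ha => ?_
  rw [Scheme.IdealSheafData.ideal_comap_of_isOpenImmersion, Ideal.mem_comap,
    Scheme.IdealSheafData.ideal_map K f _ ((V.2.image_of_isOpenImmersion f).preimage_of_isOpenImmersion f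
      (Scheme.Hom.image_le_opensRange f _)), Ideal.mem_comap]
  have h1 := ConcreteCategory.congr_hom (f.appIso_inv_app V.1) a
  refine (congrArg (· ∈ _) h1).mpr ?_
  exact K.ideal_le_comap_ideal (U := ⟨f ⁻¹ᵁ f ''ᵁ V.1, (V.2.image_of_isOpenImmersion f).preimage_of_isOpenImmersion f
    (Scheme.Hom.image_le_opensRange f _)⟩) (V := V) (Scheme.Hom.preimage_image_eq f V.1).le ha

/-- Ideal data with the same inverse image along an open immersion agree on its range. -/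
theorem ideal_eq_of_comap_eq (f : X ⟶ Y) [IsOpenImmersion f] {A B : Y.IdealSheafData} (e : A.comap f = B.comap f)
    (V : Y.affineOpens) (hV : V.1 ≤ f.opensRange) : A.ideal V = B.ideal V := by
  let V' : X.affineOpens := ⟨f ⁻¹ᵁ V.1, V.2.preimage_of_isOpenImmersion f hV⟩
  have h1 : A.ideal ⟨f ''ᵁ V'.1, V'.2.image_of_isOpenImmersion f⟩ =
      B.ideal ⟨f ''ᵁ V'.1, V'.2.image_of_isOpenImmersion f⟩ := by
    have h2 := congrArg (fun C : X.IdealSheafData => C.ideal V') e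
    simp only [Scheme.IdealSheafData.ideal_comap_of_isOpenImmersion] at h2
    haveI : IsIso (f.appIso V'.1).inv := inferInstance
    have hb := ConcreteCategory.bijective_of_isIso (f.appIso V'.1).inv
    exact Ideal.comap_injective_of_surjective _ hb.2 h2
  have h3 : (⟨f ''ᵁ V'.1, V'.2.image_of_isOpenImmersion f⟩ : Y.affineOpens) = V :=
    Subtype.ext ((f.image_preimage_eq_opensRange_inf V.1).trans (inf_eq_right.mpr hV))
  rw [h3] at h1
  exact h1

/-- Finite type data push forward to finite type data along finitely presented closed immersions. -/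
theorem map_ft (g : X ⟶ Y) [IsClosedImmersion g] (hg : BlowUp.IsFiniteTypeIdeal g.ker) {K : X.IdealSheafData}
    (hK : FSch.IdealFT K) : BlowUp.IsFiniteTypeIdeal (K.map g) := fun V => by
  rw [Scheme.IdealSheafData.ideal_map_of_isAffineHom]
  have hs := g.app_surjective V.1 V.2
  refine Ideal.fg_of_fg_map_of_fg_inf_ker_of_surjective ?_ ?_ hs
  · rw [Ideal.map_comap_of_surjective _ hs]
    exact hK _
  · rw [inf_eq_right.mpr (show RingHom.ker (g.app V.1).hom ≤ Ideal.comap (g.app V.1).hom _ from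
      Ideal.comap_mono bot_le), ← Scheme.Hom.ker_apply]
    exact hg V

theorem ideal_pow_ft {A : X.IdealSheafData} (hA : BlowUp.IsFiniteTypeIdeal A) (k : ℕ) :
    BlowUp.IsFiniteTypeIdeal (A ^ k) := fun V => by
  rw [Scheme.IdealSheafData.ideal_pow, Pi.pow_apply]
  exact (hA V).pow

theorem comap_one (f : X ⟶ Y) : (1 : Y.IdealSheafData).comap f = 1 := Scheme.IdealSheafData.comap_top f

/-- Glue descended ideals given on the members of a finite cover by open affines. -/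
theorem exists_descend_glue [CompactSpace Y] [QuasiSeparatedSpace Y] (b : X ⟶ Y) [QuasiCompact b]
    (T : X.IdealSheafData) {σ : Type} [Finite σ] (D : σ → Y.affineOpens)
    (hD : (⨆ i, (D i).1) = ⊤) (G' : σ → Y.IdealSheafData) (hfg : ∀ i, ((G' i).ideal (D i)).FG)
    (hG' : ∀ i (V : X.affineOpens), V.1 ≤ b ⁻¹ᵁ (D i).1 → ((G' i).comap b).ideal V = T.ideal V) :
    ∃ G : Y.IdealSheafData, FSch.IdealFT G ∧ G.comap b = T := by
  classical
  haveI := Fintype.ofFinite σ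
  have hle : ∀ i, (G' i).ideal (D i) ≤ (T.map b).ideal (D i) := fun i s hs => by
    change s ∈ (T.subschemeι ≫ b).ker.ideal (D i)
    rw [Scheme.Hom.ker_apply, RingHom.mem_ker]
    refine T.subscheme.IsSheaf.section_ext fun z hz => ?_
    obtain ⟨V, hV, hzV, hVle⟩ := exists_isAffineOpen_mem_and_subset (x := T.subschemeι.base z)
      (U := b ⁻¹ᵁ (D i).1) hz
    have hVle' : V ≤ b ⁻¹ᵁ (D i).1 := hVle
    have hle' : T.subschemeι ⁻¹ᵁ V ≤ (T.subschemeι ≫ b) ⁻¹ᵁ (D i).1 := fun y hy => hVle hy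
    refine ⟨T.subschemeι ⁻¹ᵁ V, hle', hzV, ?_⟩
    rw [map_zero]
    change ((T.subschemeι ≫ b).app (D i).1 ≫ T.subscheme.presheaf.map (homOfLE hle').op).hom s = 0
    have e : (T.subschemeι ≫ b).app (D i).1 ≫ T.subscheme.presheaf.map (homOfLE hle').op =
        b.appLE (D i).1 V hVle' ≫ T.subschemeι.app V := by
      rw [Scheme.Hom.app_eq_appLE, Scheme.Hom.app_eq_appLE, Scheme.Hom.appLE_map,
        Scheme.Hom.appLE_comp_appLE]
    rw [e]
    refine RingHom.mem_ker.1 ((T.ker_subschemeι_app ⟨V, hV⟩).ge ?_)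
    rw [← hG' i ⟨V, hV⟩ hVle', FSchLib.ideal_comap_eq_map b _ ⟨V, hV⟩ (D i) hVle']
    exact Ideal.mem_map_of_mem _ hs
  have hex : ∀ i, ∃ G ≤ T.map b, FSch.IdealFT G ∧ G.ideal (D i) = (G' i).ideal (D i) := fun i => by
    have he : (T.map b ⊓ G' i).ideal (D i) = (G' i).ideal (D i) := by
      rw [Scheme.IdealSheafData.ideal_inf, Pi.inf_apply]
      exact inf_eq_right.mpr (hle i)
    obtain ⟨G, hG, hGft, hGD, -⟩ := exists_fg_le_finset (T.map b ⊓ G' i) {D i} (fun M hM => by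
      rw [Finset.mem_singleton.mp hM, he]; exact hfg i)
    exact ⟨G, hG.trans inf_le_left, hGft, (hGD _ (Finset.mem_singleton_self _)).trans he⟩
  choose G hG hGft hGD using hex
  refine ⟨Finset.univ.sup G, fun V => ?_, le_antisymm
    (Scheme.IdealSheafData.le_map_iff_comap_le.1 (Finset.sup_le fun i _ => hG i)) ?_⟩
  · refine Finset.sup_induction (p := fun K : Y.IdealSheafData => (K.ideal V).FG) ?_ ?_ fun i _ => hGft i V
    · rw [Scheme.IdealSheafData.ideal_bot, Pi.bot_apply]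
      exact Submodule.fg_bot
    · intro K₁ h₁ K₂ h₂
      rw [Scheme.IdealSheafData.ideal_sup, Pi.sup_apply]
      exact Submodule.FG.sup h₁ h₂
  · refine Scheme.IdealSheafData.le_of_iSup_eq_top
      (fun P : {P : X.affineOpens // ∃ i, P.1 ≤ b ⁻¹ᵁ (D i).1} => P.1) (top_le_iff.1 fun x _ => ?_)
      fun ⟨P, i, hP⟩ => ?_
    · obtain ⟨i, hi⟩ := Opens.mem_iSup.1 (hD.ge (show b.base x ∈ (⊤ : Y.Opens) from trivial))
      obtain ⟨V, hV, hxV, hle⟩ := exists_isAffineOpen_mem_and_subset (x := x) (U := b ⁻¹ᵁ (D i).1) hi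
      exact Opens.mem_iSup.2 ⟨⟨⟨V, hV⟩, i, hle⟩, hxV⟩
    · rw [← hG' i P hP]
      refine le_trans (le_of_eq ?_)
        (Scheme.IdealSheafData.comap_mono b (Finset.le_sup (Finset.mem_univ i) : G i ≤ _) P)
      rw [FSchLib.ideal_comap_eq_map b _ P (D i) hP, FSchLib.ideal_comap_eq_map b _ P (D i) hP, hGD]

end Scheme

variable {R : Type u} [CommRing R] {I : Ideal R} {𝔛 𝔛' : FSch.Sys.{u}} (h : 𝔛.IsFormal) (h' : 𝔛'.IsFormal)
  (p : 𝔛 ⟶ FSch.spf R I) (b : 𝔛' ⟶ 𝔛) (J : FBlow.IdealSh (𝔛.Osh h))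

namespace LocalBlow

variable {h b J} (d : LocalBlow h b J)

theorem spfToSpec_eq_rS (L : ℕ) :
    rS (𝟙 (FSch.spf d.A d.K)) L = FSch.spfToSpec d.A d.K L := Category.id_comp _

theorem isAdicHom_id : FSch.IsAdicHom (𝟙 (FSch.spf d.A d.K)) := fun n =>
  haveI : IsIso ((𝟙 (FSch.spf d.A d.K) : FSch.Hom _ _).app n) := inferInstanceAs (IsIso (𝟙 _))
  haveI : IsIso ((𝟙 (FSch.spf d.A d.K) : FSch.Hom _ _).app (n + 1)) := inferInstanceAs (IsIso (𝟙 _))
  IsPullback.of_vert_isIso ⟨((Category.comp_id _).trans (Category.id_comp _).symm)⟩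

include h' in
/-- The exceptional ideal on the chart. -/
theorem idealMap_bA_centre :
    FBlow.idealMap d.bA d.hZ d.hF (centre (FSch.spf d.A d.K) d.hF (FSch.spfToSpec d.A d.K)
      (FSch.spfToSpec_comm d.A d.K) d.𝔞) = FBlow.idealMap d.k d.hZ h' (FBlow.idealMap b h' h J) := by
  rw [← d.centre_eq, idealMap_comp h d.hF d.hZ d.θ d.bA J, idealMap_comp h h' d.hZ b d.k J, d.comm]

variable (hp : FSch.IsAdicHom p) (hI : I.FG) (hb : FSch.IsAdicHom b)

include h' p hp hI hb in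
/-- The scheme descent pulled to the level `L`. -/
theorem exists_level_descend {mA : ℕ} {𝒜 : (𝔛'.X mA).IdealSheafData} (hA : FSch.IdealFT 𝒜) :
    ∃ N₀ L₀ : ℕ, ∀ (N L : ℕ), N₀ ≤ N → L₀ ≤ L → ∀ (𝒥L : (𝔛.X L).IdealSheafData) (𝒜L : (𝔛'.X L).IdealSheafData),
      J = FBlow.ofLevel 𝔛 h L 𝒥L → FBlow.ofLevel 𝔛' h' L 𝒜L = FBlow.ofLevel 𝔛' h' mA 𝒜 →
      ∃ H : ((FSch.spf d.A d.K).X L).IdealSheafData, FSch.IdealFT H ∧
        H.comap ((d.bA : FSch.Hom _ _).app L) =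
          ((𝒥L.comap ((b : FSch.Hom 𝔛' 𝔛).app L)) ^ N * 𝒜L).comap ((d.k : FSch.Hom _ 𝔛').app L) := by
  haveI := d.a_closed
  haveI := d.k_open
  obtain ⟨m, hm⟩ := d.bound
  let pA := 𝟙 (FSch.spf d.A d.K)
  have hpA := d.isAdicHom_id
  let pZ := d.k ≫ b ≫ p
  have hpZ : FSch.IsAdicHom pZ := isAdicHom_comp d.k_adic (isAdicHom_comp hb hp)
  have hp' : FSch.IsAdicHom (b ≫ p) := isAdicHom_comp hb hp
  let 𝒜Z := 𝒜.comap ((d.k : FSch.Hom _ 𝔛').app mA)
  let Jalg := 𝒜Z.map (d.a mA)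
  have hKft : BlowUp.IsFiniteTypeIdeal (FSch.idealSpec d.A d.K) := idealSpec_ft d.hK
  have hker : BlowUp.IsFiniteTypeIdeal (d.a mA).ker := by
    haveI : IsClosedImmersion (FSch.spfToSpec d.A d.K mA) :=
      IsClosedImmersion.spec_of_surjective _ Ideal.Quotient.mk_surjective
    rw [FSchLib.ker_of_isPullback (d.pull mA),
      show (FSch.spfToSpec d.A d.K mA).ker = FSch.idealSpec d.A d.K ^ (mA + 1) from FSchLib.ker_specQuot _ _ _]
    exact idealFT_comap _ (ideal_pow_ft hKft _)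
  obtain ⟨N₁, G₀, hG₀, hG₀q⟩ := FlatMorAdm.exists_descend (idealSpec_ft d.h𝔞) d.hq Jalg
    (map_ft _ hker (idealFT_comap _ hA))
  refine ⟨N₁ + 1, max mA m, fun N L hN hL 𝒥L 𝒜L hJ hAL => ?_⟩
  obtain ⟨e, rfl⟩ := Nat.exists_eq_add_of_le hN
  have hLA : mA ≤ L := (le_max_left _ _).trans hL
  have hLm : m ≤ L + 1 := ((le_max_right _ _).trans hL).trans (Nat.le_succ _)
  let sts := FSch.spfToSpec d.A d.K L
  refine ⟨(G₀ * FSch.idealSpec d.A d.𝔞 ^ e).comap sts, idealFT_comap _ fun V => ?_, ?_⟩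
  · rw [Scheme.IdealSheafData.ideal_mul, Pi.mul_apply]
    exact (hG₀ V).mul (ideal_pow_ft (idealSpec_ft d.h𝔞) e V)
  have hw : ((d.bA : FSch.Hom _ _).app L) ≫ sts = d.a L ≫ d.q := (d.pull L).w.symm
  -- the exceptional ideal
  have hE : ((FSch.idealSpec d.A d.𝔞).comap d.q).comap (d.a L) =
      (𝒥L.comap ((b : FSch.Hom 𝔛' 𝔛).app L)).comap ((d.k : FSch.Hom _ 𝔛').app L) := by
    rw [← Scheme.IdealSheafData.comap_comp, ← hw, Scheme.IdealSheafData.comap_comp]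
    refine ofLevel_injective d.hZ pZ hpZ hI ?_
    rw [← idealMap_ofLevel d.hF pA hpA d.hK d.hZ d.bA d.bA_adic L,
      ← idealMap_ofLevel h' (b ≫ p) hp' hI d.hZ d.k d.k_adic L,
      ← idealMap_ofLevel h p hp hI h' b hb L, ← hJ, ← idealMap_bA_centre h' d]
    congr 1
    have hK : d.K ^ (L + 1) ≤ d.𝔞 := (Ideal.pow_le_pow_right hLm).trans hm
    have hc := centre_eq_ofLevel d.hF pA hpA d.hK d.𝔞 hK
    have e1 : rS pA = FSch.spfToSpec d.A d.K := funext d.spfToSpec_eq_rS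
    simp only [e1] at hc
    exact hc.symm
  -- the ideal on the blow-up
  have hA' : ∀ L' : ℕ, mA ≤ L' → ∃ KL : (d.Z.X L').IdealSheafData,
      FBlow.ofLevel d.Z d.hZ L' KL = FBlow.ofLevel d.Z d.hZ mA 𝒜Z ∧ KL.map (d.a L') = Jalg := by
    intro L' hL'
    induction L', hL' using Nat.le_induction with
    | base => exact ⟨𝒜Z, rfl, rfl⟩
    | succ k hk ih =>
      obtain ⟨KL, e1, e2⟩ := ih
      haveI := (d.hZ k).1
      exact ⟨KL.map (d.Z.ι k), (ofLevel_map_succ d.hZ k KL).trans e1, by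
        rw [← Scheme.IdealSheafData.map_comp, d.ha, e2]⟩
  have hJA : Jalg.comap (d.a L) = 𝒜L.comap ((d.k : FSch.Hom _ 𝔛').app L) := by
    obtain ⟨KL, e1, e2⟩ := hA' L hLA
    rw [← e2, comap_map_of_isClosedImmersion]
    refine ofLevel_injective d.hZ pZ hpZ hI ?_
    rw [e1, ← idealMap_ofLevel h' (b ≫ p) hp' hI d.hZ d.k d.k_adic L, hAL,
      idealMap_ofLevel h' (b ≫ p) hp' hI d.hZ d.k d.k_adic mA]
  rw [← Scheme.IdealSheafData.comap_comp, hw, Scheme.IdealSheafData.comap_comp, FSchLib.comap_mul, hG₀q,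
    FSchLib.comap_pow, mul_right_comm, ← pow_add, FSchLib.comap_mul, FSchLib.comap_pow, hE, hJA,
    FSchLib.comap_mul, FSchLib.comap_pow]

end LocalBlow

variable (hR : AdicRing.IsBase R I) (hp : FSch.IsAdicHom p)
  (hfp : ∀ n, LocallyOfFinitePresentation ((p : FSch.Hom 𝔛 (FSch.spf R I)).app n))
  (htf : ∀ (U : (𝔛.X 0).Opens) (s : (𝔛.Osh h).obj.obj (Opposite.op U)),
    (∀ a ∈ (FBlow.IdealSh.ker (𝔛.OshProj h 0)).sect U, a * s = 0) → s = 0)
  (hJ : FBlow.IsCohOpen 𝔛 h J) (hb : FBlow.IsAdmBlowUp b h' h J)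

include hR hp hfp htf hJ hb in
theorem exists_descend_formal [CompactSpace (𝔛.X 0)] [QuasiSeparatedSpace (𝔛.X 0)]
    {J' : FBlow.IdealSh (𝔛'.Osh h')} (hJ' : FBlow.IsCohOpen 𝔛' h' J') :
    ∃ (N : ℕ) (K : FBlow.IdealSh (𝔛.Osh h)), FBlow.IsCohOpen 𝔛 h K ∧
      FBlow.idealMap b h' h K = FBlow.IdealSh.mul (idPow h' (FBlow.idealMap b h' h J) N) J' := by
  classical
  have hI := ValTate.isBase_fg hR
  haveI := isProper_level h h' p b J hR hp hfp htf hJ hb 0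
  haveI : CompactSpace (𝔛'.X 0) := QuasiCompact.compactSpace_of_compactSpace ((b : FSch.Hom 𝔛' 𝔛).app 0)
  haveI : QuasiSeparatedSpace (𝔛'.X 0) := quasiSeparatedSpace_of_quasiSeparated ((b : FSch.Hom 𝔛' 𝔛).app 0)
  have hp' : FSch.IsAdicHom (b ≫ p) := isAdicHom_comp hb.1 hp
  obtain ⟨mJ, hmJ⟩ := exists_global_data h p hp hI hJ
  obtain ⟨mA, hmA⟩ := exists_global_data h' (b ≫ p) hp' hI hJ'
  obtain ⟨𝒥₀, h𝒥₀, hJ₀⟩ := hmJ mJ le_rfl
  obtain ⟨𝒜₀, h𝒜₀, hA₀⟩ := hmA mA le_rfl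
  choose d hd using exists_localBlow h h' p b J hR hp hfp htf hJ hb
  choose N₀ L₀ hloc using fun x => (d x).exists_level_descend h' p hp hI hb.1 (mA := mA) h𝒜₀
  obtain ⟨t, ht⟩ := isCompact_univ.elim_finite_subcover
    (fun x => Set.range (((d x).θ : FSch.Hom _ 𝔛).app 0).base)
    (fun x => by haveI := (d x).θ_open 0; exact (((d x).θ : FSch.Hom _ 𝔛).app 0).isOpenEmbedding.isOpen_range)
    (fun x _ => Set.mem_iUnion.2 ⟨x, hd x⟩)
  obtain ⟨k, ⟨σ⟩⟩ := Finite.exists_equiv_fin t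
  let N := t.sup N₀ + 1
  let P := N * (mJ + 1)
  let L := max (t.sup L₀) (max mJ (P + mA + 1))
  obtain ⟨𝒥L, h𝒥L, hJL⟩ := hmJ L ((le_max_left _ _).trans (le_max_right _ _))
  obtain ⟨𝒜L, h𝒜L, hAL⟩ := hmA L (by omega)
  haveI : CompactSpace (𝔛.X L) := (𝔛.levelHomeo h L).compactSpace
  haveI : QuasiSeparatedSpace (𝔛.X L) := (𝔛.levelHomeo h L).symm.isOpenEmbedding.quasiSeparatedSpace
  haveI := isProper_level h h' p b J hR hp hfp htf hJ hb L
  let 𝒯 := (𝒥L.comap ((b : FSch.Hom 𝔛' 𝔛).app L)) ^ N * 𝒜L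
  let x : Fin k → 𝔛.X 0 := fun i => (σ.symm i).1
  haveI : ∀ i n, IsOpenImmersion (((d (x i)).θ : FSch.Hom _ 𝔛).app n) := fun i => (d (x i)).θ_open
  haveI : ∀ i n, IsOpenImmersion (((d (x i)).k : FSch.Hom _ 𝔛').app n) := fun i => (d (x i)).k_open
  haveI : ∀ i, IsAffine ((FSch.spf (d (x i)).A (d (x i)).K).X L) := fun i => isAffine_Spec _
  choose H hHft hH using fun i => hloc (x i) N L
    ((Finset.le_sup (σ.symm i).2).trans (Nat.le_succ _)) ((Finset.le_sup (σ.symm i).2).trans (le_max_left _ _))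
    𝒥L 𝒜L hJL (hAL.symm.trans hA₀)
  let D : Fin k → (𝔛.X L).affineOpens := fun i =>
    ⟨(((d (x i)).θ : FSch.Hom _ 𝔛).app L).opensRange, isAffineOpen_opensRange _⟩
  have hD : (⨆ i, (D i).1) = ⊤ := top_le_iff.1 fun z _ => by
    obtain ⟨y, hy, hzy⟩ := Set.mem_iUnion₂.1 (ht (Set.mem_univ ((𝔛.gInv h L).hom z)))
    refine Opens.mem_iSup.2 ⟨σ ⟨y, hy⟩, ?_⟩
    change z ∈ Set.range _
    rw [range_app_eq h (d _).hF]
    change (𝔛.gInv h L).hom z ∈ Set.range (((d (σ.symm (σ ⟨y, hy⟩)).1).θ : FSch.Hom _ 𝔛).app 0).base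
    rw [σ.symm_apply_apply]
    exact hzy
  obtain ⟨G, hGft, hGb⟩ := exists_descend_glue ((b : FSch.Hom 𝔛' 𝔛).app L) 𝒯 D hD
    (fun i => (H i).map (((d (x i)).θ : FSch.Hom _ 𝔛).app L)) (fun i => by
      let θ := ((d (x i)).θ : FSch.Hom _ 𝔛).app L
      haveI : IsIso (θ.app θ.opensRange) := θ.isIso_app _ le_rfl
      rw [Scheme.IdealSheafData.ideal_map (H i) θ (D i)
        ((D i).2.preimage_of_isOpenImmersion θ le_rfl)]
      let e := (asIso (θ.app θ.opensRange)).commRingCatIsoToRingEquiv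
      have : (θ.app θ.opensRange).hom = e.toRingHom := rfl
      erw [this]
      exact (Ideal.map_symm (f := e) (I := (H i).ideal ⟨_, _⟩)).symm ▸ (hHft i _).map _)
    fun i V hV => by
      refine ideal_eq_of_comap_eq (((d (x i)).k : FSch.Hom _ 𝔛').app L) ?_ V (fun z hz => ?_)
      · rw [← Scheme.IdealSheafData.comap_comp,
          show ((d (x i)).k : FSch.Hom _ 𝔛').app L ≫ (b : FSch.Hom 𝔛' 𝔛).app L =
            ((d (x i)).bA : FSch.Hom _ _).app L ≫ ((d (x i)).θ : FSch.Hom _ 𝔛).app L from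
            congrArg (fun m : (d (x i)).Z ⟶ 𝔛 => (m : FSch.Hom _ _).app L) (d (x i)).comm,
          Scheme.IdealSheafData.comap_comp, le_comap_map_of_openImmersion]
        exact hH i
      · exact ((d (x i)).range L).ge (hV hz)
  refine ⟨N, FBlow.ofLevel 𝔛 h L G, fun _ => ⟨⊤, trivial, L, G, hGft, fun _ _ => rfl⟩, ?_⟩
  have hEm : FBlow.idealMap b h' h J = FBlow.ofLevel 𝔛' h' mJ (𝒥₀.comap ((b : FSch.Hom 𝔛' 𝔛).app mJ)) :=
    (congrArg _ hJ₀).trans (idealMap_ofLevel h p hp hI h' b hb.1 mJ 𝒥₀)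
  have hEL : FBlow.ofLevel 𝔛' h' L (𝒥L.comap ((b : FSch.Hom 𝔛' 𝔛).app L)) =
      FBlow.ofLevel 𝔛' h' mJ (𝒥₀.comap ((b : FSch.Hom 𝔛' 𝔛).app mJ)) := by
    rw [← idealMap_ofLevel h p hp hI h' b hb.1 L, ← hJL, hEm]
  obtain ⟨ℰ, -, hℰ⟩ := exists_ofLevel_raise h' (b ≫ p) hp' hI mJ _ (idealFT_comap _ h𝒥₀) P
    (show mJ ≤ P from (Nat.le_succ mJ).trans (Nat.le_mul_of_pos_left _ (Nat.succ_pos _)))
  have hpow := idPow_eq_ofLevel h' (b ≫ p) hp' hI (idealFT_comap _ h𝒥₀) N (L := P) le_rfl hℰ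
  have hpowL := idPow_eq_ofLevel h' (b ≫ p) hp' hI (idealFT_comap _ h𝒥₀) N (L := L) (by omega) hEL
  rw [idealMap_ofLevel h p hp hI h' b hb.1 L, hGb, hEm, hpowL, hAL]
  exact (ofLevel_mul h' (b ≫ p) hp' hI (n := P) (m := mA) (by omega) (hpowL.symm.trans hpow)
    (hAL.symm.trans hA₀)).symm

include hR hp hfp htf hJ hb in
/-- A composite of admissible formal blow-ups of a quasi-compact quasi-separated system is one. -/
theorem exists_isAdmBlowUp_comp [CompactSpace (𝔛.X 0)] [QuasiSeparatedSpace (𝔛.X 0)]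
    {J' : FBlow.IdealSh (𝔛'.Osh h')} (hJ' : FBlow.IsCohOpen 𝔛' h' J')
    {𝔛'' : FSch.Sys.{u}} (h'' : 𝔛''.IsFormal)
    (htf'' : ∀ (U : (𝔛''.X 0).Opens) (s : (𝔛''.Osh h'').obj.obj (Opposite.op U)),
      (∀ a ∈ (FBlow.IdealSh.ker (𝔛''.OshProj h'' 0)).sect U, a * s = 0) → s = 0)
    (b' : 𝔛'' ⟶ 𝔛') (hb' : FBlow.IsAdmBlowUp b' h'' h' J') :
    ∃ J'' : FBlow.IdealSh (𝔛.Osh h), FBlow.IsCohOpen 𝔛 h J'' ∧ FBlow.IsAdmBlowUp (b' ≫ b) h'' h J'' := by
  have hI := ValTate.isBase_fg hR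
  obtain ⟨N, K, hK, hKb⟩ := exists_descend_formal h h' p b J hR hp hfp htf hJ hb hJ'
  refine ⟨FBlow.IdealSh.mul J K, isCohOpen_mul h p hp hI hJ hK, isAdicHom_comp hb'.1 hb.1, ?_,
    fun 𝔜 hY g hg hinv => ?_⟩
  · have hp' : FSch.IsAdicHom (b ≫ p) := isAdicHom_comp hb.1 hp
    have hp'' : FSch.IsAdicHom (b' ≫ b ≫ p) := isAdicHom_comp hb'.1 hp'
    have hcE := isCohOpen_idealMap h h' p b hp hb.1 hI hJ
    have hcpow : ∀ k, FBlow.IsCohOpen 𝔛' h' (idPow h' (FBlow.idealMap b h' h J) k) := fun k => by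
      induction k with
      | zero => exact isCohOpen_top h'
      | succ k ih => exact isCohOpen_mul h' (b ≫ p) hp' hI hcE ih
    have hpull : ∀ (Q : FBlow.IdealSh (𝔛'.Osh h')), FBlow.IsCohOpen 𝔛' h' Q → Q.IsInvertible →
        (FBlow.idealMap b' h'' h' Q).IsInvertible := fun Q hQc hQ =>
      isInvertible_idealMap_of_open h' h'' (b' ≫ b ≫ p) hp'' hI htf'' b' hQ
        (exists_baseHom_mem h'' (b' ≫ b ≫ p) (isCohOpen_idealMap h' h'' (b ≫ p) b' hp' hb'.1 hI hQc))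
    rw [← idealMap_comp h h' h'' b b' _, idealMap_mul h h', hKb, idealMap_mul h' h'', idealMap_mul h' h'']
    exact isInvertible_mul h'' (hpull _ hcE hb.2.1)
      (isInvertible_mul h'' (hpull _ (hcpow N) (isInvertible_idPow h' hb.2.1 N)) hb'.2.1)
  · rw [idealMap_mul h hY] at hinv
    obtain ⟨hJY, hKY⟩ := isInvertible_of_mul hY hinv
    obtain ⟨g', hg', hg'u⟩ := hb.2.2 𝔜 hY g hg hJY
    have hg'ad : FSch.IsAdicHom g' := isAdicHom_of_comp hb.1 (hg'.symm ▸ hg)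
    have e2 : (FBlow.idealMap g' hY h' J').IsInvertible := by
      rw [show FBlow.idealMap g hY h K = FBlow.idealMap g' hY h' (FBlow.idealMap b h' h K) by
        rw [idealMap_comp h h' hY b g' K, hg'], hKb, idealMap_mul h' hY] at hKY
      exact (isInvertible_of_mul hY hKY).2
    obtain ⟨g'', hg'', hg''u⟩ := hb'.2.2 𝔜 hY g' hg'ad e2
    refine ⟨g'', show g'' ≫ b' ≫ b = g by rw [← Category.assoc, hg'', hg'], fun q hq => hg''u q (hg'u (q ≫ b') ?_)⟩
    exact (Category.assoc _ _ _).trans hq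

end Groth.Agent.FBlowLib
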