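import Groth.Agent.FBlowLib.ClosureCompact
import Groth.Agent.FBlowLib.FTExtend
import Groth.Agent.FBlowLib.CohMap

/-!
# Extension of coherent open ideals from quasi-compact opens

`exists_cohOpen_extend`: a coherent open ideal on a quasi-compact open `U` extends to a coherent open ideal
which is the unit ideal on the opens disjoint from `U`.
-/

universe u

open CategoryTheory CategoryTheory.Limits TopologicalSpace Opposite AlgebraicGeometry

namespace Groth.Agent.FBlowLib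

variable {R : Type u} [CommRing R] {I : Ideal R} {𝔛 : FSch.Sys.{u}} (h : 𝔛.IsFormal) (p : 𝔛 ⟶ FSch.spf R I)

theorem lvU_toX_preimage (n : ℕ) (V : (𝔛.X n).Opens) : 𝔛.lvU h n (𝔛.toX n ⁻¹ᵁ V) = V := by
  refine Opens.ext (Set.ext fun x => ?_)
  change (𝔛.toX n).base ((𝔛.gInv h n).hom x) ∈ V ↔ x ∈ V
  rw [show (𝔛.toX n).base ((𝔛.gInv h n).hom x) = x from ConcreteCategory.congr_hom (𝔛.gInv_toX_base h n) x]

theorem lvU_eq_image (n : ℕ) (V : Set (𝔛.X 0)) :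
    (𝔛.gInv h n).hom ⁻¹' V = (𝔛.toX n).base '' V := by
  refine Set.ext fun x => ⟨fun hx => ⟨_, hx, ConcreteCategory.congr_hom (𝔛.gInv_toX_base h n) x⟩, ?_⟩
  rintro ⟨z, hz, rfl⟩
  change (𝔛.gInv h n).hom ((𝔛.toX n).base z) ∈ V
  rw [show (𝔛.gInv h n).hom ((𝔛.toX n).base z) = z from ConcreteCategory.congr_hom (𝔛.toX_base_gInv h n) z]
  exact hz

include h in
theorem isClosedMap_toX (n : ℕ) : IsClosedMap (𝔛.toX n).base := by
  haveI : IsClosedImmersion (𝔛.toX n) := FSch.Sys.toX_isClosedImmersion 𝔛 h n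
  exact (𝔛.toX n).isClosedEmbedding.isClosedMap

variable (hp : FSch.IsAdicHom p) (hI : I.FG) (J : FBlow.IdealSh (𝔛.Osh h)) {O V : (𝔛.X 0).Opens} {n : ℕ}
  {𝒜 : (𝔛.X n).IdealSheafData} (hJ : ∀ V : (𝔛.X 0).Opens, V ≤ O → J.sect V = (FBlow.ofLevel 𝔛 h n 𝒜).sect V)
  (hV : IsAffineOpen V)

include hp hI hJ hV in
theorem sect_fg (hft : FSch.IdealFT 𝒜) (hVO : V ≤ O) : (J.sect V).FG := by
  obtain ⟨-, hpp, -⟩ := proj_props h p hV hp hI
  rw [sect_eq_comap h J hJ hV hVO]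
  obtain ⟨L, hL, hLfg, hLmap⟩ := FlatMorStrata.exists_fg_le_map_eq (proj 𝔛 h n V)
    ((𝒜.ideal ⟨_, isAffineOpen_lvU h n hV⟩).comap (proj 𝔛 h n V))
    (by rw [Ideal.map_comap_of_surjective _ (hpp n).1]; exact hft _)
  rw [Ideal.map_comap_of_surjective _ (hpp n).1] at hLmap
  rw [← hLmap, Ideal.comap_map_of_surjective _ (hpp n).1, ← RingHom.ker_eq_comap_bot, (hpp n).2]
  exact Submodule.FG.sup hLfg ((Ideal.FG.pow hI).map _)

include hp hI hJ hV in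
theorem ker_le_sect (hVO : V ≤ O) {N : ℕ} (hN : n ≤ N) (a : R) (ha : a ∈ I ^ (N + 1)) :
    baseHom h p V a ∈ J.sect V := by
  obtain ⟨-, hpp, -⟩ := proj_props h p hV hp hI
  rw [sect_eq_comap h J hJ hV hVO]
  refine Ideal.comap_mono bot_le ?_
  change baseHom h p V a ∈ RingHom.ker (proj 𝔛 h n V)
  rw [(hpp n).2]
  exact Ideal.mem_map_of_mem _ (Ideal.pow_le_pow_right (Nat.succ_le_succ hN) ha)

set_option maxHeartbeats 800000 in
theorem exists_cohOpen_extend (hR : AdicRing.IsBase R I) (hp : FSch.IsAdicHom p)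
    (hfp : ∀ n, LocallyOfFinitePresentation ((p : FSch.Hom 𝔛 (FSch.spf R I)).app n))
    (htf : ∀ (U : (𝔛.X 0).Opens) (s : (𝔛.Osh h).obj.obj (Opposite.op U)),
      (∀ a ∈ (FBlow.IdealSh.ker (𝔛.OshProj h 0)).sect U, a * s = 0) → s = 0)
    [QuasiSeparatedSpace (𝔛.X 0)] (U W : (𝔛.X 0).Opens) (hUc : IsCompact (U : Set (𝔛.X 0)))
    (hWc : IsCompact (W : Set (𝔛.X 0))) (hUW : closure (U : Set (𝔛.X 0)) ⊆ W)
    (hU : (𝔛.restrictOpen h U).IsFormal) (JU : FBlow.IdealSh ((𝔛.restrictOpen h U).Osh hU))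
    (hJU : FBlow.IsCohOpen (𝔛.restrictOpen h U) hU JU) :
    ∃ J : FBlow.IdealSh (𝔛.Osh h), FBlow.IsCohOpen 𝔛 h J ∧
      FBlow.idealMap (𝔛.restrictOpenι h U) hU h J = JU ∧
      ∀ V : (𝔛.X 0).Opens, V ⊓ U = ⊥ → J.sect V = ⊤ := by
  have hI := ValTate.isBase_fg hR
  let ι := 𝔛.restrictOpenι h U
  let p' := ι ≫ p
  have hp' : FSch.IsAdicHom p' := isAdicHom_comp (FSchLib.isAdicHom_restrictOpenι h U) hp
  haveI hoi : ∀ n, IsOpenImmersion ((ι : FSch.Hom _ 𝔛).app n) := fun n =>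
    inferInstanceAs (IsOpenImmersion (𝔛.lvU h n U).ι)
  have hrange : Set.range ((ι : FSch.Hom _ 𝔛).app 0).base = (U : Set (𝔛.X 0)) :=
    range_restrictOpenι h U
  haveI : CompactSpace ((𝔛.restrictOpen h U).X 0) := by
    refine ⟨((ι : FSch.Hom _ 𝔛).app 0).isOpenEmbedding.isInducing.isCompact_iff.mpr ?_⟩
    rw [Set.image_univ, hrange]
    exact hUc
  -- good affine opens
  have hex : ∀ x : (𝔛.restrictOpen h U).X 0, ∃ D' : ((𝔛.restrictOpen h U).X 0).Opens, IsAffineOpen D' ∧ x ∈ D' ∧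
      ∃ (U' : ((𝔛.restrictOpen h U).X 0).Opens) (m : ℕ) (𝒜 : ((𝔛.restrictOpen h U).X m).IdealSheafData),
        D' ≤ U' ∧ FSch.IdealFT 𝒜 ∧ ∀ V : ((𝔛.restrictOpen h U).X 0).Opens, V ≤ U' →
          JU.sect V = (FBlow.ofLevel (𝔛.restrictOpen h U) hU m 𝒜).sect V := fun x => by
    obtain ⟨U', hxU', m, 𝒜, hft, hJ'⟩ := hJU x
    obtain ⟨D', hD', hxD', hle⟩ := exists_isAffineOpen_mem_and_subset (x := x) (U := U') hxU'
    exact ⟨D', hD', hxD', U', m, 𝒜, hle, hft, hJ'⟩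
  choose D' hD' hxD' U' m 𝒜 hDU hft hJ' using hex
  obtain ⟨s, hs⟩ := isCompact_univ.elim_finite_subcover (fun x => (D' x : Set ((𝔛.restrictOpen h U).X 0)))
    (fun x => (D' x).2) (fun x _ => Set.mem_iUnion.2 ⟨x, hxD' x⟩)
  let N := s.sup m
  obtain ⟨k, ⟨σ⟩⟩ := Finite.exists_equiv_fin s
  let E : Fin k → ((𝔛.restrictOpen h U).X 0).Opens := fun i => D' (σ.symm i).1
  let D : Fin k → (𝔛.X 0).Opens := fun i => ((ι : FSch.Hom _ 𝔛).app 0) ''ᵁ E i
  have hD : ∀ i, IsAffineOpen (D i) := fun i => (hD' _).image_of_isOpenImmersion _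
  have hDun : (⋃ i, (D i : Set (𝔛.X 0))) = U := by
    refine subset_antisymm (Set.iUnion_subset fun i => ?_) fun x hx => ?_
    · rintro _ ⟨v, -, rfl⟩
      exact hrange.le ⟨v, rfl⟩
    · obtain ⟨z, rfl⟩ := hrange.ge hx
      obtain ⟨y, hy, hzy⟩ := Set.mem_iUnion₂.1 (hs (Set.mem_univ z))
      refine Set.mem_iUnion.2 ⟨σ ⟨y, hy⟩, z, ?_, rfl⟩
      change z ∈ D' (σ.symm (σ ⟨y, hy⟩)).1
      rw [σ.symm_apply_apply]
      exact hzy
  -- the transported ideals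
  let T : ∀ O : (𝔛.X 0).Opens, Ideal (Sec 𝔛 h O) := fun O =>
    (JU.sect ((ι : FSch.Hom _ 𝔛).app 0 ⁻¹ᵁ O)).comap (hpull h ι hU (le_refl _))
  have hbij : ∀ (i : Fin k) {O : (𝔛.X 0).Opens}, O ≤ D i →
      Function.Bijective (hpull h ι hU (le_refl ((ι : FSch.Hom _ 𝔛).app 0 ⁻¹ᵁ O))) := fun i {O} hO =>
    hpull_bijective h ι hU (hO.trans (Scheme.Hom.image_le_opensRange _ _)) le_rfl le_rfl
  have hEeq : ∀ i, (ι : FSch.Hom _ 𝔛).app 0 ⁻¹ᵁ D i = E i := fun i => Scheme.Hom.preimage_image_eq _ _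
  have haff : ∀ (i : Fin k) {O : (𝔛.X 0).Opens}, O ≤ D i → IsAffineOpen O →
      IsAffineOpen ((ι : FSch.Hom _ 𝔛).app 0 ⁻¹ᵁ O) := fun i {O} hO hOa =>
    hOa.preimage_of_isOpenImmersion _ (hO.trans (Scheme.Hom.image_le_opensRange _ _))
  have hleU : ∀ (i : Fin k) {O : (𝔛.X 0).Opens}, O ≤ D i →
      (ι : FSch.Hom _ 𝔛).app 0 ⁻¹ᵁ O ≤ U' (σ.symm i).1 := fun i {O} hO =>
    (Scheme.Hom.preimage_mono _ hO).trans ((hEeq i).le.trans (hDU _))
  have hTres : ∀ (i : Fin k) {O : (𝔛.X 0).Opens} (hO : O ≤ D i), IsAffineOpen O →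
      T O = (T (D i)).map (res 𝔛 h hO) := by
    intro i O hO hOa
    have hc : (hpull h ι hU (le_refl ((ι : FSch.Hom _ 𝔛).app 0 ⁻¹ᵁ O))).comp (res 𝔛 h hO) =
        (res (𝔛.restrictOpen h U) hU (Scheme.Hom.preimage_mono ((ι : FSch.Hom _ 𝔛).app 0) hO)).comp
          (hpull h ι hU (le_refl _)) := RingHom.ext fun a => by
      rw [RingHom.comp_apply, RingHom.comp_apply, hpull_res, res_hpull]
    apply le_antisymm
    · intro a ha
      have h1 := sect_le_map hU p' hp' hI JU (hJ' _) (haff i le_rfl (hD i)) (hleU i le_rfl) (haff i hO hOa)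
        (Scheme.Hom.preimage_mono _ hO) (Ideal.mem_comap.mp ha)
      rw [← Ideal.map_comap_of_surjective _ (hbij i le_rfl).2 (JU.sect ((ι : FSch.Hom _ 𝔛).app 0 ⁻¹ᵁ D i)),
        Ideal.map_map, ← hc, ← Ideal.map_map] at h1
      rw [← Ideal.comap_map_of_bijective (I := (T (D i)).map (res 𝔛 h hO)) _ (hbij i hO)]
      exact h1
    · refine Ideal.map_le_iff_le_comap.mpr fun a ha => ?_
      refine Ideal.mem_comap.mpr (Ideal.mem_comap.mpr ?_)
      have := RingHom.congr_fun hc a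
      rw [RingHom.comp_apply, RingHom.comp_apply] at this
      rw [this]
      exact JU.map_mem _ ha
  have hTker : ∀ (i : Fin k) {O : (𝔛.X 0).Opens}, O ≤ D i → IsAffineOpen O →
      RingHom.ker (proj 𝔛 h N O) ≤ T O := by
    intro i O hO hOa
    rw [((proj_props h p hOa hp hI).2.1 N).2, Ideal.map_le_iff_le_comap]
    intro a ha
    refine Ideal.mem_comap.mpr (Ideal.mem_comap.mpr ?_)
    rw [hpull_baseHom h hU p ι (le_refl _) a]
    exact ker_le_sect hU p' hp' hI JU (hJ' _) (haff i hO hOa) (hleU i hO) (Finset.le_sup (σ.symm i).2) a ha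
  have hTfg : ∀ i, (T (D i)).FG := fun i => by
    let e := RingEquiv.ofBijective _ (hbij i (le_refl (D i)))
    have h1 : T (D i) = (JU.sect _).map e.symm.toRingHom := (Ideal.map_symm (f := e) (I := JU.sect _)).symm
    rw [h1]
    exact (sect_fg hU p' hp' hI JU (hJ' _) (haff i le_rfl (hD i)) (hft _) (hleU i le_rfl)).map _
  -- the ideals of level `N`
  let DN : Fin k → (𝔛.X N).affineOpens := fun i => ⟨_, isAffineOpen_lvU h N (hD i)⟩
  haveI : QuasiSeparatedSpace (𝔛.X N) := (𝔛.levelHomeo h N).symm.isOpenEmbedding.quasiSeparatedSpace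
  obtain ⟨B, hBft, hBD, hBs⟩ := exists_ft_extend DN (fun i => (T (D i)).map (proj 𝔛 h N (D i)))
    (fun i => (hTfg i).map _) (fun i j V hi hj => by
      obtain ⟨V, hV⟩ := V
      obtain ⟨O, hO, rfl⟩ : ∃ O : (𝔛.X 0).Opens, IsAffineOpen O ∧ 𝔛.lvU h N O = V := by
        haveI : IsClosedImmersion (𝔛.toX N) := FSch.Sys.toX_isClosedImmersion 𝔛 h N
        exact ⟨_, hV.preimage (𝔛.toX N), lvU_toX_preimage h N V⟩
      have hle : ∀ l, 𝔛.lvU h N O ≤ 𝔛.lvU h N (D l) → O ≤ D l := fun l hl z hz => by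
        have hz' : (𝔛.toX N).base z ∈ 𝔛.lvU h N O := by
          change (𝔛.gInv h N).hom ((𝔛.toX N).base z) ∈ O
          rw [show (𝔛.gInv h N).hom ((𝔛.toX N).base z) = z from ConcreteCategory.congr_hom (𝔛.toX_base_gInv h N) z]
          exact hz
        have h2 : (𝔛.gInv h N).hom ((𝔛.toX N).base z) ∈ D l := hl hz'
        rwa [show (𝔛.gInv h N).hom ((𝔛.toX N).base z) = z from ConcreteCategory.congr_hom (𝔛.toX_base_gInv h N) z] at h2
      have hc : ∀ (l : Fin k) (hl : 𝔛.lvU h N O ≤ 𝔛.lvU h N (D l)),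
          ((𝔛.X N).presheaf.map (homOfLE hl).op).hom.comp (proj 𝔛 h N (D l)) =
            (proj 𝔛 h N O).comp (res 𝔛 h (hle l hl)) := fun l hl =>
        RingHom.ext fun a => (proj_res 𝔛 h N (hle l hl) a).symm
      rw [Ideal.map_map, Ideal.map_map]
      erw [hc i hi, hc j hj]
      rw [← Ideal.map_map, ← Ideal.map_map, ← hTres i (hle i hi) hO, ← hTres j (hle j hj) hO])
    (𝔛.lvU h N W) (by
      change IsCompact ((𝔛.gInv h N).hom ⁻¹' (W : Set (𝔛.X 0)))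
      rw [lvU_eq_image]
      exact hWc.image (𝔛.toX N).continuous) (by
      change closure (⋃ i, (𝔛.gInv h N).hom ⁻¹' (D i : Set (𝔛.X 0))) ⊆ (𝔛.gInv h N).hom ⁻¹' (W : Set (𝔛.X 0))
      rw [← Set.preimage_iUnion, hDun, lvU_eq_image, lvU_eq_image,
        (isClosedMap_toX h N).closure_image_eq_of_continuous (𝔛.toX N).continuous]
      exact Set.image_mono hUW) (by
      change IsCompact ((𝔛.gInv h N).hom ⁻¹' (W : Set (𝔛.X 0)) \
        closure (⋃ i, (𝔛.gInv h N).hom ⁻¹' (D i : Set (𝔛.X 0))))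
      rw [← Set.preimage_iUnion, hDun, lvU_eq_image h N (U : Set (𝔛.X 0)),
        (isClosedMap_toX h N).closure_image_eq_of_continuous (𝔛.toX N).continuous, ← lvU_eq_image h N,
        ← Set.preimage_sdiff, lvU_eq_image]
      refine IsCompact.image ?_ (𝔛.toX N).continuous
      obtain ⟨c, hc⟩ := hWc.elim_finite_subcover
        (fun P : {P : (𝔛.X 0).Opens // IsAffineOpen P ∧ P ≤ W} => (P.1 : Set (𝔛.X 0))) (fun P => P.1.2)
        (fun x hx => by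
          obtain ⟨P, hP, hxP, hle⟩ := exists_isAffineOpen_mem_and_subset (x := x) (U := W) hx
          exact Set.mem_iUnion.2 ⟨⟨P, hP, hle⟩, hxP⟩)
      have heq : (W : Set (𝔛.X 0)) \ closure U = ⋃ P ∈ c, ((P.1 : Set (𝔛.X 0)) \ closure U) := by
        refine subset_antisymm (fun x hx => ?_) (Set.iUnion₂_subset fun P _ => Set.diff_subset_diff_left P.2.2)
        obtain ⟨P, hP, hxP⟩ := Set.mem_iUnion₂.1 (hc hx.1)
        exact Set.mem_iUnion₂.2 ⟨P, hP, hxP, hx.2⟩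
      rw [heq]
      exact c.finite_toSet.isCompact_biUnion fun P _ => isCompact_compl_closure h p hR hp hfp htf P.2.1 U)
  have hBsect : ∀ (i : Fin k) {O : (𝔛.X 0).Opens}, O ≤ D i → IsAffineOpen O →
      (FBlow.ofLevel 𝔛 h N B).sect O = T O := by
    intro i O hO hOa
    have hBd := hBD i
    rw [sect_eq_comap h (FBlow.ofLevel 𝔛 h N B) (U := ⊤) (fun _ _ => rfl) hOa le_top,
      ← B.map_ideal (U := ⟨_, isAffineOpen_lvU h N hOa⟩) (V := DN i) (FBlow.lvU_mono 𝔛 h N hO), hBd, Ideal.map_map]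
    have hc : ((𝔛.X N).presheaf.map (homOfLE (FBlow.lvU_mono 𝔛 h N hO)).op).hom.comp (proj 𝔛 h N (D i)) =
        (proj 𝔛 h N O).comp (res 𝔛 h hO) := RingHom.ext fun a => (proj_res 𝔛 h N hO a).symm
    erw [hc]
    rw [← Ideal.map_map, ← hTres i hO hOa, Ideal.comap_map_of_surjective _ ((proj_props h p hOa hp hI).2.1 N).1,
      ← RingHom.ker_eq_comap_bot, sup_eq_left.mpr (hTker i hO hOa)]
  -- local neighbourhoods inside the affine pieces
  have hnbhd : ∀ (z : (𝔛.restrictOpen h U).X 0) (O : (𝔛.X 0).Opens), ((ι : FSch.Hom _ 𝔛).app 0).base z ∈ O →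
      ∃ (i : Fin k) (P : (𝔛.X 0).Opens), P ≤ D i ∧ P ≤ O ∧ IsAffineOpen P ∧
        ((ι : FSch.Hom _ 𝔛).app 0).base z ∈ P := fun z O hz => by
    obtain ⟨i, hi⟩ := Set.mem_iUnion.1 (hDun.ge (hrange.le ⟨z, rfl⟩))
    obtain ⟨P, hP, hzP, hle⟩ := exists_isAffineOpen_mem_and_subset (U := O ⊓ D i) ⟨hz, hi⟩
    exact ⟨i, P, fun a ha => (hle ha).2, fun a ha => (hle ha).1, hP, hzP⟩
  refine ⟨FBlow.ofLevel 𝔛 h N B, fun x => ⟨⊤, trivial, N, B, hBft, fun _ _ => rfl⟩, ?_, fun V hVU => ?_⟩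
  · refine FBlow.IdealSh.ext (funext fun O => le_antisymm ?_ ?_)
    · refine idealMap_le_iff h hU ι _ (fun P a ha Q e => JU.mem_of_local fun z hz => ?_) O
      obtain ⟨i, P', hPi, hPP, hP', hzP⟩ := hnbhd z P (e hz)
      refine ⟨(ι : FSch.Hom _ 𝔛).app 0 ⁻¹ᵁ P' ⊓ Q, inf_le_right, ⟨hzP, hz⟩, ?_⟩
      change res (𝔛.restrictOpen h U) hU inf_le_right (hpull h ι hU e a) ∈ _
      have h1 : res 𝔛 h hPP a ∈ T P' := hBsect i hPi hP' ▸ (FBlow.ofLevel 𝔛 h N B).map_mem hPP ha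
      have h2 := JU.map_mem (inf_le_left : (ι : FSch.Hom _ 𝔛).app 0 ⁻¹ᵁ P' ⊓ Q ≤ _) (Ideal.mem_comap.mp h1)
      change res (𝔛.restrictOpen h U) hU inf_le_left (hpull h ι hU le_rfl (res 𝔛 h hPP a)) ∈ _ at h2
      rw [hpull_res, res_hpull] at h2
      rw [res_hpull]
      exact h2
    · intro a ha
      refine (FBlow.idealMap ι hU h (FBlow.ofLevel 𝔛 h N B)).mem_of_local fun z hz => ?_
      obtain ⟨i, P, hPi, hPO, hP, hzP⟩ := hnbhd z (((ι : FSch.Hom _ 𝔛).app 0) ''ᵁ O) ⟨z, hz, rfl⟩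
      have hle : (ι : FSch.Hom _ 𝔛).app 0 ⁻¹ᵁ P ≤ O :=
        (Scheme.Hom.preimage_mono _ hPO).trans (Scheme.Hom.preimage_image_eq _ _).le
      refine ⟨_, hle, hzP, ?_⟩
      obtain ⟨b, hb⟩ := (hbij i hPi).2 (res (𝔛.restrictOpen h U) hU hle a)
      change res (𝔛.restrictOpen h U) hU hle a ∈ _
      rw [← hb]
      refine hpull_mem_idealMap h hU ι _ ?_ _
      rw [hBsect i hPi hP, Ideal.mem_comap, hb]
      exact JU.map_mem hle ha
  · refine eq_top_iff.mpr fun a _ => ?_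
    intro y hy
    obtain ⟨P, hP, hyP, hPle⟩ := exists_isAffineOpen_mem_and_subset (x := y) (U := 𝔛.lvU h N V) hy
    refine ⟨⟨P, hP⟩, hPle, hyP, ?_⟩
    rw [ideal_eq_top_of_disjoint B ⟨P, hP⟩ fun w hw hws => ?_]
    · trivial
    have h1 : Disjoint (P : Set (𝔛.X N)) (⋃ l, ((DN l).1 : Set (𝔛.X N))) :=
      Set.disjoint_left.mpr fun q hq hq' => by
        obtain ⟨l, hl⟩ := Set.mem_iUnion.1 hq'
        have hl' : (𝔛.gInv h N).hom q ∈ U := hDun.le (Set.mem_iUnion.2 ⟨l, hl⟩)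
        have hq2 : (𝔛.gInv h N).hom q ∈ V ⊓ U := ⟨hPle hq, hl'⟩
        rw [hVU] at hq2
        exact hq2
    exact Set.disjoint_left.mp (h1.closure_right P.2) hw (hBs hws)

/-- In a quasi-paracompact space the closure of a quasi-compact open lies in a quasi-compact open. -/
theorem exists_compact_nhd_closure {X : Type u} [TopologicalSpace X] {U : Opens X} (hUc : IsCompact (U : Set X))
    {ι : Type u} (V : ι → Opens X) (hV : (⨆ i, V i) = ⊤) (hVc : ∀ i, IsCompact (V i : Set X))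
    (hVf : ∀ i, Set.Finite {j : ι | V i ⊓ V j ≠ ⊥}) :
    ∃ W : Opens X, IsCompact (W : Set X) ∧ closure (U : Set X) ⊆ W := by
  obtain ⟨t, ht⟩ := hUc.elim_finite_subcover (fun i => (V i : Set X)) (fun i => (V i).2)
    (fun x _ => Set.mem_iUnion.2 (Opens.mem_iSup.1 (hV.ge (Set.mem_univ x))))
  let S : Set ι := ⋃ i ∈ t, {j : ι | V i ⊓ V j ≠ ⊥}
  have hS : S.Finite := t.finite_toSet.biUnion fun i _ => hVf i
  refine ⟨⟨⋃ j ∈ S, (V j : Set X), isOpen_biUnion fun j _ => (V j).2⟩, hS.isCompact_biUnion fun j _ => hVc j,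
    fun x hx => ?_⟩
  obtain ⟨j, hj⟩ := Opens.mem_iSup.1 (hV.ge (Set.mem_univ x))
  obtain ⟨y, hyj, hyU⟩ := mem_closure_iff.1 hx (V j) (V j).2 hj
  obtain ⟨i, hi, hyi⟩ := Set.mem_iUnion₂.1 (ht hyU)
  refine Set.mem_iUnion₂.2 ⟨j, Set.mem_iUnion₂.2 ⟨i, hi, fun hbot => ?_⟩, hj⟩
  have h2 : y ∈ V i ⊓ V j := ⟨hyi, hyj⟩
  rw [hbot] at h2
  exact h2

end Groth.Agent.FBlowLib
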