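import Groth.Agent.FBlowLib.CohMul
import Groth.Agent.FBlowLib.OnOpen

/-!
# Products of locally finite families of ideal sheaves

`famProd h 𝒥 V`: the product of a family `𝒥` of ideal sheaves, each `𝒥 j` trivial off the open `V j` of a
locally finite family.
-/

universe u

open CategoryTheory CategoryTheory.Limits TopologicalSpace Opposite AlgebraicGeometry

namespace Groth.Agent.FBlowLib

variable {𝔛 : FSch.Sys.{u}} (h : 𝔛.IsFormal) {ι : Type u} (𝒥 : ι → FBlow.IdealSh (𝔛.Osh h))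
  (V : ι → (𝔛.X 0).Opens)

/-- The product of the members of a finite set. -/
noncomputable def finProd (F : Finset ι) : FBlow.IdealSh (𝔛.Osh h) :=
  FBlow.IdealSh.gen fun W => {t | ∃ a : ι → Sec 𝔛 h W, (∀ j ∈ F, a j ∈ (𝒥 j).sect W) ∧ t = ∏ j ∈ F, a j}

/-- The product of the whole family away from `P`. -/
noncomputable def famProdOff (P : Finset ι) : FBlow.IdealSh (𝔛.Osh h) :=
  FBlow.IdealSh.gen fun W => {t | ∃ (F : Finset ι) (a : ι → Sec 𝔛 h W), (∀ j ∈ F, a j ∈ (𝒥 j).sect W ∧ j ∉ P) ∧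
    (∀ j, j ∉ F → j ∉ P → V j ⊓ W = ⊥) ∧ t = ∏ j ∈ F, a j}

/-- The product of the whole family. -/
noncomputable def famProd : FBlow.IdealSh (𝔛.Osh h) := famProdOff h 𝒥 V ∅

theorem prod_mem_finProd {F : Finset ι} {W : (𝔛.X 0).Opens} (a : ι → Sec 𝔛 h W)
    (ha : ∀ j ∈ F, a j ∈ (𝒥 j).sect W) : (∏ j ∈ F, a j) ∈ (finProd h 𝒥 F).sect W :=
  FBlow.IdealSh.subset_gen _ W ⟨a, ha, rfl⟩

theorem prod_mem_famProdOff {P F : Finset ι} {W : (𝔛.X 0).Opens} (a : ι → Sec 𝔛 h W)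
    (ha : ∀ j ∈ F, a j ∈ (𝒥 j).sect W ∧ j ∉ P) (hF : ∀ j, j ∉ F → j ∉ P → V j ⊓ W = ⊥) :
    (∏ j ∈ F, a j) ∈ (famProdOff h 𝒥 V P).sect W :=
  FBlow.IdealSh.subset_gen _ W ⟨F, a, ha, hF, rfl⟩

theorem mem_of_isBot (K : FBlow.IdealSh (𝔛.Osh h)) {W : (𝔛.X 0).Opens} (hW : W = ⊥) (s : Sec 𝔛 h W) :
    s ∈ K.sect W := K.mem_of_local fun x hx => by rw [hW] at hx; exact hx.elim

theorem gen_sect_le {S : ∀ W : (𝔛.X 0).Opens, Set (Sec 𝔛 h W)} {K : FBlow.IdealSh (𝔛.Osh h)}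
    {O : (𝔛.X 0).Opens}
    (H : ∀ (W D : (𝔛.X 0).Opens) (i : D ≤ W), D ≤ O → ∀ t ∈ S W, res 𝔛 h i t ∈ K.sect D) :
    (FBlow.IdealSh.gen S).sect O ≤ K.sect O := fun s hs => K.mem_of_local fun x hx => by
  obtain ⟨D, i, hxD, hD⟩ := hs x hx
  refine ⟨D, i, hxD, (Ideal.span_le.mpr ?_ : _ ≤ K.sect D) hD⟩
  rintro _ ⟨W, j, a, ha, rfl⟩
  exact H W D j i a ha

theorem finProd_empty : finProd h 𝒥 ∅ = FBlow.IdealSh.top (𝔛.Osh h) := by
  refine FBlow.IdealSh.ext (funext fun U => top_unique fun s _ => ?_)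
  have h1 : (1 : Sec 𝔛 h U) ∈ (finProd h 𝒥 ∅).sect U :=
    FBlow.IdealSh.subset_gen _ U ⟨fun _ => 1, by simp, by simp⟩
  rw [← mul_one s]
  exact Ideal.mul_mem_left _ _ h1

theorem finProd_insert [DecidableEq ι] {i : ι} {F : Finset ι} (hi : i ∉ F) :
    finProd h 𝒥 (insert i F) = FBlow.IdealSh.mul (𝒥 i) (finProd h 𝒥 F) := by
  refine FBlow.IdealSh.ext (funext fun U => le_antisymm (gen_sect_le h ?_) (gen_sect_le h ?_))
  · rintro W D j - _ ⟨a, ha, rfl⟩
    rw [Finset.prod_insert hi, map_mul]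
    exact mul_mem_mul h ((𝒥 i).map_mem j (ha i (Finset.mem_insert_self i F)))
      ((finProd h 𝒥 F).map_mem j (prod_mem_finProd h 𝒥 a fun k hk => ha k (Finset.mem_insert_of_mem hk)))
  · rintro W D j - _ ⟨x, hx, y, hy, rfl⟩
    refine (finProd h 𝒥 (insert i F)).map_mem j ((finProd h 𝒥 (insert i F)).mem_of_local fun z hz => ?_)
    obtain ⟨O, k, hzO, hO⟩ := hy z hz
    refine ⟨O, k, hzO, ?_⟩
    change res 𝔛 h k (x * y) ∈ _
    rw [map_mul]
    refine (Ideal.span_le.mpr ?_ : _ ≤ Submodule.comap (LinearMap.mulLeft (Sec 𝔛 h O) (res 𝔛 h k x)) ((finProd h 𝒥 (insert i F)).sect O)) hO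
    rintro _ ⟨W', l, _, ⟨a, ha, rfl⟩, rfl⟩
    rw [SetLike.mem_coe, Submodule.mem_comap, LinearMap.mulLeft_apply]
    change res 𝔛 h k x * res 𝔛 h l (∏ m ∈ F, a m) ∈ (_ : FBlow.IdealSh (𝔛.Osh h)).sect O
    rw [map_prod]
    have := prod_mem_finProd h 𝒥 (F := insert i F) (Function.update (fun m => res 𝔛 h l (a m)) i (res 𝔛 h k x))
      fun m hm => by
        rcases Finset.mem_insert.1 hm with rfl | hm
        · rw [Function.update_self]; exact (𝒥 m).map_mem k hx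
        · rw [Function.update_of_ne (ne_of_mem_of_not_mem hm hi)]; exact (𝒥 m).map_mem l (ha m hm)
    rwa [Finset.prod_insert hi, Function.update_self, Finset.prod_congr rfl
      (fun m hm => Function.update_of_ne (ne_of_mem_of_not_mem hm hi) _ _)] at this

variable (htop : ∀ j (W : (𝔛.X 0).Opens), W ⊓ V j = ⊥ → (𝒥 j).sect W = ⊤)

include htop in
theorem prod_mem_of_subset {F G : Finset ι} {D : (𝔛.X 0).Opens} (hFG : ∀ j ∈ G, j ∉ F → D ⊓ V j = ⊥)
    (a : ι → Sec 𝔛 h D) (ha : ∀ j ∈ F, a j ∈ (𝒥 j).sect D) :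
    (∏ j ∈ F, a j) ∈ (finProd h 𝒥 G).sect D := by
  classical
  have h1 : (∏ j ∈ F, if j ∈ G then a j else 1) ∈ (finProd h 𝒥 G).sect D := by
    have hm := prod_mem_finProd h 𝒥 (F := G) (fun j => if j ∈ F then a j else 1) fun j hj => by
      by_cases hjF : j ∈ F
      · rw [if_pos hjF]; exact ha j hjF
      · rw [if_neg hjF, htop j D (hFG j hj hjF)]; trivial
    rw [Finset.prod_ite_mem, Finset.inter_comm] at hm
    rwa [Finset.prod_ite_mem]
  have h2 : (∏ j ∈ F, a j) = (∏ j ∈ F, if j ∈ G then a j else 1) * ∏ j ∈ F, if j ∈ G then 1 else a j := by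
    rw [← Finset.prod_mul_distrib]
    exact Finset.prod_congr rfl fun j _ => by split_ifs <;> simp
  rw [h2]
  exact Ideal.mul_mem_right _ _ h1

include htop in
/-- Near the member `V i` the product is the product over the members meeting it. -/
theorem famProd_sect_eq {i : ι} (F : Finset ι) (hF : ∀ j, j ∉ F → V i ⊓ V j = ⊥) {O : (𝔛.X 0).Opens}
    (hO : O ≤ V i) : (famProd h 𝒥 V).sect O = (finProd h 𝒥 F).sect O := by
  refine le_antisymm (gen_sect_le h ?_) (gen_sect_le h ?_)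
  · rintro W D j hDO _ ⟨G, a, ha, hG, rfl⟩
    rw [map_prod]
    refine prod_mem_of_subset h 𝒥 V htop (fun k _ hkG => ?_) _ fun k hk => (𝒥 k).map_mem j (ha k hk).1
    rw [eq_bot_iff, ← hG k hkG (Finset.notMem_empty k), inf_comm]
    exact inf_le_inf_left _ j
  · rintro W D j hDO _ ⟨a, ha, rfl⟩
    rw [map_prod]
    refine prod_mem_famProdOff h 𝒥 V _ (fun k hk => ⟨(𝒥 k).map_mem j (ha k hk), Finset.notMem_empty k⟩)
      fun k hk _ => ?_
    rw [eq_bot_iff, ← hF k hk, inf_comm (V i)]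
    exact inf_le_inf_left _ (hDO.trans hO)

include htop in
/-- Splitting off one member of the product. -/
theorem famProd_eq_mul (i : ι) :
    famProd h 𝒥 V = FBlow.IdealSh.mul (𝒥 i) (famProdOff h 𝒥 V {i}) := by
  classical
  refine FBlow.IdealSh.ext (funext fun U => le_antisymm (gen_sect_le h ?_) (gen_sect_le h ?_))
  · rintro W D j - _ ⟨F, a, ha, hF, rfl⟩
    refine (FBlow.IdealSh.mul (𝒥 i) (famProdOff h 𝒥 V {i})).map_mem j ?_
    by_cases hi : i ∈ F
    · rw [← Finset.mul_prod_erase F a hi]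
      refine mul_mem_mul h (ha i hi).1 (prod_mem_famProdOff h 𝒥 V a (fun k hk => ?_) fun k hk hk' => ?_)
      · exact ⟨(ha k (Finset.mem_of_mem_erase hk)).1, fun e =>
          (Finset.ne_of_mem_erase hk) (Finset.mem_singleton.mp e)⟩
      · refine hF k (fun hkF => hk (Finset.mem_erase.mpr ⟨fun e => hk' (Finset.mem_singleton.mpr e), hkF⟩))
          (Finset.notMem_empty k)
    · rw [← one_mul (∏ k ∈ F, a k)]
      refine mul_mem_mul h ?_ (prod_mem_famProdOff h 𝒥 V a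
        (fun k hk => ⟨(ha k hk).1, fun e => hi (Finset.mem_singleton.mp e ▸ hk)⟩)
        fun k hk _ => hF k hk (Finset.notMem_empty k))
      rw [htop i W (inf_comm (V i) W ▸ hF i hi (Finset.notMem_empty i))]
      trivial
  · rintro W D j - _ ⟨x, hx, y, hy, rfl⟩
    refine (famProd h 𝒥 V).map_mem j ((famProd h 𝒥 V).mem_of_local fun z hz => ?_)
    obtain ⟨O, k, hzO, hO⟩ := hy z hz
    refine ⟨O, k, hzO, ?_⟩
    change res 𝔛 h k (x * y) ∈ _
    rw [map_mul]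
    refine (Ideal.span_le.mpr ?_ : _ ≤ Submodule.comap (LinearMap.mulLeft (Sec 𝔛 h O) (res 𝔛 h k x)) ((famProd h 𝒥 V).sect O)) hO
    rintro _ ⟨W', l, _, ⟨F, a, ha, hF, rfl⟩, rfl⟩
    rw [SetLike.mem_coe, Submodule.mem_comap, LinearMap.mulLeft_apply]
    change res 𝔛 h k x * res 𝔛 h l (∏ m ∈ F, a m) ∈ (_ : FBlow.IdealSh (𝔛.Osh h)).sect O
    rw [map_prod]
    have hi : i ∉ F := fun e => (ha i e).2 (Finset.mem_singleton_self i)
    have := prod_mem_famProdOff h 𝒥 V (P := ∅) (F := insert i F)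
      (Function.update (fun m => res 𝔛 h l (a m)) i (res 𝔛 h k x))
      (fun m hm => by
        refine ⟨?_, Finset.notMem_empty m⟩
        rcases Finset.mem_insert.1 hm with rfl | hm
        · rw [Function.update_self]; exact (𝒥 m).map_mem k hx
        · rw [Function.update_of_ne (ne_of_mem_of_not_mem hm hi)]; exact (𝒥 m).map_mem l (ha m hm).1)
      (fun m hm _ => by
        simp only [Finset.mem_insert, not_or] at hm
        rw [eq_bot_iff, ← hF m hm.2 (fun e => hm.1 (Finset.mem_singleton.mp e))]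
        exact inf_le_inf_left _ l)
    rwa [Finset.prod_insert hi, Function.update_self, Finset.prod_congr rfl
      (fun m hm => Function.update_of_ne (ne_of_mem_of_not_mem hm hi) _ _)] at this

variable {R : Type u} [CommRing R] {I : Ideal R} (p : 𝔛 ⟶ FSch.spf R I) (hp : FSch.IsAdicHom p) (hI : I.FG)

include hp hI in
theorem isCohOpen_finProd (hc : ∀ j, FBlow.IsCohOpen 𝔛 h (𝒥 j)) (F : Finset ι) :
    FBlow.IsCohOpen 𝔛 h (finProd h 𝒥 F) := by
  classical
  induction F using Finset.induction with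
  | empty => rw [finProd_empty]; exact isCohOpen_top h
  | @insert a s ha ih => rw [finProd_insert h 𝒥 ha]; exact isCohOpen_mul h p hp hI (hc a) ih

include hp hI htop in
theorem isCohOpen_famProd (hc : ∀ j, FBlow.IsCohOpen 𝔛 h (𝒥 j)) (hV : (⨆ i, V i) = ⊤)
    (hVf : ∀ i, Set.Finite {j : ι | V i ⊓ V j ≠ ⊥}) : FBlow.IsCohOpen 𝔛 h (famProd h 𝒥 V) :=
  isCohOpen_of_local h fun x => by
    obtain ⟨i, hi⟩ := Opens.mem_iSup.1 (hV.ge (show x ∈ (⊤ : (𝔛.X 0).Opens) from trivial))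
    exact ⟨V i, finProd h 𝒥 (hVf i).toFinset, hi, isCohOpen_finProd h 𝒥 p hp hI hc _, fun O hO =>
      famProd_sect_eq h 𝒥 V htop _ (fun j hj => by_contra fun hne => hj ((hVf i).mem_toFinset.mpr hne)) hO⟩

end Groth.Agent.FBlowLib
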