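import Groth.Agent.FBlowLib.ChartIso

/-!
# Inverse image ideals along morphisms of formal systems; open subsystems

`idealMap_comp`, `isInvertible_idealMap`, `existsUnique_lift` and `isAdmBlowUp_of_openImmersion`:
restricting an admissible formal blow-up to an open subsystem.
-/

universe u

open CategoryTheory CategoryTheory.Limits TopologicalSpace Opposite AlgebraicGeometry

namespace Groth.Agent.FBlowLib

variable {𝔛 𝔜 ℨ : FSch.Sys.{u}} (h : 𝔛.IsFormal) (h' : 𝔜.IsFormal) (h'' : ℨ.IsFormal)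

theorem hpull_mem_idealMap (f : 𝔜 ⟶ 𝔛) (J : FBlow.IdealSh (𝔛.Osh h)) {W : (𝔛.X 0).Opens} {s : Sec 𝔛 h W}
    (hs : s ∈ J.sect W) {V : (𝔜.X 0).Opens} (e : V ≤ (f : FSch.Hom 𝔜 𝔛).app 0 ⁻¹ᵁ W) :
    hpull h f h' e s ∈ (FBlow.idealMap f h' h J).sect V :=
  FBlow.IdealSh.image_mem_map ((f : FSch.Hom 𝔜 𝔛).app 0).base (FSch.Hom.sharp f h' h) J (W := W) hs (V := V) e

theorem idealMap_le_iff (f : 𝔜 ⟶ 𝔛) (J : FBlow.IdealSh (𝔛.Osh h)) {K : FBlow.IdealSh (𝔜.Osh h')}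
    (hK : ∀ (W : (𝔛.X 0).Opens) (s : Sec 𝔛 h W), s ∈ J.sect W → ∀ (V : (𝔜.X 0).Opens)
      (e : V ≤ (f : FSch.Hom 𝔜 𝔛).app 0 ⁻¹ᵁ W), hpull h f h' e s ∈ K.sect V) :
    FBlow.idealMap f h' h J ≤ K :=
  FBlow.IdealSh.map_le fun W a ha V j => hK W a ha V j

/-- Sections of an inverse image ideal are near every point combinations of pulled-back sections. -/
theorem exists_mem_span_of_mem_idealMap (f : 𝔜 ⟶ 𝔛) (J : FBlow.IdealSh (𝔛.Osh h)) {V : (𝔜.X 0).Opens}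
    {s : Sec 𝔜 h' V} (hs : s ∈ (FBlow.idealMap f h' h J).sect V) {x : 𝔜.X 0} (hx : x ∈ V) :
    ∃ (W : (𝔜.X 0).Opens) (i : W ≤ V), x ∈ W ∧ res 𝔜 h' i s ∈
      Ideal.span {t : Sec 𝔜 h' W | ∃ (U : (𝔛.X 0).Opens) (e : W ≤ (f : FSch.Hom 𝔜 𝔛).app 0 ⁻¹ᵁ U)
        (a : Sec 𝔛 h U), a ∈ J.sect U ∧ t = hpull h f h' e a} := by
  obtain ⟨W, i, hxW, hW⟩ := hs x hx
  refine ⟨W, i, hxW, (Ideal.span_mono ?_ : _ ≤ Ideal.span {t : Sec 𝔜 h' W | _}) hW⟩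
  rintro _ ⟨W', j, _, ⟨U, e, a, ha, rfl⟩, rfl⟩
  exact ⟨U, j.trans e, a, ha, res_hpull h f h' e j a⟩

theorem hpull_hpull (f : 𝔜 ⟶ 𝔛) (g : ℨ ⟶ 𝔜) {W : (𝔛.X 0).Opens} {V : (𝔜.X 0).Opens} {U : (ℨ.X 0).Opens}
    (e : V ≤ (f : FSch.Hom 𝔜 𝔛).app 0 ⁻¹ᵁ W) (e' : U ≤ (g : FSch.Hom ℨ 𝔜).app 0 ⁻¹ᵁ V)
    (e'' : U ≤ ((g ≫ f : ℨ ⟶ 𝔛) : FSch.Hom ℨ 𝔛).app 0 ⁻¹ᵁ W) (s : Sec 𝔛 h W) :
    hpull h' g h'' e' (hpull h f h' e s) = hpull h (g ≫ f) h'' e'' s :=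
  sec_ext ℨ h'' fun n => by
    rw [proj_hpull, proj_hpull, proj_hpull]
    exact ConcreteCategory.congr_hom (FSch.appLE_comp_appLE_of_eq _ ((f : FSch.Hom 𝔜 𝔛).app n) _ (by rfl) _ _ _ _ _ _) _

/-- Inverse image of ideals is functorial. -/
theorem idealMap_comp (f : 𝔜 ⟶ 𝔛) (g : ℨ ⟶ 𝔜) (J : FBlow.IdealSh (𝔛.Osh h)) :
    FBlow.idealMap g h'' h' (FBlow.idealMap f h' h J) = FBlow.idealMap (g ≫ f) h'' h J := by
  refine FBlow.IdealSh.ext (funext fun U => le_antisymm ?_ ?_)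
  · refine (idealMap_le_iff h' h'' g _ fun V s hs U e => ?_ :
      FBlow.idealMap g h'' h' (FBlow.idealMap f h' h J) ≤ FBlow.idealMap (g ≫ f) h'' h J) U
    refine (FBlow.idealMap (g ≫ f) h'' h J).mem_of_local fun z hz => ?_
    obtain ⟨W, i, hzW, hW⟩ := exists_mem_span_of_mem_idealMap h h' f J hs (x := ((g : FSch.Hom ℨ 𝔜).app 0).base z) (e hz)
    refine ⟨U ⊓ (g : FSch.Hom ℨ 𝔜).app 0 ⁻¹ᵁ W, inf_le_left, ⟨hz, hzW⟩, ?_⟩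
    change res ℨ h'' inf_le_left (hpull h' g h'' e s) ∈ _
    rw [res_hpull]
    have h1 : hpull h' g h'' (inf_le_left.trans e) s =
        hpull h' g h'' (inf_le_right : U ⊓ (g : FSch.Hom ℨ 𝔜).app 0 ⁻¹ᵁ W ≤ _) (res 𝔜 h' i s) :=
      (hpull_res h' g h'' i inf_le_right s).symm
    rw [h1]
    refine (Ideal.span_le.mpr ?_ : Ideal.span _ ≤ ((FBlow.idealMap (g ≫ f) h'' h J).sect _).comap
      (hpull h' g h'' (inf_le_right : U ⊓ (g : FSch.Hom ℨ 𝔜).app 0 ⁻¹ᵁ W ≤ _))) hW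
    rintro _ ⟨U', e', a, ha, rfl⟩
    rw [SetLike.mem_coe, Ideal.mem_comap, hpull_hpull h h' h'' f g e' inf_le_right
      (inf_le_right.trans (Scheme.Hom.preimage_mono _ e'))]
    exact hpull_mem_idealMap h h'' (g ≫ f) J ha _
  · refine (idealMap_le_iff h h'' (g ≫ f) J fun W s hs U e => ?_ :
      FBlow.idealMap (g ≫ f) h'' h J ≤ FBlow.idealMap g h'' h' (FBlow.idealMap f h' h J)) U
    rw [← hpull_hpull h h' h'' f g (le_refl _) (U := U) e e s]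
    exact hpull_mem_idealMap h' h'' g _ (hpull_mem_idealMap h h' f J hs _) _

section OpenImm

variable (ι : 𝔜 ⟶ 𝔛) [∀ n, IsOpenImmersion ((ι : FSch.Hom 𝔜 𝔛).app n)]

/-- Invertible ideals stay invertible on open subsystems. -/
theorem isInvertible_idealMap {J : FBlow.IdealSh (𝔛.Osh h)} (hJ : J.IsInvertible) :
    (FBlow.idealMap ι h' h J).IsInvertible := by
  intro x
  obtain ⟨U, hxU, g, hg, hU⟩ := hJ (((ι : FSch.Hom 𝔜 𝔛).app 0).base x)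
  let V := (ι : FSch.Hom 𝔜 𝔛).app 0 ⁻¹ᵁ U
  refine ⟨V, hxU, hpull h ι h' (le_refl V) g, hpull_mem_idealMap h h' ι J hg _, fun W i => ?_⟩
  have hreg : ∀ (W : (𝔜.X 0).Opens) (i : W ≤ V) (t : Sec 𝔜 h' W),
      t * res 𝔜 h' i (hpull h ι h' (le_refl V) g) = 0 → t = 0 := by
    intro W i t ht
    let U' : (𝔛.X 0).Opens := ((ι : FSch.Hom 𝔜 𝔛).app 0) ''ᵁ W
    have hU'U : U' ≤ U := by
      rintro _ ⟨w, hw, rfl⟩
      exact i hw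
    have eW : W ≤ (ι : FSch.Hom 𝔜 𝔛).app 0 ⁻¹ᵁ U' := fun w hw => ⟨w, hw, rfl⟩
    have hb := hpull_bijective h ι h' (U := U') (Scheme.Hom.image_le_opensRange _ _) eW
      (Scheme.Hom.preimage_image_eq _ W).le
    obtain ⟨s, rfl⟩ := hb.2 t
    have h0 : s * res 𝔛 h hU'U g = 0 := hb.1 (by
      rw [map_mul, map_zero, ← ht, hpull_res]
      congr 1
      exact (res_hpull h ι h' (le_refl V) i g).symm)
    rw [(hU U' hU'U).1 s h0, map_zero]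
  refine ⟨fun t ht => hreg W i t ht, fun s hs => ?_⟩
  refine exists_eq_mul_of_local _ (fun W' j t ht => hreg W' (j.trans i) t (by
    rw [← ht]; congr 1; exact (FBlow.IdealSh.map_comp_apply i j _).symm)) s fun z hz => ?_
  obtain ⟨W', j, hzW', hW'⟩ := exists_mem_span_of_mem_idealMap h h' ι J hs hz
  have hle : res 𝔜 h' j s ∈ Ideal.span {res 𝔜 h' j (res 𝔜 h' i (hpull h ι h' (le_refl V) g))} := by
    refine (Ideal.span_le.mpr ?_) hW'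
    rintro _ ⟨U', e', a, ha, rfl⟩
    obtain ⟨t, ht⟩ := (hU (U' ⊓ U) inf_le_right).2 _ (J.map_mem (inf_le_left : U' ⊓ U ≤ U') ha)
    have e₂ : W' ≤ (ι : FSch.Hom 𝔜 𝔛).app 0 ⁻¹ᵁ (U' ⊓ U) := fun w hw => ⟨e' hw, i (j hw)⟩
    refine Ideal.mem_span_singleton'.mpr ⟨hpull h ι h' e₂ t, ?_⟩
    have h1 := congrArg (hpull h ι h' e₂) ht
    rw [map_mul] at h1
    have h2 : hpull h ι h' e₂ (res 𝔛 h inf_le_left a) = hpull h ι h' e' a := hpull_res h ι h' inf_le_left e₂ a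
    have h3 : hpull h ι h' e₂ (res 𝔛 h inf_le_right g) =
        res 𝔜 h' j (res 𝔜 h' i (hpull h ι h' (le_refl V) g)) :=
      (hpull_res h ι h' inf_le_right e₂ g).trans
        ((res_hpull h ι h' (le_refl V) (j.trans i) g).symm.trans
          (FBlow.IdealSh.map_comp_apply i j _).symm)
    change _ = hpull h ι h' e₂ t * hpull h ι h' e₂ (res 𝔛 h inf_le_right g) at h1
    rw [← h2, ← h3]
    exact h1.symm
  obtain ⟨t, ht⟩ := Ideal.mem_span_singleton'.mp hle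
  exact ⟨W', j, hzW', t, ht.symm⟩

omit h h' in
/-- Morphisms into an open subsystem. -/
theorem existsUnique_lift {ℨ : FSch.Sys.{u}} (hℨ : ℨ.IsFormal) (g : ℨ ⟶ 𝔛)
    (hg : Set.range ((g : FSch.Hom ℨ 𝔛).app 0).base ⊆ Set.range ((ι : FSch.Hom 𝔜 𝔛).app 0).base) :
    ∃! k : ℨ ⟶ 𝔜, k ≫ ι = g := by
  have hr : ∀ n, Set.range ((g : FSch.Hom ℨ 𝔛).app n).base ⊆ Set.range ((ι : FSch.Hom 𝔜 𝔛).app n).base := by
    rintro n _ ⟨z, rfl⟩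
    obtain ⟨z₀, rfl⟩ := ℨ.toX_surjective hℨ n z
    obtain ⟨w, hw⟩ := hg ⟨z₀, rfl⟩
    refine ⟨(𝔜.toX n).base w, ?_⟩
    have h1 := ConcreteCategory.congr_hom (congrArg (fun m => m.base) (FSch.Hom.toX_comm ι n)) w
    have h2 := ConcreteCategory.congr_hom (congrArg (fun m => m.base) (FSch.Hom.toX_comm g n)) z₀
    refine h1.trans (Eq.trans ?_ h2.symm)
    exact congrArg (𝔛.toX n).base hw
  let k : ∀ n, ℨ.X n ⟶ 𝔜.X n := fun n =>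
    IsOpenImmersion.lift ((ι : FSch.Hom 𝔜 𝔛).app n) ((g : FSch.Hom ℨ 𝔛).app n) (hr n)
  have hk : ∀ n, k n ≫ (ι : FSch.Hom 𝔜 𝔛).app n = (g : FSch.Hom ℨ 𝔛).app n :=
    fun n => IsOpenImmersion.lift_fac ..
  refine ⟨⟨k, fun n => ?_⟩, FSch.Hom.ext (funext hk), fun k' hk' => ?_⟩
  · rw [← cancel_mono ((ι : FSch.Hom 𝔜 𝔛).app (n + 1)), Category.assoc, Category.assoc, hk,
      ← (ι : FSch.Hom 𝔜 𝔛).comm n, ← Category.assoc, hk, (g : FSch.Hom ℨ 𝔛).comm n]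
  · refine FSch.Hom.ext (funext fun n => ?_)
    rw [← cancel_mono ((ι : FSch.Hom 𝔜 𝔛).app n)]
    exact (congrArg (fun m : ℨ ⟶ 𝔛 => (m : FSch.Hom _ _).app n) hk').trans (hk n).symm

end OpenImm

theorem isAdicHom_of_comp {k : ℨ ⟶ 𝔜} {ι : 𝔜 ⟶ 𝔛} (hι : FSch.IsAdicHom ι)
    (hk : FSch.IsAdicHom (k ≫ ι)) : FSch.IsAdicHom k := fun n =>
  IsPullback.of_bot (by simpa only [FSch.comp_app] using hk n) ((k : FSch.Hom ℨ 𝔜).comm n).symm (hι n)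

/-- An admissible formal blow-up restricts to admissible formal blow-ups of open subsystems. -/
theorem isAdmBlowUp_of_openImmersion {𝔛' 𝔜' : FSch.Sys.{u}} (hX' : 𝔛'.IsFormal) (hY' : 𝔜'.IsFormal)
    {J : FBlow.IdealSh (𝔛.Osh h)} {b : 𝔛' ⟶ 𝔛} (hb : FBlow.IsAdmBlowUp b hX' h J)
    (ι : 𝔜 ⟶ 𝔛) [∀ n, IsOpenImmersion ((ι : FSch.Hom 𝔜 𝔛).app n)] (hι : FSch.IsAdicHom ι)
    (ι' : 𝔜' ⟶ 𝔛') [∀ n, IsOpenImmersion ((ι' : FSch.Hom 𝔜' 𝔛').app n)] (hι' : FSch.IsAdicHom ι')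
    (b' : 𝔜' ⟶ 𝔜) (hcomm : b' ≫ ι = ι' ≫ b)
    (hrange : ((b : FSch.Hom 𝔛' 𝔛).app 0).base ⁻¹' Set.range ((ι : FSch.Hom 𝔜 𝔛).app 0).base ⊆
      Set.range ((ι' : FSch.Hom 𝔜' 𝔛').app 0).base) :
    FBlow.IsAdmBlowUp b' hY' h' (FBlow.idealMap ι h' h J) := by
  refine ⟨isAdicHom_of_comp hι (hcomm ▸ isAdicHom_comp hι' hb.1), ?_, fun ℨ hℨ g hg hinv => ?_⟩
  · rw [idealMap_comp h h' hY' ι b', hcomm, ← idealMap_comp h hX' hY' b ι']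
    exact isInvertible_idealMap hX' hY' ι' hb.2.1
  · rw [idealMap_comp h h' hℨ ι g] at hinv
    obtain ⟨k, hk, huniq⟩ := hb.2.2 ℨ hℨ (g ≫ ι) (isAdicHom_comp hg hι) hinv
    obtain ⟨k', hk', huniq'⟩ := existsUnique_lift ι' hℨ k (by
      rintro _ ⟨z, rfl⟩
      refine hrange ?_
      refine ⟨((g : FSch.Hom ℨ 𝔜).app 0).base z, ?_⟩
      exact ConcreteCategory.congr_hom (congrArg (fun m : ℨ ⟶ 𝔛 => ((m : FSch.Hom _ _).app 0).base) hk.symm) z)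
    refine ⟨k', ?_, fun l hl => huniq' l (huniq (l ≫ ι') ?_)⟩
    · obtain ⟨m, -, hm⟩ := existsUnique_lift ι hℨ (g ≫ ι) (by
        rintro _ ⟨z, rfl⟩
        exact ⟨_, rfl⟩)
      refine (hm (k' ≫ b') ?_).trans (hm g rfl).symm
      change (k' ≫ b') ≫ ι = g ≫ ι
      rw [Category.assoc, hcomm, ← Category.assoc, hk', hk]
    · change (l ≫ ι') ≫ b = g ≫ ι
      rw [Category.assoc, ← hcomm, ← Category.assoc]
      exact congrArg (· ≫ ι) hl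

end Groth.Agent.FBlowLib
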