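import Groth.Agent.FBlowLib.OnOpen

/-!
# Gluing blow-ups

`exists_isAdmBlowUp_of_local`: blow-ups over a cover of the space glue to an admissible formal blow-up.
-/

universe u

open CategoryTheory CategoryTheory.Limits TopologicalSpace Opposite AlgebraicGeometry

namespace Groth.Agent.FBlowLib

variable {𝔛 : FSch.Sys.{u}} (h : 𝔛.IsFormal) (J : FBlow.IdealSh (𝔛.Osh h))

/-- The opens over which a blow-up exists. -/
abbrev GoodOpen : Type u :=
  {V : (𝔛.X 0).Opens // ∃ (ℨ : FSch.Sys.{u}) (hZ : ℨ.IsFormal) (c : ℨ ⟶ 𝔛), IsBlowUpOn h J V hZ c}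

theorem GoodOpen.le_def {V V' : GoodOpen h J} : V ≤ V' ↔ V.1 ≤ V'.1 := Iff.rfl

variable {h J}

theorem GoodOpen.exists_le {V V' : GoodOpen h J} {x : 𝔛.X 0} (hx : x ∈ V.1) (hx' : x ∈ V'.1) :
    ∃ W : GoodOpen h J, W ≤ V ∧ W ≤ V' ∧ x ∈ W.1 := by
  obtain ⟨ℨ, hZ, c, hc⟩ := V.2
  exact ⟨⟨V.1 ⊓ V'.1, _, _, _, hc.restrict inf_le_left⟩, (GoodOpen.le_def h J).mpr inf_le_left,
    (GoodOpen.le_def h J).mpr inf_le_right, hx, hx'⟩

namespace GoodOpen

variable (V : GoodOpen h J)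

noncomputable def Z : FSch.Sys.{u} := V.2.choose

theorem hZ : V.Z.IsFormal := V.2.choose_spec.choose

noncomputable def c : V.Z ⟶ 𝔛 := V.2.choose_spec.choose_spec.choose

theorem isBlowUp : IsBlowUpOn h J V.1 V.hZ V.c := V.2.choose_spec.choose_spec.choose_spec

variable {V} {V' V'' : GoodOpen h J}

noncomputable def map (i : V ≤ V') : V.Z ⟶ V'.Z :=
  (V'.isBlowUp.lift V.Z V.hZ V.c V.isBlowUp.adic V.isBlowUp.inv (V.isBlowUp.range.trans i)).choose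

theorem map_c (i : V ≤ V') : map i ≫ V'.c = V.c :=
  (V'.isBlowUp.lift V.Z V.hZ V.c V.isBlowUp.adic V.isBlowUp.inv (V.isBlowUp.range.trans i)).choose_spec.1

theorem map_unique (i : V ≤ V') {k : V.Z ⟶ V'.Z} (hk : k ≫ V'.c = V.c) : k = map i :=
  (V'.isBlowUp.lift V.Z V.hZ V.c V.isBlowUp.adic V.isBlowUp.inv (V.isBlowUp.range.trans i)).unique hk (map_c i)

theorem map_self : map (le_refl V) = 𝟙 V.Z := (map_unique (le_refl V) (Category.id_comp _)).symm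

theorem map_map (i : V ≤ V') (j : V' ≤ V'') : map i ≫ map j = map (i.trans j) :=
  map_unique (i.trans j) (by rw [Category.assoc, map_c, map_c])

variable (V) in
theorem c_range (n : ℕ) :
    Set.range ((V.c : FSch.Hom _ 𝔛).app n).base ⊆ Set.range (𝔛.lvU h n V.1).ι.base := by
  rintro _ ⟨z, rfl⟩
  rw [Scheme.Opens.range_ι]
  obtain ⟨z₀, rfl⟩ := V.Z.toX_surjective V.hZ n z
  have h1 := ConcreteCategory.congr_hom (congrArg (fun m => m.base) (FSch.Hom.toX_comm V.c n)) z₀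
  change ((V.c : FSch.Hom _ 𝔛).app n).base ((V.Z.toX n).base z₀) ∈ (𝔛.lvU h n V.1 : Set _)
  rw [show ((V.c : FSch.Hom _ 𝔛).app n).base ((V.Z.toX n).base z₀) =
    (𝔛.toX n).base (((V.c : FSch.Hom _ 𝔛).app 0).base z₀) from h1]
  change (𝔛.gInv h n).hom ((𝔛.toX n).base (((V.c : FSch.Hom _ 𝔛).app 0).base z₀)) ∈ V.1
  rw [show (𝔛.gInv h n).hom ((𝔛.toX n).base (((V.c : FSch.Hom _ 𝔛).app 0).base z₀)) =
    ((V.c : FSch.Hom _ 𝔛).app 0).base z₀ from ConcreteCategory.congr_hom (𝔛.toX_base_gInv h n) _]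
  exact V.isBlowUp.range ⟨z₀, rfl⟩

variable (V) in
noncomputable def nat (n : ℕ) : V.Z.X n ⟶ (𝔛.lvU h n V.1).toScheme :=
  IsOpenImmersion.lift (𝔛.lvU h n V.1).ι ((V.c : FSch.Hom _ 𝔛).app n) (c_range V n)

variable (V) in
@[reassoc]
theorem nat_ι (n : ℕ) : V.nat n ≫ (𝔛.lvU h n V.1).ι = (V.c : FSch.Hom _ 𝔛).app n :=
  IsOpenImmersion.lift_fac _ _ _

theorem map_app_c (i : V ≤ V') (n : ℕ) :
    (map i : FSch.Hom V.Z V'.Z).app n ≫ (V'.c : FSch.Hom _ 𝔛).app n = (V.c : FSch.Hom _ 𝔛).app n :=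
  congrArg (fun m : V.Z ⟶ 𝔛 => (m : FSch.Hom _ 𝔛).app n) (map_c i)

theorem isPullback_map (i : V ≤ V') (n : ℕ) :
    IsPullback ((map i : FSch.Hom V.Z V'.Z).app n) (V.nat n) (V'.nat n)
      ((𝔛.X n).homOfLE (FBlow.lvU_mono 𝔛 h n i)) := by
  obtain ⟨ho, hr⟩ := IsBlowUpOn.comparison i V'.isBlowUp V.isBlowUp (map i) (map_c i) n
  haveI := ho
  refine (IsOpenImmersion.isPullback _ _ _ _ ?_ ?_).flip
  · rw [← cancel_mono (𝔛.lvU h n V'.1).ι, Category.assoc, Category.assoc, Scheme.homOfLE_ι, nat_ι, nat_ι,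
      map_app_c]
  · refine Opens.ext (Eq.trans hr ?_).symm
    ext z
    have h1 : ((V'.c : FSch.Hom _ 𝔛).app n).base z = ((V'.nat n).base z).1 :=
      (ConcreteCategory.congr_hom (congrArg (fun m => m.base) (nat_ι V' n)) z).symm
    constructor
    · intro hz
      have hz' : ((V'.nat n).base z).1 ∈ 𝔛.lvU h n V.1 := h1 ▸ hz
      exact ⟨⟨_, hz'⟩, Subtype.ext (Scheme.homOfLE_apply ..)⟩
    · rintro ⟨w, hw⟩
      change ((V'.c : FSch.Hom _ 𝔛).app n).base z ∈ 𝔛.lvU h n V.1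
      rw [h1, ← hw]
      exact (Scheme.homOfLE_apply (FBlow.lvU_mono 𝔛 h n i) w).symm ▸ w.2

end GoodOpen

section Pre

variable {𝔜 : FSch.Sys.{u}} (hY : 𝔜.IsFormal) (g : 𝔜 ⟶ 𝔛)

/-- The opens of level `n` over the preimages of the good opens. -/
noncomputable def preFamily (h : 𝔛.IsFormal) (J : FBlow.IdealSh (𝔛.Osh h)) (n : ℕ) :
    GoodOpen h J →o (𝔜.X n).Opens :=
  ⟨fun V => 𝔜.lvU hY n ((g : FSch.Hom 𝔜 𝔛).app 0 ⁻¹ᵁ V.1),
    fun _ _ i => FBlow.lvU_mono 𝔜 hY n (Scheme.Hom.preimage_mono _ i)⟩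

variable (hcov : ∀ x : 𝔛.X 0, ∃ V : GoodOpen h J, x ∈ V.1)

include hcov in
theorem preFamily_cover (n : ℕ) (x : 𝔜.X n) : ∃ V, x ∈ preFamily hY g h J n V :=
  hcov (((g : FSch.Hom 𝔜 𝔛).app 0).base ((𝔜.gInv hY n).hom x))

noncomputable abbrev preCover (n : ℕ) : (𝔜.X n).OpenCover :=
  dirCover (𝔜.X n) (preFamily hY g h J n) (preFamily_cover hY g hcov n)

noncomputable instance preCoverDirected (n : ℕ) : (preCover hY g hcov n).LocallyDirected :=
  dirCoverLocallyDirected (𝔜.X n) (preFamily hY g h J n) _ fun V V' x hx => by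
    obtain ⟨W, h1, h2, h3⟩ := GoodOpen.exists_le (show ((g : FSch.Hom 𝔜 𝔛).app 0).base ((𝔜.gInv hY n).hom x) ∈ V.1
      from hx.1) hx.2
    exact ⟨W, h1, h2, h3⟩

include hcov in
theorem preCover_hom_ext (n : ℕ) {W : Scheme.{u}} (f f' : 𝔜.X n ⟶ W)
    (H : ∀ V : GoodOpen h J,
      (𝔜.lvU hY n ((g : FSch.Hom 𝔜 𝔛).app 0 ⁻¹ᵁ V.1)).ι ≫ f =
        (𝔜.lvU hY n ((g : FSch.Hom 𝔜 𝔛).app 0 ⁻¹ᵁ V.1)).ι ≫ f') : f = f' :=
  Scheme.Cover.hom_ext (preCover hY g hcov n) f f' H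

include hcov in
theorem exists_preCover_desc (n : ℕ) {W : Scheme.{u}}
    (φ : ∀ V : GoodOpen h J, (𝔜.lvU hY n ((g : FSch.Hom 𝔜 𝔛).app 0 ⁻¹ᵁ V.1)).toScheme ⟶ W)
    (hφ : ∀ {V V' : GoodOpen h J} (i : V ≤ V'),
      (𝔜.X n).homOfLE (FBlow.lvU_mono 𝔜 hY n (Scheme.Hom.preimage_mono ((g : FSch.Hom 𝔜 𝔛).app 0) i)) ≫ φ V' =
        φ V) :
    ∃ k : 𝔜.X n ⟶ W, ∀ V : GoodOpen h J,
      (𝔜.lvU hY n ((g : FSch.Hom 𝔜 𝔛).app 0 ⁻¹ᵁ V.1)).ι ≫ k = φ V :=
  ⟨Scheme.OpenCover.glueMorphismsOfLocallyDirected (preCover hY g hcov n) φ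
      (fun {V V'} i => hφ (leOfHom (X := GoodOpen h J) i)),
    fun V => Scheme.OpenCover.map_glueMorphismsOfLocallyDirected (preCover hY g hcov n) φ _ V⟩

/-- The inclusion between the preimage systems. -/
noncomputable def preIncl {V V' : GoodOpen h J} (i : V ≤ V') :
    𝔜.restrictOpen hY ((g : FSch.Hom 𝔜 𝔛).app 0 ⁻¹ᵁ V.1) ⟶
      𝔜.restrictOpen hY ((g : FSch.Hom 𝔜 𝔛).app 0 ⁻¹ᵁ V'.1) :=
  ⟨fun n => (𝔜.X n).homOfLE (FBlow.lvU_mono 𝔜 hY n (Scheme.Hom.preimage_mono _ i)), fun n => by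
    refine (cancel_mono (𝔜.lvU hY (n + 1) ((g : FSch.Hom 𝔜 𝔛).app 0 ⁻¹ᵁ V'.1)).ι).mp ?_
    exact ((Category.assoc _ _ _).trans (congrArg (_ ≫ ·) (Scheme.Hom.resLE_comp_ι _ _))).trans
      (((Category.assoc _ _ _).symm.trans (congrArg (· ≫ 𝔜.ι n) (Scheme.homOfLE_ι _ _))).trans
        ((Scheme.Hom.resLE_comp_ι _ _).symm.trans
          ((congrArg (_ ≫ ·) (Scheme.homOfLE_ι _ _).symm).trans (Category.assoc _ _ _).symm)))⟩

theorem preIncl_ι {V V' : GoodOpen h J} (i : V ≤ V') :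
    preIncl hY g i ≫ 𝔜.restrictOpenι hY ((g : FSch.Hom 𝔜 𝔛).app 0 ⁻¹ᵁ V'.1) =
      𝔜.restrictOpenι hY ((g : FSch.Hom 𝔜 𝔛).app 0 ⁻¹ᵁ V.1) :=
  FSch.Hom.ext (funext fun n =>
    Scheme.homOfLE_ι _ (FBlow.lvU_mono 𝔜 hY n (Scheme.Hom.preimage_mono _ i)))

end Pre

variable (hcov : ∀ x : 𝔛.X 0, ∃ V : GoodOpen h J, x ∈ V.1)

noncomputable abbrev levelFamily (h : 𝔛.IsFormal) (J : FBlow.IdealSh (𝔛.Osh h)) (n : ℕ) :
    GoodOpen h J →o (𝔛.X n).Opens :=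
  ⟨fun V => 𝔛.lvU h n V.1, fun _ _ i => FBlow.lvU_mono 𝔛 h n i⟩

include hcov in
theorem levelFamily_cover (n : ℕ) (x : 𝔛.X n) : ∃ V, x ∈ levelFamily h J n V := hcov ((𝔛.gInv h n).hom x)

noncomputable abbrev levelCover (n : ℕ) : (𝔛.X n).OpenCover :=
  dirCover (𝔛.X n) (levelFamily h J n) (levelFamily_cover hcov n)

noncomputable instance levelCoverDirected (n : ℕ) : (levelCover hcov n).LocallyDirected :=
  dirCoverLocallyDirected (𝔛.X n) (levelFamily h J n) _ fun _ _ _ hx => GoodOpen.exists_le hx.1 hx.2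

/-- The gluing datum of level `n`. -/
noncomputable def glueDatum (n : ℕ) : (levelCover hcov n).RelativeGluingData where
  functor :=
    { obj := fun V => GoodOpen.Z (h := h) (J := J) V |>.X n
      map := fun {V V'} i =>
        (GoodOpen.map (h := h) (J := J) (V := V) (V' := V') (leOfHom (X := GoodOpen h J) i) : FSch.Hom _ _).app n
      map_id := fun V => congrArg (fun m : GoodOpen.Z (h := h) (J := J) V ⟶ _ => (m : FSch.Hom _ _).app n)
        (GoodOpen.map_self (V := V))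
      map_comp := fun {V V' V''} i j =>
        (congrArg (fun m : GoodOpen.Z (h := h) (J := J) V ⟶ GoodOpen.Z (h := h) (J := J) V'' =>
          (m : FSch.Hom _ _).app n) (GoodOpen.map_map (leOfHom (X := GoodOpen h J) i)
            (leOfHom (X := GoodOpen h J) j))).symm }
  natTrans :=
    { app := fun V => GoodOpen.nat V n
      naturality := fun {V V'} i =>
        (GoodOpen.isPullback_map (V := V) (V' := V') (leOfHom (X := GoodOpen h J) i) n).w }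
  equifibered := fun {V V'} i =>
    GoodOpen.isPullback_map (V := V) (V' := V') (leOfHom (X := GoodOpen h J) i) n

/-- The glued level. -/
noncomputable abbrev gX (n : ℕ) : Scheme.{u} := (glueDatum hcov n).glued

noncomputable def gι (n : ℕ) (V : GoodOpen h J) : V.Z.X n ⟶ gX hcov n := colimit.ι (glueDatum hcov n).functor V

noncomputable def gb (n : ℕ) : gX hcov n ⟶ 𝔛.X n := (glueDatum hcov n).toBase

@[reassoc]
theorem gι_gb (n : ℕ) (V : GoodOpen h J) : gι hcov n V ≫ gb hcov n = (V.c : FSch.Hom _ 𝔛).app n :=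
  ((glueDatum hcov n).ι_toBase V).trans (GoodOpen.nat_ι V n)

@[reassoc]
theorem map_gι (n : ℕ) {V V' : GoodOpen h J} (i : V ≤ V') :
    (GoodOpen.map i : FSch.Hom _ _).app n ≫ gι hcov n V' = gι hcov n V :=
  colimit.w (glueDatum hcov n).functor (@homOfLE (GoodOpen h J) _ V V' i)

theorem g_hom_ext {n : ℕ} {W : Scheme.{u}} {f f' : gX hcov n ⟶ W}
    (H : ∀ V, gι hcov n V ≫ f = gι hcov n V ≫ f') : f = f' := colimit.hom_ext H

instance (n : ℕ) (V : GoodOpen h J) : IsOpenImmersion (gι hcov n V) :=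
  (glueDatum hcov n).cover.map_prop V

theorem preimage_gb (n : ℕ) (V : GoodOpen h J) :
    (gb hcov n).base ⁻¹' (𝔛.lvU h n V.1 : Set (𝔛.X n)) = Set.range (gι hcov n V).base := by
  have h1 := (glueDatum hcov n).preimage_toBase_eq_range_ι V
  rw [show Set.range ((levelCover hcov n).f V).base = (𝔛.lvU h n V.1 : Set (𝔛.X n)) from
    Scheme.Opens.range_ι _] at h1
  exact h1

/-- The glued transition maps. -/
noncomputable def gT (n : ℕ) : gX hcov n ⟶ gX hcov (n + 1) :=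
  colimit.desc (glueDatum hcov n).functor
    { pt := gX hcov (n + 1)
      ι :=
        { app := fun V => (GoodOpen.Z (h := h) (J := J) V).ι n ≫ gι hcov (n + 1) V
          naturality := fun {V V'} i => by
            refine Eq.trans ?_ (Category.comp_id _).symm
            change (GoodOpen.map (h := h) (J := J) (V := V) (V' := V') (leOfHom (X := GoodOpen h J) i) :
              FSch.Hom _ _).app n ≫ (GoodOpen.Z (h := h) (J := J) V').ι n ≫ gι hcov (n + 1) V' =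
              (GoodOpen.Z (h := h) (J := J) V).ι n ≫ gι hcov (n + 1) V
            rw [← map_gι hcov (n + 1) (leOfHom (X := GoodOpen h J) i)]
            simp only [← Category.assoc]
            exact congrArg (· ≫ gι hcov (n + 1) V') ((GoodOpen.map (h := h) (J := J) (V := V) (V' := V')
              (leOfHom (X := GoodOpen h J) i) : FSch.Hom _ _).comm n) } }

@[reassoc]
theorem gι_gT (n : ℕ) (V : GoodOpen h J) : gι hcov n V ≫ gT hcov n = V.Z.ι n ≫ gι hcov (n + 1) V :=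
  colimit.ι_desc (F := (glueDatum hcov n).functor) _ V

theorem gb_comm (n : ℕ) : gb hcov n ≫ 𝔛.ι n = gT hcov n ≫ gb hcov (n + 1) :=
  g_hom_ext hcov fun V => by
    rw [gι_gb_assoc, gι_gT_assoc, gι_gb]
    exact (V.c : FSch.Hom _ 𝔛).comm n

theorem isPullback_gT (n : ℕ) (V : GoodOpen h J) :
    IsPullback (V.Z.ι n) (gι hcov n V) (gι hcov (n + 1) V) (gT hcov n) := by
  refine IsOpenImmersion.isPullback _ _ _ _ (gι_gT hcov n V) (Opens.ext ?_)
  change (gT hcov n).base ⁻¹' Set.range (gι hcov (n + 1) V).base = Set.range (gι hcov n V).base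
  rw [← preimage_gb, ← preimage_gb, ← Set.preimage_comp, ← TopCat.coe_comp, ← Scheme.Hom.comp_base, ← gb_comm]
  ext z
  exact SetLike.ext_iff.mp (𝔛.lvU_succ h n V.1) ((gb hcov n).base z)

theorem isPullback_gb (n : ℕ) : IsPullback (gT hcov n) (gb hcov n) (gb hcov (n + 1)) (𝔛.ι n) := by
  refine Scheme.isPullback_of_openCover _ _ _ _ (glueDatum hcov (n + 1)).cover fun V => ?_
  have hl := isPullback_gT hcov n V
  let e : (GoodOpen.Z (h := h) (J := J) V).X n ≅ pullback (gT hcov n) (gι hcov (n + 1) V) := hl.flip.isoPullback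
  refine IsPullback.of_iso ((GoodOpen.isBlowUp V).adic n) e (Iso.refl _) (Iso.refl _) (Iso.refl _) ?_ ?_ ?_ ?_
  · simp only [Iso.refl_hom, Category.comp_id]
    exact (hl.flip.isoPullback_hom_snd).symm
  · simp only [Iso.refl_hom, Category.comp_id]
    change _ = e.hom ≫ pullback.fst (gT hcov n) (gι hcov (n + 1) V) ≫ gb hcov n
    rw [← Category.assoc, hl.flip.isoPullback_hom_fst]
    exact (gι_gb hcov n V).symm
  · simp only [Iso.refl_hom, Category.comp_id, Category.id_comp]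
    exact (gι_gb hcov (n + 1) V).symm
  · simp

/-- The glued system. -/
noncomputable def glueSys : FSch.Sys.{u} := ⟨gX hcov, gT hcov⟩

/-- The glued blow-up map. -/
noncomputable def glueMap : glueSys hcov ⟶ 𝔛 := ⟨gb hcov, fun n => gb_comm hcov n⟩

noncomputable def glueIncl (V : GoodOpen h J) : V.Z ⟶ glueSys hcov :=
  ⟨fun n => gι hcov n V, fun n => gι_gT hcov n V⟩

theorem glueIncl_map (V : GoodOpen h J) : glueIncl hcov V ≫ glueMap hcov = V.c :=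
  FSch.Hom.ext (funext fun n => gι_gb hcov n V)

theorem isFormal_glueSys : (glueSys hcov).IsFormal := fun n => by
  have hsq := isPullback_gb hcov n
  exact ⟨MorphismProperty.of_isPullback (P := @IsClosedImmersion) hsq.flip (h n).1,
    (MorphismProperty.of_isPullback (P := @AlgebraicGeometry.Surjective) hsq.flip ⟨(h n).2⟩).surj⟩

theorem glueSys_isInvertible : (FBlow.idealMap (glueMap hcov) (isFormal_glueSys hcov) h J).IsInvertible := by
  refine isInvertible_of_local (isFormal_glueSys hcov) fun z => ?_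
  obtain ⟨V, hV⟩ := hcov ((gb hcov 0).base z)
  refine ⟨V.Z, V.hZ, glueIncl hcov V, fun n => inferInstanceAs (IsOpenImmersion (gι hcov n V)),
    (preimage_gb hcov 0 V).le ((mem_lvU_zero h V.1 _).mpr hV), ?_⟩
  rw [idealMap_comp h (isFormal_glueSys hcov) V.hZ (glueMap hcov) (glueIncl hcov V) J, glueIncl_map]
  exact V.isBlowUp.inv

theorem glue_comm_aux {C : Type*} [Category C] {A A' B C₀ D E F F' : C} {a : A ⟶ B} {k : B ⟶ C₀} {t : C₀ ⟶ D}
    {i : B ⟶ E} {k' : E ⟶ D} {u : A ⟶ F} {g₁ : F ⟶ C₀} {j : A ⟶ A'} {a' : A' ⟶ E} {u' : A' ⟶ F'} {g₂ : F' ⟶ D}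
    {z : F ⟶ F'} (h₁ : a ≫ k = u ≫ g₁) (h₂ : g₁ ≫ t = z ≫ g₂) (h₃ : u ≫ z = j ≫ u')
    (h₄ : a' ≫ k' = u' ≫ g₂) (h₅ : a ≫ i = j ≫ a') : a ≫ k ≫ t = a ≫ i ≫ k' := by
  rw [reassoc_of% h₁, h₂, reassoc_of% h₃, reassoc_of% h₅, h₄]

section Universal

variable {𝔜 : FSch.Sys.{u}} (hY : 𝔜.IsFormal) (g : 𝔜 ⟶ 𝔛) (hg : FSch.IsAdicHom g)
  (hinv : (FBlow.idealMap g hY h J).IsInvertible)

include hg hinv in
theorem exists_preLift (V : GoodOpen h J) :
    ∃! k : 𝔜.restrictOpen hY ((g : FSch.Hom 𝔜 𝔛).app 0 ⁻¹ᵁ V.1) ⟶ V.Z,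
      k ≫ V.c = 𝔜.restrictOpenι hY ((g : FSch.Hom 𝔜 𝔛).app 0 ⁻¹ᵁ V.1) ≫ g := by
  refine V.isBlowUp.lift _ (FSchLib.isFormal_restrictOpen hY _) _
    (isAdicHom_comp (FSchLib.isAdicHom_restrictOpenι hY _) hg) ?_ ?_
  · rw [← idealMap_comp h hY (FSchLib.isFormal_restrictOpen hY _) g]
    haveI : ∀ n, IsOpenImmersion
        ((𝔜.restrictOpenι hY ((g : FSch.Hom 𝔜 𝔛).app 0 ⁻¹ᵁ V.1) : FSch.Hom _ 𝔜).app n) := fun n =>
      inferInstanceAs (IsOpenImmersion (𝔜.lvU hY n _).ι)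
    exact isInvertible_idealMap hY (FSchLib.isFormal_restrictOpen hY _) _ hinv
  · rintro _ ⟨w, rfl⟩
    exact (mem_lvU_zero hY _ _).mp w.2

variable {κ : ∀ V : GoodOpen h J, 𝔜.restrictOpen hY ((g : FSch.Hom 𝔜 𝔛).app 0 ⁻¹ᵁ V.1) ⟶ V.Z}
  (hκ : ∀ V, κ V ≫ V.c = 𝔜.restrictOpenι hY ((g : FSch.Hom 𝔜 𝔛).app 0 ⁻¹ᵁ V.1) ≫ g)

include hg hinv hκ in
theorem preLift_compat {V V' : GoodOpen h J} (i : V ≤ V') :
    preIncl hY g i ≫ κ V' = κ V ≫ GoodOpen.map i := by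
  obtain ⟨k, -, hk⟩ := V'.isBlowUp.lift (𝔜.restrictOpen hY ((g : FSch.Hom 𝔜 𝔛).app 0 ⁻¹ᵁ V.1))
    (FSchLib.isFormal_restrictOpen hY _) (𝔜.restrictOpenι hY _ ≫ g)
    (isAdicHom_comp (FSchLib.isAdicHom_restrictOpenι hY _) hg) (by
      obtain ⟨q, hq, -⟩ := exists_preLift hY g hg hinv V
      rw [← idealMap_comp h hY (FSchLib.isFormal_restrictOpen hY _) g]
      haveI : ∀ n, IsOpenImmersion
          ((𝔜.restrictOpenι hY ((g : FSch.Hom 𝔜 𝔛).app 0 ⁻¹ᵁ V.1) : FSch.Hom _ 𝔜).app n) := fun n =>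
        inferInstanceAs (IsOpenImmersion (𝔜.lvU hY n _).ι)
      exact isInvertible_idealMap hY (FSchLib.isFormal_restrictOpen hY _) _ hinv) (by
      rintro _ ⟨w, rfl⟩
      exact i ((mem_lvU_zero hY _ _).mp w.2))
  refine (hk _ ?_).trans (hk _ ?_).symm
  · change (preIncl hY g i ≫ κ V') ≫ V'.c = _
    rw [Category.assoc, hκ, ← Category.assoc, preIncl_ι]
  · change (κ V ≫ GoodOpen.map i) ≫ V'.c = _
    rw [Category.assoc, GoodOpen.map_c, hκ]

include hg hinv hκ in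
theorem exists_glueLift (n : ℕ) :
    ∃ k : 𝔜.X n ⟶ gX hcov n, ∀ V : GoodOpen h J,
      (𝔜.lvU hY n ((g : FSch.Hom 𝔜 𝔛).app 0 ⁻¹ᵁ V.1)).ι ≫ k =
        (κ V : FSch.Hom _ _).app n ≫ gι hcov n V :=
  exists_preCover_desc hY g hcov n _ fun {V V'} i => by
    exact (Category.assoc _ _ _).symm.trans ((congrArg (· ≫ gι hcov n V') (congrArg
      (fun m : 𝔜.restrictOpen hY ((g : FSch.Hom 𝔜 𝔛).app 0 ⁻¹ᵁ V.1) ⟶ V'.Z => (m : FSch.Hom _ _).app n)
      (preLift_compat hY g hg hinv hκ i))).trans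
        ((Category.assoc _ _ _).trans (congrArg (_ ≫ ·) (map_gι hcov n i))))

include hg hinv in
theorem glueMap_universal : ∃! k : 𝔜 ⟶ glueSys hcov, k ≫ glueMap hcov = g := by
  choose κ hκ hκu using fun V : GoodOpen h J => exists_preLift hY g hg hinv V
  choose K hK using fun n => exists_glueLift hcov hY g hg hinv hκ n
  refine ⟨⟨K, fun n => preCover_hom_ext hY g hcov n _ _ fun V => ?_⟩,
    FSch.Hom.ext (funext fun n => preCover_hom_ext hY g hcov n _ _ fun V => ?_),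
    fun K' hK' => FSch.Hom.ext (funext fun n => preCover_hom_ext hY g hcov n _ _ fun V => ?_)⟩
  · exact glue_comm_aux (hK n V) (gι_gT hcov n V) ((κ V : FSch.Hom _ _).comm n) (hK (n + 1) V)
      ((𝔜.restrictOpenι hY ((g : FSch.Hom 𝔜 𝔛).app 0 ⁻¹ᵁ V.1) : FSch.Hom _ 𝔜).comm n)
  · exact (Category.assoc _ _ _).symm.trans ((congrArg (· ≫ gb hcov n) (hK n V)).trans
      ((Category.assoc _ _ _).trans ((congrArg (_ ≫ ·) (gι_gb hcov n V)).trans
        (congrArg (fun m : 𝔜.restrictOpen hY ((g : FSch.Hom 𝔜 𝔛).app 0 ⁻¹ᵁ V.1) ⟶ 𝔛 =>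
          (m : FSch.Hom _ _).app n) (hκ V)))))
  · haveI : ∀ n, IsOpenImmersion ((glueIncl hcov V : FSch.Hom _ _).app n) := fun n =>
      inferInstanceAs (IsOpenImmersion (gι hcov n V))
    obtain ⟨q, hq, -⟩ := existsUnique_lift (glueIncl hcov V)
      (FSchLib.isFormal_restrictOpen hY ((g : FSch.Hom 𝔜 𝔛).app 0 ⁻¹ᵁ V.1))
      (𝔜.restrictOpenι hY ((g : FSch.Hom 𝔜 𝔛).app 0 ⁻¹ᵁ V.1) ≫ K') (by
      rintro _ ⟨w, rfl⟩
      refine (preimage_gb hcov 0 V).le ?_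
      refine (mem_lvU_zero h V.1 _).mpr ?_
      have e := congrArg (fun m : 𝔜.restrictOpen hY ((g : FSch.Hom 𝔜 𝔛).app 0 ⁻¹ᵁ V.1) ⟶ 𝔛 =>
        (((m : FSch.Hom _ 𝔛).app 0).base w : 𝔛.X 0))
        (show (𝔜.restrictOpenι hY ((g : FSch.Hom 𝔜 𝔛).app 0 ⁻¹ᵁ V.1) ≫ K') ≫ glueMap hcov =
          𝔜.restrictOpenι hY ((g : FSch.Hom 𝔜 𝔛).app 0 ⁻¹ᵁ V.1) ≫ g by rw [Category.assoc, hK'])
      exact Eq.mpr (congrArg (· ∈ V.1) e) ((mem_lvU_zero hY _ _).mp w.2))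
    have hqκ : q = κ V := hκu V q (by
      change q ≫ V.c = _
      rw [← glueIncl_map hcov V, ← Category.assoc, hq, Category.assoc, hK'])
    subst hqκ
    refine Eq.trans ?_ (hK n V).symm
    exact congrArg (fun m : 𝔜.restrictOpen hY ((g : FSch.Hom 𝔜 𝔛).app 0 ⁻¹ᵁ V.1) ⟶ glueSys hcov =>
      (m : FSch.Hom _ _).app n) hq.symm

end Universal

include hcov in
theorem exists_isAdmBlowUp_of_local :
    ∃ (ℨ : FSch.Sys.{u}) (hZ : ℨ.IsFormal) (b : ℨ ⟶ 𝔛), FBlow.IsAdmBlowUp b hZ h J :=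
  ⟨glueSys hcov, isFormal_glueSys hcov, glueMap hcov, fun n => isPullback_gb hcov n,
    glueSys_isInvertible hcov, fun _ hY g hg hinv => glueMap_universal hcov hY g hg hinv⟩

end Groth.Agent.FBlowLib
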