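import Groth.Agent.FBlowLib.Sections
import Groth.Agent.FSchLib.Systems

/-!
# The ideal of `O_𝔛` generated by an ideal of a ring along a compatible family `X n ⟶ Spec A`

`centre 𝔛 h r hr 𝔞` is `𝔞 · O_𝔛`; `IsLocGen` is the elementwise form of "invertible" for it.
-/

universe u

open CategoryTheory CategoryTheory.Limits TopologicalSpace Opposite AlgebraicGeometry

namespace Groth.Agent.FBlowLib

section Generic

variable {T : TopCat.{u}} {O : Sheaf (Opens.grothendieckTopology T) CommRingCat.{u}}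

/-- Being a multiple of a regular section is local. -/
theorem exists_eq_mul_of_local {V : Opens T} (g : O.obj.obj (op V))
    (hreg : ∀ (W : Opens T) (i : W ≤ V) (t : O.obj.obj (op W)),
      t * O.obj.map (homOfLE i).op g = 0 → t = 0)
    (s : O.obj.obj (op V))
    (hloc : ∀ x ∈ V, ∃ (W : Opens T) (i : W ≤ V), x ∈ W ∧ ∃ t : O.obj.obj (op W),
      O.obj.map (homOfLE i).op s = t * O.obj.map (homOfLE i).op g) :
    ∃ t : O.obj.obj (op V), s = t * g := by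
  choose W i hxW t ht using hloc
  have hc : (V : Opens T) ≤ ⨆ x : V, W x.1 x.2 := fun x hx =>
    Opens.mem_iSup.mpr ⟨⟨x, hx⟩, hxW x hx⟩
  obtain ⟨s', hs', -⟩ := TopCat.Sheaf.existsUnique_gluing' O (fun x : V => W x.1 x.2) V
    (fun x => homOfLE (i x.1 x.2)) hc (fun x => t x.1 x.2) (fun x y => by
      let Z := W x.1 x.2 ⊓ W y.1 y.2
      change O.obj.map (homOfLE (inf_le_left : Z ≤ W x.1 x.2)).op (t x.1 x.2) =
        O.obj.map (homOfLE (inf_le_right : Z ≤ W y.1 y.2)).op (t y.1 y.2)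
      refine sub_eq_zero.mp (hreg Z (inf_le_left.trans (i x.1 x.2)) _ ?_)
      rw [sub_mul, sub_eq_zero]
      have h1 := congrArg (O.obj.map (homOfLE (inf_le_left : Z ≤ W x.1 x.2)).op) (ht x.1 x.2)
      have h2 := congrArg (O.obj.map (homOfLE (inf_le_right : Z ≤ W y.1 y.2)).op) (ht y.1 y.2)
      rw [map_mul, FBlow.IdealSh.map_comp_apply, FBlow.IdealSh.map_comp_apply] at h1 h2
      exact h1.symm.trans h2)
  refine ⟨s', TopCat.Sheaf.eq_of_locally_eq' O (fun x : V => W x.1 x.2) V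
    (fun x => homOfLE (i x.1 x.2)) hc _ _ fun x => ?_⟩
  rw [map_mul, hs' x]
  exact ht x.1 x.2

end Generic

variable {A : Type u} [CommRing A] (𝔛 : FSch.Sys.{u}) (h : 𝔛.IsFormal)
  (r : ∀ n, 𝔛.X n ⟶ Spec (CommRingCat.of A)) (hr : ∀ n, 𝔛.ι n ≫ r (n + 1) = r n)

/-- The ring map `A → O_𝔛(V)` of a compatible family `X n ⟶ Spec A`. -/
noncomputable def rho (V : (𝔛.X 0).Opens) : A →+* Sec 𝔛 h V :=
  (pull 𝔛 h r hr (le_top : V ≤ r 0 ⁻¹ᵁ ⊤)).comp (Scheme.ΓSpecIso (CommRingCat.of A)).inv.hom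

theorem res_rho {V V' : (𝔛.X 0).Opens} (i : V' ≤ V) (a : A) :
    res 𝔛 h i (rho 𝔛 h r hr V a) = rho 𝔛 h r hr V' a :=
  res_pull 𝔛 h r hr le_top i _

/-- The ideal `𝔞 · O_𝔛`. -/
noncomputable def centre (𝔞 : Ideal A) : FBlow.IdealSh (𝔛.Osh h) :=
  FBlow.schIdealMap 𝔛 h r hr (FBlow.IdealSh.ofData (FSch.idealSpec A 𝔞))

variable (𝔞 : Ideal A)

theorem rho_mem_centre (V : (𝔛.X 0).Opens) {a : A} (ha : a ∈ 𝔞) :
    rho 𝔛 h r hr V a ∈ (centre 𝔛 h r hr 𝔞).sect V := by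
  refine FBlow.IdealSh.image_mem_map _ _ _ ?_ (le_top : V ≤ r 0 ⁻¹ᵁ ⊤)
  intro x _
  refine ⟨⟨⊤, isAffineOpen_top _⟩, le_rfl, Set.mem_univ x, ?_⟩
  rw [FSchLib.idealSpec_ideal_top]
  refine (FBlow.IdealSh.map_id_apply (O := (Spec (CommRingCat.of A)).sheaf) _ _).symm ▸ ?_
  exact Ideal.mem_map_of_mem _ ha

/-- `𝔞 · O_𝔛` is the smallest ideal sheaf containing the images of the elements of `𝔞`. -/
theorem centre_le {L : FBlow.IdealSh (𝔛.Osh h)}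
    (hL : ∀ (V : (𝔛.X 0).Opens) (a : A), a ∈ 𝔞 → rho 𝔛 h r hr V a ∈ L.sect V) :
    centre 𝔛 h r hr 𝔞 ≤ L := by
  refine FBlow.IdealSh.map_le fun W (a : Γ(Spec (CommRingCat.of A), W)) ha V j => L.mem_of_local fun y hy => ?_
  obtain ⟨D, iD, hyD, hD⟩ := ha ((r 0).base y) (j hy)
  let V' : (𝔛.X 0).Opens := V ⊓ r 0 ⁻¹ᵁ D.1
  refine ⟨V', inf_le_left, ⟨hy, hyD⟩, ?_⟩
  change res 𝔛 h (inf_le_left : V' ≤ V) (pull 𝔛 h r hr j a) ∈ _
  rw [res_pull]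
  erw [← pull_map 𝔛 h r hr iD (inf_le_right : V' ≤ r 0 ⁻¹ᵁ D.1)]
  rw [← (FSch.idealSpec A 𝔞).map_ideal (U := D) (V := ⟨⊤, isAffineOpen_top _⟩) (show D.1 ≤ ⊤ from le_top),
    FSchLib.idealSpec_ideal_top, Ideal.map_map] at hD
  refine (Ideal.map_le_iff_le_comap.mpr fun b hb => ?_ :
    _ ≤ (L.sect V').comap (pull 𝔛 h r hr (inf_le_right : V' ≤ r 0 ⁻¹ᵁ D.1))) hD
  rw [Ideal.mem_comap, Ideal.mem_comap, RingHom.comp_apply]
  erw [pull_map]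
  exact hL V' b hb

/-- Sections of `𝔞 · O_𝔛` are near every point combinations of images of elements of `𝔞`. -/
theorem exists_mem_span_of_mem_centre {V : (𝔛.X 0).Opens} {s : Sec 𝔛 h V}
    (hs : s ∈ (centre 𝔛 h r hr 𝔞).sect V) {x : 𝔛.X 0} (hx : x ∈ V) :
    ∃ (W : (𝔛.X 0).Opens) (i : W ≤ V), x ∈ W ∧ res 𝔛 h i s ∈ 𝔞.map (rho 𝔛 h r hr W) := by
  let S : ∀ W : (𝔛.X 0).Opens, Set (Sec 𝔛 h W) := fun W => rho 𝔛 h r hr W '' 𝔞
  have hle : centre 𝔛 h r hr 𝔞 ≤ FBlow.IdealSh.gen (O := 𝔛.Osh h) S :=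
    centre_le 𝔛 h r hr 𝔞 fun W a ha => FBlow.IdealSh.subset_gen S W ⟨a, ha, rfl⟩
  obtain ⟨W, i, hxW, hW⟩ := hle V hs x hx
  refine ⟨W, i, hxW, (Ideal.span_le.mpr ?_ : Ideal.span (FBlow.IdealSh.seed (O := 𝔛.Osh h) S W) ≤
    𝔞.map (rho 𝔛 h r hr W)) hW⟩
  rintro _ ⟨W', j, _, ⟨a, ha, rfl⟩, rfl⟩
  exact (res_rho 𝔛 h r hr j a).symm ▸ Ideal.mem_map_of_mem _ ha

/-- `g` generates `𝔞 · O_𝔛` over `V` by a regular element. -/
structure IsLocGen (V : (𝔛.X 0).Opens) (g : Sec 𝔛 h V) : Prop where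
  mem : g ∈ 𝔞.map (rho 𝔛 h r hr V)
  dvd : ∀ a ∈ 𝔞, ∃ t, rho 𝔛 h r hr V a = t * g
  reg : ∀ (W : (𝔛.X 0).Opens) (i : W ≤ V) (t : Sec 𝔛 h W), t * res 𝔛 h i g = 0 → t = 0

namespace IsLocGen

variable {𝔛 h r hr 𝔞} {V : (𝔛.X 0).Opens} {g : Sec 𝔛 h V} (hg : IsLocGen 𝔛 h r hr 𝔞 V g)
include hg

theorem res {W : (𝔛.X 0).Opens} (i : W ≤ V) :
    IsLocGen 𝔛 h r hr 𝔞 W (FBlowLib.res 𝔛 h i g) where
  mem := by
    have := Ideal.mem_map_of_mem (FBlowLib.res 𝔛 h i) hg.mem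
    rw [Ideal.map_map] at this
    convert this using 3
    ext a
    exact (res_rho 𝔛 h r hr i a).symm
  dvd a ha := by
    obtain ⟨t, ht⟩ := hg.dvd a ha
    exact ⟨FBlowLib.res 𝔛 h i t, by rw [← map_mul, ← ht, res_rho]⟩
  reg W' j t ht := hg.reg W' (j.trans i) t (by
    rw [← ht]
    congr 1
    exact (FBlow.IdealSh.map_comp_apply i j g).symm)

theorem map_le_span : 𝔞.map (rho 𝔛 h r hr V) ≤ Ideal.span {g} :=
  Ideal.map_le_iff_le_comap.mpr fun a ha => by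
    obtain ⟨t, ht⟩ := hg.dvd a ha
    exact Ideal.mem_span_singleton'.mpr ⟨t, ht.symm⟩

theorem span_eq : 𝔞.map (rho 𝔛 h r hr V) = Ideal.span {g} :=
  le_antisymm hg.map_le_span ((Ideal.span_singleton_le_iff_mem _).mpr hg.mem)

theorem mem_nonZeroDivisors : g ∈ nonZeroDivisors (Sec 𝔛 h V) :=
  mem_nonZeroDivisors_iff_right.mpr fun t ht => hg.reg V le_rfl t (by
    rw [← ht]
    congr 1
    exact FBlow.IdealSh.map_id_apply _ g)

theorem mem_centre : g ∈ (centre 𝔛 h r hr 𝔞).sect V :=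
  (Ideal.map_le_iff_le_comap.mpr fun _ ha => rho_mem_centre 𝔛 h r hr 𝔞 V ha : _ ≤ (centre 𝔛 h r hr 𝔞).sect V) hg.mem

theorem exists_eq_mul {W : (𝔛.X 0).Opens} (i : W ≤ V) {s : Sec 𝔛 h W}
    (hs : s ∈ (centre 𝔛 h r hr 𝔞).sect W) : ∃ t, s = t * FBlowLib.res 𝔛 h i g := by
  refine exists_eq_mul_of_local _ (fun W' j t ht => (hg.res i).reg W' j t ht) s fun x hx => ?_
  obtain ⟨W', j, hxW', hW'⟩ := exists_mem_span_of_mem_centre 𝔛 h r hr 𝔞 hs hx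
  obtain ⟨t, ht⟩ := Ideal.mem_span_singleton'.mp (((hg.res i).res j).map_le_span hW')
  exact ⟨W', j, hxW', t, ht.symm⟩

end IsLocGen

theorem isInvertible_centre_iff :
    (centre 𝔛 h r hr 𝔞).IsInvertible ↔
      ∀ x : 𝔛.X 0, ∃ (V : (𝔛.X 0).Opens) (g : Sec 𝔛 h V), x ∈ V ∧ IsLocGen 𝔛 h r hr 𝔞 V g := by
  constructor
  · intro H x
    obtain ⟨U, hxU, g, hgU, hU⟩ := H x
    obtain ⟨W, i, hxW, hW⟩ := exists_mem_span_of_mem_centre 𝔛 h r hr 𝔞 hgU hxU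
    refine ⟨W, res 𝔛 h i g, hxW, hW, fun a ha => ?_, fun W' j t ht => ?_⟩
    · exact (hU W i).2 _ (rho_mem_centre 𝔛 h r hr 𝔞 W ha)
    · refine (hU W' (j.trans i)).1 t ?_
      rw [← ht]
      congr 1
      exact (FBlow.IdealSh.map_comp_apply i j g).symm
  · intro H x
    obtain ⟨V, g, hxV, hg⟩ := H x
    exact ⟨V, hxV, g, hg.mem_centre, fun W i =>
      ⟨fun t ht => hg.reg W i t ht, fun s hs => hg.exists_eq_mul i hs⟩⟩

section Map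

variable {𝔛 h r hr} {𝔜 : FSch.Sys.{u}} (h' : 𝔜.IsFormal) (f : 𝔜 ⟶ 𝔛)
  (r' : ∀ n, 𝔜.X n ⟶ Spec (CommRingCat.of A)) (hr' : ∀ n, 𝔜.ι n ≫ r' (n + 1) = r' n)
  (hf : ∀ n, (f : FSch.Hom 𝔜 𝔛).app n ≫ r n = r' n)

include hf in
theorem hpull_rho {U : (𝔛.X 0).Opens} {V : (𝔜.X 0).Opens}
    (e : V ≤ (f : FSch.Hom 𝔜 𝔛).app 0 ⁻¹ᵁ U) (a : A) :
    hpull h f h' e (rho 𝔛 h r hr U a) = rho 𝔜 h' r' hr' V a :=
  hpull_pull h f h' r hr r' hr' hf le_top e le_top _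

include hf in
/-- `(𝔞 · O_𝔛) · O_𝔜 = 𝔞 · O_𝔜`. -/
theorem idealMap_centre :
    FBlow.idealMap f h' h (centre 𝔛 h r hr 𝔞) = centre 𝔜 h' r' hr' 𝔞 := by
  refine FBlow.IdealSh.ext (funext fun V => le_antisymm ?_ ?_)
  · refine (FBlow.IdealSh.map_le fun W a ha V j => ?_ :
      FBlow.idealMap f h' h (centre 𝔛 h r hr 𝔞) ≤ centre 𝔜 h' r' hr' 𝔞) V
    let L : FBlow.IdealSh (𝔛.Osh h) :=
      { sect := fun U => ⨅ (V : (𝔜.X 0).Opens) (e : V ≤ (f : FSch.Hom 𝔜 𝔛).app 0 ⁻¹ᵁ U),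
          ((centre 𝔜 h' r' hr' 𝔞).sect V).comap (hpull h f h' e)
        map_mem := fun {U U'} i s hs => by
          simp only [Ideal.mem_iInf, Ideal.mem_comap] at hs ⊢
          intro V e
          change hpull h f h' e (res 𝔛 h i s) ∈ _
          rw [hpull_res]
          exact hs V _
        mem_of_local := fun {U s} hs => by
          simp only [Ideal.mem_iInf, Ideal.mem_comap]
          intro V e
          refine (centre 𝔜 h' r' hr' 𝔞).mem_of_local fun y hy => ?_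
          obtain ⟨U', i, hyU', hU'⟩ := hs ((f : FSch.Hom 𝔜 𝔛).app 0 |>.base y) (e hy)
          simp only [Ideal.mem_iInf, Ideal.mem_comap] at hU'
          refine ⟨V ⊓ (f : FSch.Hom 𝔜 𝔛).app 0 ⁻¹ᵁ U', inf_le_left, ⟨hy, hyU'⟩, ?_⟩
          change res 𝔜 h' inf_le_left (hpull h f h' e s) ∈ _
          rw [res_hpull]
          have := hU' _ (inf_le_right : V ⊓ (f : FSch.Hom 𝔜 𝔛).app 0 ⁻¹ᵁ U' ≤ _)
          change hpull h f h' _ (res 𝔛 h i s) ∈ _ at this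
          rwa [hpull_res] at this }
    have hL : centre 𝔛 h r hr 𝔞 ≤ L := centre_le 𝔛 h r hr 𝔞 fun U b hb => by
      change _ ∈ ⨅ (V : (𝔜.X 0).Opens) (e : V ≤ (f : FSch.Hom 𝔜 𝔛).app 0 ⁻¹ᵁ U), _
      simp only [Ideal.mem_iInf, Ideal.mem_comap]
      intro V e
      rw [hpull_rho h' f r' hr' hf e]
      exact rho_mem_centre 𝔜 h' r' hr' 𝔞 V hb
    have h1 := hL W ha
    simp only [L, Ideal.mem_iInf, Ideal.mem_comap] at h1
    exact h1 V j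
  · refine (centre_le 𝔜 h' r' hr' 𝔞 fun V a ha => ?_ : centre 𝔜 h' r' hr' 𝔞 ≤ _) V
    rw [← hpull_rho (h := h) (hr := hr) h' f r' hr' hf (U := ⊤) le_top a]
    have hm := FBlow.IdealSh.image_mem_map ((f : FSch.Hom 𝔜 𝔛).app 0).base (FSch.Hom.sharp f h' h)
      (centre 𝔛 h r hr 𝔞) (W := ⊤) (rho_mem_centre 𝔛 h r hr 𝔞 ⊤ ha)
      (V := V) (le_top : V ≤ (Opens.map ((f : FSch.Hom 𝔜 𝔛).app 0).base).obj ⊤)
    exact hm

end Map

end Groth.Agent.FBlowLib
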