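import Groth.Agent.FBlowLib.CohMul
import Groth.Agent.FBlowLib.Completion

/-!
# Level data of coherent open ideals

`ofLevel_injective`, `idealMap_ofLevel`, `centre_eq_ofLevel`, `exists_global_data`, `ofLevel_mul`, `idPow`.
-/

universe u

open CategoryTheory CategoryTheory.Limits TopologicalSpace Opposite AlgebraicGeometry

namespace Groth.Agent.FBlowLib

/-- Ideal data pushed along a closed immersion pull back to themselves. -/
theorem comap_map_of_isClosedImmersion {X Y : Scheme.{u}} (g : X ⟶ Y) [IsClosedImmersion g] (K : X.IdealSheafData) :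
    (K.map g).comap g = K :=
  (FSchLib.ker_eq_comap_ker_comp K.subschemeι g).symm.trans (Scheme.IdealSheafData.ker_subschemeι K)

variable {R : Type u} [CommRing R] {I : Ideal R} {𝔛 : FSch.Sys.{u}} (h : 𝔛.IsFormal) (p : 𝔛 ⟶ FSch.spf R I)
  (hp : FSch.IsAdicHom p) (hI : I.FG)

include hp hI in
theorem comap_proj_injective {n : ℕ} {D : (𝔛.X 0).Opens} (hD : IsAffineOpen D)
    {a b : Ideal Γ(𝔛.X n, 𝔛.lvU h n D)} (e : a.comap (proj 𝔛 h n D) = b.comap (proj 𝔛 h n D)) : a = b := by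
  rw [← Ideal.map_comap_of_surjective _ ((proj_props h p hD hp hI).2.1 n).1 a, e,
    Ideal.map_comap_of_surjective _ ((proj_props h p hD hp hI).2.1 n).1 b]

include hp hI in
theorem ideal_eq_of_sect_eq {n : ℕ} (A B : (𝔛.X n).IdealSheafData) {D : (𝔛.X 0).Opens} (hD : IsAffineOpen D)
    (e : (FBlow.ofLevel 𝔛 h n A).sect D = (FBlow.ofLevel 𝔛 h n B).sect D) :
    A.ideal ⟨_, isAffineOpen_lvU h n hD⟩ = B.ideal ⟨_, isAffineOpen_lvU h n hD⟩ := by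
  rw [sect_eq_comap h (FBlow.ofLevel 𝔛 h n A) (U := ⊤) (fun _ _ => rfl) hD le_top,
    sect_eq_comap h (FBlow.ofLevel 𝔛 h n B) (U := ⊤) (fun _ _ => rfl) hD le_top] at e
  exact comap_proj_injective h p hp hI hD e

include hp hI in
theorem ofLevel_injective {n : ℕ} {A B : (𝔛.X n).IdealSheafData}
    (e : FBlow.ofLevel 𝔛 h n A = FBlow.ofLevel 𝔛 h n B) : A = B := by
  refine Scheme.IdealSheafData.ext (funext fun V => ?_)
  obtain ⟨O, hO, rfl⟩ := exists_affine_lvU_eq h n V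
  exact ideal_eq_of_sect_eq h p hp hI A B hO (by rw [e])

include hp hI in
/-- Inverse image of level data. -/
theorem idealMap_ofLevel {𝔜 : FSch.Sys.{u}} (h' : 𝔜.IsFormal) (f : 𝔜 ⟶ 𝔛) (hf : FSch.IsAdicHom f) (n : ℕ)
    (𝒜 : (𝔛.X n).IdealSheafData) :
    FBlow.idealMap f h' h (FBlow.ofLevel 𝔛 h n 𝒜) =
      FBlow.ofLevel 𝔜 h' n (𝒜.comap ((f : FSch.Hom 𝔜 𝔛).app n)) := by
  refine FBlow.IdealSh.ext (funext fun O => le_antisymm ?_ (sect_le_of_affine h' (U := ⊤) (fun D' _ hD' => ?_) le_top))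
  · refine idealMap_le_iff h h' f _ (fun W a ha Q e => (FBlow.ofLevel 𝔜 h' n _).mem_of_local fun w hw => ?_) O
    obtain ⟨D, hD, hwD, hDle⟩ := exists_isAffineOpen_mem_and_subset (U := W) (e hw)
    obtain ⟨D', hD', hwD', hD'le⟩ := exists_isAffineOpen_mem_and_subset
      (U := Q ⊓ (f : FSch.Hom 𝔜 𝔛).app 0 ⁻¹ᵁ D) (show w ∈ Q ⊓ (f : FSch.Hom 𝔜 𝔛).app 0 ⁻¹ᵁ D from ⟨hw, hwD⟩)
    refine ⟨D', fun z hz => (hD'le hz).1, hwD', ?_⟩
    have e' : D' ≤ (f : FSch.Hom 𝔜 𝔛).app 0 ⁻¹ᵁ D := fun z hz => (hD'le hz).2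
    change res 𝔜 h' _ (hpull h f h' e a) ∈ _
    rw [res_hpull, ← hpull_res h f h' hDle e',
      sect_eq_comap h' (FBlow.ofLevel 𝔜 h' n _) (U := ⊤) (fun _ _ => rfl) hD' le_top, Ideal.mem_comap,
      FSchLib.ideal_comap_eq_map _ 𝒜 ⟨_, isAffineOpen_lvU h' n hD'⟩ ⟨_, isAffineOpen_lvU h n hD⟩
        (lvU_le_hom h f h' e' n)]
    refine (congrArg (· ∈ _) (proj_hpull h f h' e' n _)).mpr (Ideal.mem_map_of_mem _ ?_)
    have h1 := (FBlow.ofLevel 𝔛 h n 𝒜).map_mem hDle ha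
    rw [sect_eq_comap h (FBlow.ofLevel 𝔛 h n 𝒜) (U := ⊤) (fun _ _ => rfl) hD le_top] at h1
    exact h1
  · intro s hs
    refine (FBlow.idealMap f h' h _).mem_of_local fun z hz => ?_
    obtain ⟨D, hD, hzD, -⟩ := exists_isAffineOpen_mem_and_subset (X := 𝔛.X 0)
      (x := ((f : FSch.Hom 𝔜 𝔛).app 0).base z) (U := ⊤) trivial
    obtain ⟨E, hE, hzE, hEle⟩ := exists_isAffineOpen_mem_and_subset
      (U := D' ⊓ (f : FSch.Hom 𝔜 𝔛).app 0 ⁻¹ᵁ D) (show z ∈ D' ⊓ (f : FSch.Hom 𝔜 𝔛).app 0 ⁻¹ᵁ D from ⟨hz, hzD⟩)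
    refine ⟨E, fun w hw => (hEle hw).1, hzE, ?_⟩
    have e : E ≤ (f : FSch.Hom 𝔜 𝔛).app 0 ⁻¹ᵁ D := fun w hw => (hEle hw).2
    obtain ⟨-, hppD, -⟩ := proj_props h p hD hp hI
    obtain ⟨-, hppE, -⟩ := proj_props h' (f ≫ p) hE (isAdicHom_comp hf hp) hI
    have h1 : res 𝔜 h' (fun w hw => (hEle hw).1) s ∈ (FBlow.ofLevel 𝔜 h' n _).sect E :=
      (FBlow.ofLevel 𝔜 h' n _).map_mem _ hs
    rw [sect_eq_comap h' (FBlow.ofLevel 𝔜 h' n _) (U := ⊤) (fun _ _ => rfl) hE le_top,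
      FSchLib.ideal_comap_eq_map _ 𝒜 ⟨_, isAffineOpen_lvU h' n hE⟩ ⟨_, isAffineOpen_lvU h n hD⟩
        (lvU_le_hom h f h' e n)] at h1
    have hc : (((f : FSch.Hom 𝔜 𝔛).app n).appLE (𝔛.lvU h n D) (𝔜.lvU h' n E) (lvU_le_hom h f h' e n)).hom.comp
        (proj 𝔛 h n D) = (proj 𝔜 h' n E).comp (hpull h f h' e) :=
      RingHom.ext fun a => (proj_hpull h f h' _ n a).symm
    rw [← Ideal.map_comap_of_surjective _ (hppD n).1 (𝒜.ideal ⟨_, isAffineOpen_lvU h n hD⟩), Ideal.map_map] at h1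
    erw [hc, ← Ideal.map_map] at h1
    rw [Ideal.comap_map_of_surjective _ (hppE n).1, ← RingHom.ker_eq_comap_bot, (hppE n).2] at h1
    refine (sup_le (Ideal.map_le_iff_le_comap.mpr fun a ha => ?_)
      (Ideal.map_le_iff_le_comap.mpr fun a ha => ?_) : _ ≤ (FBlow.idealMap f h' h _).sect E) h1
    · refine Ideal.mem_comap.mpr (hpull_mem_idealMap h h' f _ ?_ e)
      rw [sect_eq_comap h (FBlow.ofLevel 𝔛 h n 𝒜) (U := ⊤) (fun _ _ => rfl) hD le_top]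
      exact ha
    · rw [Ideal.mem_comap, ← hpull_baseHom h h' p f e]
      exact hpull_mem_idealMap h h' f _
        (ker_le_sect h p hp hI _ (O := ⊤) (fun _ _ => rfl) hD le_top le_rfl a ha) e

/-- Moving level data up by one level. -/
theorem ofLevel_map_succ (n : ℕ) (𝒜 : (𝔛.X n).IdealSheafData) :
    FBlow.ofLevel 𝔛 h (n + 1) (𝒜.map (𝔛.ι n)) = FBlow.ofLevel 𝔛 h n 𝒜 := by
  refine FBlow.IdealSh.ext (funext fun U => sect_eq_of_affine h (U := ⊤) (fun D _ hD => ?_) le_top)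
  rw [sect_eq_comap h (FBlow.ofLevel 𝔛 h (n + 1) (𝒜.map (𝔛.ι n))) (U := ⊤) (fun _ _ => rfl) hD le_top,
    sect_eq_comap h (FBlow.ofLevel 𝔛 h n 𝒜) (U := ⊤) (fun _ _ => rfl) hD le_top,
    ofLevel_succ_ideal h n 𝒜 hD, Ideal.comap_comap]
  exact congrArg (fun φ => Ideal.comap φ _) (RingHom.ext fun s => proj_succ 𝔛 h n D s)

include h in
/-- The unit data give the unit ideal. -/
theorem ofLevel_top (n : ℕ) : FBlow.ofLevel 𝔛 h n ⊤ = FBlow.IdealSh.top (𝔛.Osh h) := by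
  refine FBlow.IdealSh.ext (funext fun U => sect_eq_of_affine h (U := ⊤) (fun D _ hD => ?_) le_top)
  rw [sect_eq_comap h (FBlow.ofLevel 𝔛 h n ⊤) (U := ⊤) (fun _ _ => rfl) hD le_top,
    Scheme.IdealSheafData.ideal_top, Pi.top_apply, Ideal.comap_top]
  rfl

include hp hI in
/-- A coherent open ideal on a quasi-compact quasi-separated system is given by data on one level. -/
theorem exists_global_data [CompactSpace (𝔛.X 0)] [QuasiSeparatedSpace (𝔛.X 0)]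
    {J : FBlow.IdealSh (𝔛.Osh h)} (hJ : FBlow.IsCohOpen 𝔛 h J) :
    ∃ n, ∀ L, n ≤ L → ∃ 𝒜 : (𝔛.X L).IdealSheafData, FSch.IdealFT 𝒜 ∧ J = FBlow.ofLevel 𝔛 h L 𝒜 := by
  suffices H : ∃ (n : ℕ) (𝒜 : (𝔛.X n).IdealSheafData), FSch.IdealFT 𝒜 ∧ J = FBlow.ofLevel 𝔛 h n 𝒜 by
    obtain ⟨n, 𝒜, hA, rfl⟩ := H
    refine ⟨n, fun L hL => ?_⟩
    obtain ⟨ℬ, hB, e⟩ := exists_ofLevel_raise h p hp hI n 𝒜 hA L hL
    exact ⟨ℬ, hB, e.symm⟩
  have hex : ∀ x : 𝔛.X 0, ∃ D : (𝔛.X 0).Opens, IsAffineOpen D ∧ x ∈ D ∧ ∃ (m : ℕ) (𝒜 : (𝔛.X m).IdealSheafData),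
      FSch.IdealFT 𝒜 ∧ ∀ V : (𝔛.X 0).Opens, V ≤ D → J.sect V = (FBlow.ofLevel 𝔛 h m 𝒜).sect V := fun x => by
    obtain ⟨U, hxU, m, 𝒜, hft, hJU⟩ := hJ x
    obtain ⟨D, hD, hxD, hle⟩ := exists_isAffineOpen_mem_and_subset (x := x) (U := U) hxU
    exact ⟨D, hD, hxD, m, 𝒜, hft, fun V hV => hJU V (le_trans hV hle)⟩
  choose D hD hxD m 𝒜 hft hJD using hex
  obtain ⟨s, hs⟩ := isCompact_univ.elim_finite_subcover (fun x => (D x : Set (𝔛.X 0)))
    (fun x => (D x).2) (fun x _ => Set.mem_iUnion.2 ⟨x, hxD x⟩)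
  obtain ⟨k, ⟨σ⟩⟩ := Finite.exists_equiv_fin s
  let N := s.sup m
  have hB : ∀ i : Fin k, ∃ ℬ : (𝔛.X N).IdealSheafData, FSch.IdealFT ℬ ∧
      ∀ V : (𝔛.X 0).Opens, V ≤ D (σ.symm i).1 → J.sect V = (FBlow.ofLevel 𝔛 h N ℬ).sect V := fun i => by
    obtain ⟨ℬ, hB, e⟩ := exists_ofLevel_raise h p hp hI _ _ (hft (σ.symm i).1) N (Finset.le_sup (σ.symm i).2)
    exact ⟨ℬ, hB, fun V hV => (hJD _ V hV).trans (by rw [e])⟩
  choose ℬ hBft hBJ using hB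
  haveI : QuasiSeparatedSpace (𝔛.X N) := (𝔛.levelHomeo h N).symm.isOpenEmbedding.quasiSeparatedSpace
  let DN : Fin k → (𝔛.X N).affineOpens := fun i => ⟨_, isAffineOpen_lvU h N (hD (σ.symm i).1)⟩
  have hle : ∀ {O E : (𝔛.X 0).Opens}, 𝔛.lvU h N O ≤ 𝔛.lvU h N E → O ≤ E := fun {O E} hl z hz => by
    have e : (𝔛.gInv h N).hom ((𝔛.toX N).base z) = z := ConcreteCategory.congr_hom (𝔛.toX_base_gInv h N) z
    have hz' : (𝔛.toX N).base z ∈ 𝔛.lvU h N O := by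
      change (𝔛.gInv h N).hom ((𝔛.toX N).base z) ∈ O
      rw [e]; exact hz
    have h2 : (𝔛.gInv h N).hom ((𝔛.toX N).base z) ∈ E := hl hz'
    rwa [e] at h2
  have hcompat : ∀ (i j : Fin k) (V : (𝔛.X N).affineOpens), V.1 ≤ (DN i).1 → V.1 ≤ (DN j).1 →
      (ℬ i).ideal V = (ℬ j).ideal V := fun i j V hi hj => by
    obtain ⟨O, hO, rfl⟩ := exists_affine_lvU_eq h N V
    exact ideal_eq_of_sect_eq h p hp hI _ _ hO ((hBJ i O (hle hi)).symm.trans (hBJ j O (hle hj)))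
  obtain ⟨G, hG⟩ := exists_glue_ideals DN (fun i => (ℬ i).ideal (DN i)) fun i j V hi hj => by
    erw [(ℬ i).map_ideal (U := V) (V := DN i) hi, (ℬ j).map_ideal (U := V) (V := DN j) hj]
    exact hcompat i j V hi hj
  refine ⟨N, G, fun V => ?_, FBlow.IdealSh.ext (funext fun U => ?_)⟩
  · refine FlatMorStrata.fg_of_cover G DN (top_le_iff.1 fun z _ => ?_) (fun i => hG i ▸ hBft i _) V
    obtain ⟨y, hy, hzy⟩ := Set.mem_iUnion₂.1 (hs (Set.mem_univ ((𝔛.gInv h N).hom z)))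
    exact Opens.mem_iSup.2 ⟨σ ⟨y, hy⟩, show (𝔛.gInv h N).hom z ∈ D (σ.symm (σ ⟨y, hy⟩)).1 by
      rw [σ.symm_apply_apply]; exact hzy⟩
  · have key : ∀ (i : Fin k) (O : (𝔛.X 0).Opens), O ≤ D (σ.symm i).1 →
        J.sect O = (FBlow.ofLevel 𝔛 h N G).sect O := fun i O hO => by
      refine sect_eq_of_affine h (U := D (σ.symm i).1) (fun E hE hEa => ?_) hO
      rw [hBJ i E hE, sect_eq_comap h (FBlow.ofLevel 𝔛 h N (ℬ i)) (U := ⊤) (fun _ _ => rfl) hEa le_top,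
        sect_eq_comap h (FBlow.ofLevel 𝔛 h N G) (U := ⊤) (fun _ _ => rfl) hEa le_top]
      have e1 : 𝔛.lvU h N E ≤ (DN i).1 := FBlow.lvU_mono 𝔛 h N hE
      rw [← (ℬ i).map_ideal (U := ⟨_, isAffineOpen_lvU h N hEa⟩) (V := DN i) e1,
        ← G.map_ideal (U := ⟨_, isAffineOpen_lvU h N hEa⟩) (V := DN i) e1, hG i]
    have hnb : ∀ z ∈ U, ∃ (i : Fin k) (O : (𝔛.X 0).Opens), O ≤ D (σ.symm i).1 ∧ O ≤ U ∧ z ∈ O := fun z hz => by
      obtain ⟨y, hy, hzy⟩ := Set.mem_iUnion₂.1 (hs (Set.mem_univ z))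
      refine ⟨σ ⟨y, hy⟩, U ⊓ D y, ?_, inf_le_left, hz, hzy⟩
      rw [σ.symm_apply_apply]; exact inf_le_right
    refine le_antisymm (fun a ha => (FBlow.ofLevel 𝔛 h N G).mem_of_local fun z hz => ?_)
      (fun a ha => J.mem_of_local fun z hz => ?_)
    · obtain ⟨i, O, hOi, hOU, hzO⟩ := hnb z hz
      exact ⟨O, hOU, hzO, (key i O hOi).le (J.map_mem hOU ha)⟩
    · obtain ⟨i, O, hOi, hOU, hzO⟩ := hnb z hz
      exact ⟨O, hOU, hzO, (key i O hOi).ge ((FBlow.ofLevel 𝔛 h N G).map_mem hOU ha)⟩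

include hp hI in
/-- Products of level data, at a high enough level. -/
theorem ofLevel_mul {n m L : ℕ} (hL : n + m + 1 ≤ L) {A : (𝔛.X n).IdealSheafData} {B : (𝔛.X m).IdealSheafData}
    {A' B' : (𝔛.X L).IdealSheafData} (eA : FBlow.ofLevel 𝔛 h L A' = FBlow.ofLevel 𝔛 h n A)
    (eB : FBlow.ofLevel 𝔛 h L B' = FBlow.ofLevel 𝔛 h m B) :
    FBlow.IdealSh.mul (FBlow.ofLevel 𝔛 h L A') (FBlow.ofLevel 𝔛 h L B') = FBlow.ofLevel 𝔛 h L (A' * B') := by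
  refine FBlow.IdealSh.ext (funext fun U => sect_eq_of_affine h (U := ⊤) (fun D _ hDa => ?_) le_top)
  have hd : ∀ (C : (𝔛.X L).IdealSheafData) {D' : (𝔛.X 0).Opens} (hD' : IsAffineOpen D'),
      (FBlow.ofLevel 𝔛 h L C).sect D' = (C.ideal ⟨_, isAffineOpen_lvU h L hD'⟩).comap (proj 𝔛 h L D') :=
    fun C {D'} hD' => sect_eq_comap h (FBlow.ofLevel 𝔛 h L C) (U := ⊤) (fun _ _ => rfl) hD' le_top
  obtain ⟨-, hpp, -⟩ := proj_props h p hDa hp hI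
  rw [hd (A' * B') hDa, Scheme.IdealSheafData.ideal_mul, Pi.mul_apply]
  refine le_antisymm (fun s hs => ?_) (fun s hs => ?_)
  · rw [Ideal.mem_comap]
    refine mem_ideal_of_memData (A' * B') ⟨_, isAffineOpen_lvU h L hDa⟩ fun z hz => ?_
    obtain ⟨W, i, hzW, hW⟩ := exists_mem_of_mem_mul h hs (show (𝔛.gInv h L).hom z ∈ D from hz)
    obtain ⟨D', hD', hzD', hle⟩ := exists_isAffineOpen_mem_and_subset (U := W) hzW
    have hD'D : D' ≤ D := le_trans hle i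
    refine ⟨⟨_, isAffineOpen_lvU h L hD'⟩, FBlow.lvU_mono 𝔛 h _ hD'D, hzD', ?_⟩
    have h1 := Ideal.mem_map_of_mem (res 𝔛 h hle) hW
    rw [Ideal.map_mul] at h1
    have h2 : res 𝔛 h hle (res 𝔛 h i s) ∈
        (FBlow.ofLevel 𝔛 h L A').sect D' * (FBlow.ofLevel 𝔛 h L B').sect D' :=
      Ideal.mul_mono
        (Ideal.map_le_iff_le_comap.2 (fun a ha => (FBlow.ofLevel 𝔛 h L A').map_mem hle ha :
          (FBlow.ofLevel 𝔛 h L A').sect W ≤ ((FBlow.ofLevel 𝔛 h L A').sect D').comap (res 𝔛 h hle)))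
        (Ideal.map_le_iff_le_comap.2 (fun a ha => (FBlow.ofLevel 𝔛 h L B').map_mem hle ha :
          (FBlow.ofLevel 𝔛 h L B').sect W ≤ ((FBlow.ofLevel 𝔛 h L B').sect D').comap (res 𝔛 h hle))) h1
    rw [hd A' hD', hd B' hD'] at h2
    have h3 := Ideal.mem_map_of_mem (proj 𝔛 h L D') h2
    rw [Ideal.map_mul] at h3
    have h4 := Ideal.mul_mono Ideal.map_comap_le Ideal.map_comap_le h3
    have e : res 𝔛 h hle (res 𝔛 h i s) = res 𝔛 h hD'D s := FBlow.IdealSh.map_comp_apply i hle s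
    rw [e, proj_res] at h4
    exact h4
  · have hle : (A'.ideal ⟨_, isAffineOpen_lvU h L hDa⟩ * B'.ideal ⟨_, isAffineOpen_lvU h L hDa⟩).comap
        (proj 𝔛 h L D) ≤ (FBlow.ofLevel 𝔛 h L A').sect D * (FBlow.ofLevel 𝔛 h L B').sect D := by
      have h1 : ∀ (a : Ideal Γ(𝔛.X L, 𝔛.lvU h L D)), (a.comap (proj 𝔛 h L D)).map (proj 𝔛 h L D) = a := fun a =>
        Ideal.map_comap_of_surjective _ (hpp _).1 a
      rw [← h1 (A'.ideal ⟨_, isAffineOpen_lvU h L hDa⟩), ← h1 (B'.ideal ⟨_, isAffineOpen_lvU h L hDa⟩),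
        ← hd A' hDa, ← hd B' hDa, ← Ideal.map_mul, Ideal.comap_map_of_surjective _ (hpp _).1,
        ← RingHom.ker_eq_comap_bot, (hpp _).2]
      refine sup_le le_rfl ?_
      refine (Ideal.map_mono (Ideal.pow_le_pow_right (show (n + 1) + (m + 1) ≤ L + 1 by omega))).trans ?_
      rw [pow_add, Ideal.map_mul]
      refine Ideal.mul_mono (Ideal.map_le_iff_le_comap.2 fun a ha => ?_) (Ideal.map_le_iff_le_comap.2 fun a ha => ?_)
      · rw [eA]; exact ker_le_sect h p hp hI _ (O := ⊤) (fun _ _ => rfl) hDa le_top le_rfl a ha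
      · rw [eB]; exact ker_le_sect h p hp hI _ (O := ⊤) (fun _ _ => rfl) hDa le_top le_rfl a ha
    exact Submodule.mul_induction_on (hle hs) (fun a ha b hb => mul_mem_mul h ha hb)
      fun a b ha hb => Ideal.add_mem _ ha hb

/-- Powers of an ideal sheaf. -/
noncomputable def idPow (J : FBlow.IdealSh (𝔛.Osh h)) : ℕ → FBlow.IdealSh (𝔛.Osh h)
  | 0 => FBlow.IdealSh.top _
  | k + 1 => FBlow.IdealSh.mul J (idPow J k)

theorem isInvertible_top : (FBlow.IdealSh.top (𝔛.Osh h)).IsInvertible := fun x => by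
  refine ⟨⊤, trivial, 1, trivial, fun V i => ⟨fun t ht => ?_, fun s _ => ⟨s, ?_⟩⟩⟩
  · rw [map_one, mul_one] at ht; exact ht
  · rw [map_one, mul_one]

theorem isInvertible_idPow {J : FBlow.IdealSh (𝔛.Osh h)} (hJ : J.IsInvertible) : ∀ k, (idPow h J k).IsInvertible
  | 0 => isInvertible_top h
  | k + 1 => isInvertible_mul h hJ (isInvertible_idPow hJ k)

include hp hI in
theorem idPow_eq_ofLevel {m : ℕ} {𝒥 : (𝔛.X m).IdealSheafData} (hm : FSch.IdealFT 𝒥) :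
    ∀ (k : ℕ) {L : ℕ}, k * (m + 1) ≤ L → ∀ {𝒥' : (𝔛.X L).IdealSheafData},
      FBlow.ofLevel 𝔛 h L 𝒥' = FBlow.ofLevel 𝔛 h m 𝒥 →
      idPow h (FBlow.ofLevel 𝔛 h m 𝒥) k = FBlow.ofLevel 𝔛 h L (𝒥' ^ k) := by
  intro k
  induction k with
  | zero =>
    intro L _ 𝒥' _
    rw [pow_zero]
    exact (ofLevel_top h L).symm
  | succ k ih =>
    intro L hL 𝒥' e
    rw [add_mul, one_mul] at hL
    have h1 := ih (L := L) (by omega) e
    change FBlow.IdealSh.mul _ (idPow h _ k) = _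
    rcases Nat.eq_zero_or_pos k with rfl | hk
    · rw [h1, ← e, pow_zero, zero_add, pow_one, show (1 : (𝔛.X L).IdealSheafData) = ⊤ from rfl, ofLevel_top]
      refine FBlow.IdealSh.ext (funext fun U => le_antisymm (fun s hs => ?_) (fun s hs => ?_))
      · refine (FBlow.ofLevel 𝔛 h L 𝒥').mem_of_local fun z hz => ?_
        obtain ⟨W, i, hzW, hW⟩ := exists_mem_of_mem_mul h hs hz
        exact ⟨W, i, hzW, Ideal.mul_le_left hW⟩
      · rw [← mul_one s]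
        exact mul_mem_mul h hs trivial
    · obtain ⟨𝒥₁, -, e₁⟩ := exists_ofLevel_raise h p hp hI m 𝒥 hm (k * (m + 1)) (Nat.le_mul_of_pos_left _ hk |>.trans' (Nat.le_succ m))
      have h2 := ih le_rfl e₁
      rw [h1] at h2 ⊢
      rw [← e, pow_succ']
      exact ofLevel_mul h p hp hI (n := m) (m := k * (m + 1)) (by omega) e h2

include hp hI in
/-- The ideal generated by an ideal of the base, at a high enough level. -/
theorem centre_eq_ofLevel (𝔞 : Ideal R) {L : ℕ} (hL : I ^ (L + 1) ≤ 𝔞) :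
    centre 𝔛 h (rS p) (rS_comm p) 𝔞 = FBlow.ofLevel 𝔛 h L ((FSch.idealSpec R 𝔞).comap (rS p L)) := by
  have key : ∀ {D : (𝔛.X 0).Opens} (hD : IsAffineOpen D),
      ((FSch.idealSpec R 𝔞).comap (rS p L)).ideal ⟨_, isAffineOpen_lvU h L hD⟩ =
        (𝔞.map (baseHom h p D)).map (proj 𝔛 h L D) := fun {D} hD => by
    rw [FSchLib.ideal_comap_eq_map (rS p L) _ ⟨_, isAffineOpen_lvU h L hD⟩ ⟨⊤, isAffineOpen_top _⟩ le_top,
      FSchLib.idealSpec_ideal_top, Ideal.map_map, Ideal.map_map]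
    refine congrArg (fun φ => Ideal.map φ 𝔞) (RingHom.ext fun a => ?_)
    exact (proj_pull 𝔛 h (rS p) (rS_comm p) (le_top : D ≤ rS p 0 ⁻¹ᵁ ⊤) L
      ((Scheme.ΓSpecIso (CommRingCat.of R)).inv a)).symm
  refine FBlow.IdealSh.ext (funext fun U => sect_eq_of_affine h (U := ⊤) (fun D _ hD => ?_) le_top)
  rw [sect_eq_comap h (FBlow.ofLevel 𝔛 h L _) (U := ⊤) (fun _ _ => rfl) hD le_top, key hD]
  refine le_antisymm ?_ ?_
  · intro s hs
    have hle : centre 𝔛 h (rS p) (rS_comm p) 𝔞 ≤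
        FBlow.ofLevel 𝔛 h L ((FSch.idealSpec R 𝔞).comap (rS p L)) := by
      refine centre_le _ _ _ _ _ fun V a ha => (FBlow.ofLevel 𝔛 h L _).mem_of_local fun z hz => ?_
      obtain ⟨E, hE, hzE, hEle⟩ := exists_isAffineOpen_mem_and_subset (U := V) hz
      refine ⟨E, hEle, hzE, ?_⟩
      refine (congrArg (· ∈ _) (res_rho 𝔛 h (rS p) (rS_comm p) (hEle : E ≤ V) a)).mpr ?_
      rw [ sect_eq_comap h (FBlow.ofLevel 𝔛 h L _) (U := ⊤) (fun _ _ => rfl) hE le_top, Ideal.mem_comap,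
        key hE]
      exact Ideal.mem_map_of_mem _ (Ideal.mem_map_of_mem _ ha)
    have h1 := hle D hs
    rw [sect_eq_comap h (FBlow.ofLevel 𝔛 h L _) (U := ⊤) (fun _ _ => rfl) hD le_top, key hD] at h1
    exact h1
  · rw [Ideal.comap_map_of_surjective _ ((proj_props h p hD hp hI).2.1 L).1, ← RingHom.ker_eq_comap_bot,
      ((proj_props h p hD hp hI).2.1 L).2, sup_le_iff]
    have h1 : ∀ {b : Ideal R}, b ≤ 𝔞 → b.map (baseHom h p D) ≤ (centre 𝔛 h (rS p) (rS_comm p) 𝔞).sect D :=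
      fun hb => Ideal.map_le_iff_le_comap.2 fun a ha => rho_mem_centre _ _ _ _ _ _ (hb ha)
    exact ⟨h1 le_rfl, h1 hL⟩

end Groth.Agent.FBlowLib
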