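import Groth.Agent.FBlowLib.LevelData
import Groth.Agent.FBlowLib.LocalModel
import Groth.Agent.FBlowLib.OnOpen
import Groth.Agent.BlowUpLib.Proper

/-!
# Admissible formal blow-ups are locally completions of blow-ups

`exists_localBlow`: near every point a given admissible formal blow-up is the completion of the blow-up of an
affine scheme; `isProper_level`, `compactSpace_source`, `quasiSeparatedSpace_source`.
-/

universe u

open CategoryTheory CategoryTheory.Limits TopologicalSpace Opposite AlgebraicGeometry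

namespace Groth.Agent.FBlowLib

variable {R : Type u} [CommRing R] {I : Ideal R} {𝔛 𝔛' : FSch.Sys.{u}} (h : 𝔛.IsFormal) (h' : 𝔛'.IsFormal)
  (p : 𝔛 ⟶ FSch.spf R I) (b : 𝔛' ⟶ 𝔛) (J : FBlow.IdealSh (𝔛.Osh h))

/-- A chart of `𝔛` with the blow-up over it presented as a completion. -/
structure LocalBlow where
  /-- the ring of the chart -/
  A : CommRingCat.{u}
  /-- the ideal of definition -/
  K : Ideal A
  hK : K.FG
  /-- the centre -/
  𝔞 : Ideal A
  h𝔞 : 𝔞.FG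
  bound : ∃ m, K ^ m ≤ 𝔞
  hF : (FSch.spf A K).IsFormal
  /-- the chart -/
  θ : FSch.spf A K ⟶ 𝔛
  θ_open : ∀ n, IsOpenImmersion ((θ : FSch.Hom _ 𝔛).app n)
  θ_adic : FSch.IsAdicHom θ
  centre_eq : FBlow.idealMap θ hF h J =
    centre (FSch.spf A K) hF (FSch.spfToSpec A K) (FSch.spfToSpec_comm A K) 𝔞
  /-- the blown up chart -/
  Z : FSch.Sys.{u}
  hZ : Z.IsFormal
  /-- the blow-up of the chart -/
  bA : Z ⟶ FSch.spf A K
  bA_adic : FSch.IsAdicHom bA
  /-- the inclusion in the blow-up -/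
  k : Z ⟶ 𝔛'
  k_open : ∀ n, IsOpenImmersion ((k : FSch.Hom Z 𝔛').app n)
  k_adic : FSch.IsAdicHom k
  comm : k ≫ b = bA ≫ θ
  range : ∀ n, Set.range ((k : FSch.Hom Z 𝔛').app n).base =
    ((b : FSch.Hom 𝔛' 𝔛).app n).base ⁻¹' Set.range ((θ : FSch.Hom _ 𝔛).app n).base
  /-- the scheme blow-up -/
  P : Scheme.{u}
  /-- its structure map -/
  q : P ⟶ Spec A
  hq : BlowUp.IsBlowUp q (FSch.idealSpec A 𝔞)
  /-- the completion maps -/
  a : ∀ n, Z.X n ⟶ P
  a_closed : ∀ n, IsClosedImmersion (a n)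
  ha : ∀ n, Z.ι n ≫ a (n + 1) = a n
  pull : ∀ n, IsPullback (a n) ((bA : FSch.Hom Z _).app n) q (FSch.spfToSpec A K n)

/-- Finitely generated ideals give finite type ideal data on `Spec`. -/
theorem idealSpec_ft {A : Type u} [CommRing A] {𝔞 : Ideal A} (h𝔞 : 𝔞.FG) :
    BlowUp.IsFiniteTypeIdeal (FSch.idealSpec A 𝔞) := fun U => by
  rw [← (FSch.idealSpec A 𝔞).map_ideal (U := U) (V := ⟨⊤, isAffineOpen_top _⟩) (show U.1 ≤ ⊤ from le_top),
    FSchLib.idealSpec_ideal_top, Ideal.map_map]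
  exact h𝔞.map _

theorem range_app_eq {𝔜 : FSch.Sys.{u}} (hY : 𝔜.IsFormal) (θ : 𝔜 ⟶ 𝔛) [∀ n, IsOpenImmersion ((θ : FSch.Hom 𝔜 𝔛).app n)]
    (n : ℕ) : Set.range ((θ : FSch.Hom 𝔜 𝔛).app n).base =
      (𝔛.lvU h n ((θ : FSch.Hom 𝔜 𝔛).app 0).opensRange : Set (𝔛.X n)) := by
  ext z
  constructor
  · rintro ⟨w, rfl⟩
    obtain ⟨w₀, rfl⟩ := 𝔜.toX_surjective hY n w
    refine ⟨w₀, ?_⟩
    have h1 := ConcreteCategory.congr_hom (congrArg (fun m => m.base) (FSch.Hom.toX_comm θ n)) w₀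
    exact (ConcreteCategory.congr_hom (𝔛.toX_base_gInv h n) _).symm.trans
      (congrArg (fun y => (𝔛.gInv h n).hom y) h1.symm)
  · rintro ⟨w, hw⟩
    refine ⟨(𝔜.toX n).base w, ?_⟩
    have h1 := ConcreteCategory.congr_hom (congrArg (fun m => m.base) (FSch.Hom.toX_comm θ n)) w
    refine h1.trans ?_
    change (𝔛.toX n).base (((θ : FSch.Hom 𝔜 𝔛).app 0).base w) = z
    rw [hw]
    exact ConcreteCategory.congr_hom (𝔛.gInv_toX_base h n) z

variable (hR : AdicRing.IsBase R I) (hp : FSch.IsAdicHom p)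
  (hfp : ∀ n, LocallyOfFinitePresentation ((p : FSch.Hom 𝔛 (FSch.spf R I)).app n))
  (htf : ∀ (U : (𝔛.X 0).Opens) (s : (𝔛.Osh h).obj.obj (Opposite.op U)),
    (∀ a ∈ (FBlow.IdealSh.ker (𝔛.OshProj h 0)).sect U, a * s = 0) → s = 0)
  (hJ : FBlow.IsCohOpen 𝔛 h J) (hb : FBlow.IsAdmBlowUp b h' h J)

include hR hp hfp htf hJ hb in
theorem exists_localBlow (x : 𝔛.X 0) : ∃ d : LocalBlow h b J, x ∈ Set.range ((d.θ : FSch.Hom _ 𝔛).app 0).base := by
  obtain ⟨A, iA, iRA, -, hF, θ, ho, hθ, hx, -, hcent⟩ := exists_localModel h p hR hp hfp htf J hJ x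
  obtain ⟨r, f, m, hm, hce⟩ := hcent
  let K := I.map (algebraMap R A)
  let 𝔞 : Ideal A := Ideal.span (Set.range f)
  have hk : K ^ m ≤ 𝔞 := (Ideal.map_pow _ _ _).symm.trans_le hm
  obtain ⟨P, q, hq⟩ := BlowUpLib.exists_isBlowUp (FSch.idealSpec A 𝔞)
  haveI : ∀ n, IsClosedImmersion (FSch.spfToSpec A K n) := fun n =>
    IsClosedImmersion.spec_of_surjective _ Ideal.Quotient.mk_surjective
  let ℨ : FSch.Sys.{u} :=
    { X := fun n => pullback q (FSch.spfToSpec A K n)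
      ι := fun n => pullback.map _ _ _ _ (𝟙 P) ((FSch.spf A K).ι n) (𝟙 _) (by simp)
        (by rw [Category.comp_id, FSch.spfToSpec_comm]) }
  let a : ∀ n, ℨ.X n ⟶ P := fun n => pullback.fst _ _
  haveI : ∀ n, IsClosedImmersion (a n) := fun n => inferInstanceAs (IsClosedImmersion (pullback.fst _ _))
  have ha : ∀ n, ℨ.ι n ≫ a (n + 1) = a n := fun n => (pullback.lift_fst _ _ _).trans (Category.comp_id _)
  have hker : ∀ n, (a n).ker = (FSch.idealSpec A K).comap q ^ (n + 1) := fun n => by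
    rw [FSchLib.ker_of_isPullback (IsPullback.of_hasPullback q (FSch.spfToSpec A K n)),
      show (FSch.spfToSpec A K n).ker = FSch.idealSpec A K ^ (n + 1) from FSchLib.ker_specQuot A K n,
      FSchLib.comap_pow]
  have hZ := (FSchLib.isFormal_isAdic_of_embedding a ha _ hker).1
  let bA : ℨ ⟶ FSch.spf A K := ⟨fun n => pullback.snd _ _, fun n => (pullback.lift_snd _ _ _).symm⟩
  have hbA := isAdmBlowUp_of_isBlowUp hF hZ bA K 𝔞 m hk q a ha hker (FSch.spfToSpec A K)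
    (FSch.spfToSpec_comm A K) (fun n => FSchLib.ker_specQuot A K n) (fun n => pullback.condition) hq
  rw [← hce] at hbA
  haveI := ho
  have hon := IsBlowUpOn.of_openImmersion (h := h) (J := J) hF hZ θ hθ bA hbA
  obtain ⟨k, hk', -⟩ := (isBlowUpOn_top hb).lift ℨ hZ (bA ≫ θ) hon.adic hon.inv (Set.subset_univ _)
  have hcmp := IsBlowUpOn.comparison (V := ⊤) le_top (isBlowUpOn_top hb) hon k hk'
  exact ⟨{
    A := CommRingCat.of A, K := K, hK := (ValTate.isBase_fg hR).map _, 𝔞 := 𝔞,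
    h𝔞 := ⟨(Set.finite_range f).toFinset, by rw [Set.Finite.coe_toFinset]⟩, bound := ⟨m, hk⟩, hF := hF,
    θ := θ, θ_open := ho, θ_adic := hθ, centre_eq := hce, Z := ℨ, hZ := hZ, bA := bA, bA_adic := hbA.1,
    k := k, k_open := fun n => (hcmp n).1, k_adic := isAdicHom_of_comp hb.1 (hk'.symm ▸ hon.adic), comm := hk',
    range := fun n => (hcmp n).2.trans (congrArg (((b : FSch.Hom 𝔛' 𝔛).app n).base ⁻¹' ·) (range_app_eq h hF θ n).symm),
    P := P, q := q, hq := hq, a := a, a_closed := inferInstance, ha := ha,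
    pull := fun n => IsPullback.of_hasPullback q (FSch.spfToSpec A K n) }, hx⟩

include hR hp hfp htf hJ hb in
/-- The levels of an admissible formal blow-up are proper. -/
theorem isProper_level (n : ℕ) : IsProper ((b : FSch.Hom 𝔛' 𝔛).app n) := by
  choose d hd using exists_localBlow h h' p b J hR hp hfp htf hJ hb
  haveI : ∀ x, IsOpenImmersion (((d x).θ : FSch.Hom _ 𝔛).app n) := fun x => (d x).θ_open n
  haveI : ∀ x m, IsOpenImmersion (((d x).θ : FSch.Hom _ 𝔛).app m) := fun x m => (d x).θ_open m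
  let 𝒰 : (𝔛.X n).OpenCover := Scheme.openCoverOfIsOpenCover (X := 𝔛.X n)
    (fun x : 𝔛.X 0 => (((d x).θ : FSch.Hom _ 𝔛).app n).opensRange)
    (eq_top_iff.mpr fun z _ => Opens.mem_iSup.mpr ⟨(𝔛.gInv h n).hom z, by
      change z ∈ Set.range _
      rw [range_app_eq h (d _).hF]
      exact hd _⟩)
  refine IsZariskiLocalAtTarget.of_openCover (P := @IsProper) 𝒰 fun x => ?_
  change IsProper (pullback.snd ((b : FSch.Hom 𝔛' 𝔛).app n) (𝒰.f x))
  haveI := (d x).k_open n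
  haveI : IsProper (d x).q := BlowUpLib.isProper_of_isBlowUp (d x).hq (idealSpec_ft (d x).h𝔞)
  haveI := (d x).θ_open n
  haveI hbAp : IsProper (((d x).bA : FSch.Hom _ _).app n) :=
    MorphismProperty.of_isPullback (P := @IsProper) ((d x).pull n) inferInstance
  have hsq : IsPullback (((d x).k : FSch.Hom _ 𝔛').app n) (((d x).bA : FSch.Hom _ _).app n)
      ((b : FSch.Hom 𝔛' 𝔛).app n) (((d x).θ : FSch.Hom _ 𝔛).app n) :=
    (IsOpenImmersion.isPullback (((d x).bA : FSch.Hom _ _).app n) (((d x).k : FSch.Hom _ 𝔛').app n)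
      (((d x).θ : FSch.Hom _ 𝔛).app n) ((b : FSch.Hom 𝔛' 𝔛).app n)
      (congrArg (fun m : (d x).Z ⟶ 𝔛 => (m : FSch.Hom _ _).app n) (d x).comm) (Opens.ext ((d x).range n).symm)).flip
  let e : (((d x).θ : FSch.Hom _ 𝔛).app n).opensRange.toScheme ≅ (FSch.spf (d x).A (d x).K).X n :=
    ((((d x).θ : FSch.Hom _ 𝔛).app n).isoOpensRange).symm
  have hfac : e.hom ≫ ((d x).θ : FSch.Hom _ 𝔛).app n = (((d x).θ : FSch.Hom _ 𝔛).app n).opensRange.ι :=
    Scheme.Hom.isoOpensRange_inv_comp _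
  have hsq' : IsPullback (((d x).k : FSch.Hom _ 𝔛').app n) (((d x).bA : FSch.Hom _ _).app n ≫ e.inv)
      ((b : FSch.Hom 𝔛' 𝔛).app n) (𝒰.f x) := by
    refine IsPullback.of_iso hsq (Iso.refl _) (Iso.refl _) e.symm (Iso.refl _) (by simp) (by simp) (by simp) ?_
    simp only [Iso.refl_hom, Category.comp_id, Iso.symm_hom]
    exact ((Iso.inv_comp_eq e).mpr hfac.symm).symm
  refine (MorphismProperty.cancel_left_of_respectsIso @IsProper hsq'.isoPullback.hom _).mp ?_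
  refine Eq.mpr (congrArg (fun m => IsProper m) hsq'.isoPullback_hom_snd) ?_
  exact MorphismProperty.comp_mem @IsProper _ e.inv hbAp (show IsProper e.inv from inferInstance)

end Groth.Agent.FBlowLib
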