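import Groth.Agent.FBlowLib.Func
import Groth.Agent.FSchLib.Restrict
import Mathlib.AlgebraicGeometry.RelativeGluing

/-!
# Locality for systems: covers of levels, invertibility, gluing of morphisms
-/

universe u

open CategoryTheory CategoryTheory.Limits TopologicalSpace Opposite AlgebraicGeometry

namespace Groth.Agent.FBlowLib

variable {𝔛 𝔜 ℨ : FSch.Sys.{u}} (h : 𝔛.IsFormal) (h' : 𝔜.IsFormal)

theorem isInvertible_of_local {J : FBlow.IdealSh (𝔛.Osh h)}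
    (H : ∀ x : 𝔛.X 0, ∃ (ℨ : FSch.Sys.{u}) (hZ : ℨ.IsFormal) (ι : ℨ ⟶ 𝔛),
      (∀ n, IsOpenImmersion ((ι : FSch.Hom ℨ 𝔛).app n)) ∧ x ∈ Set.range ((ι : FSch.Hom ℨ 𝔛).app 0).base ∧
      (FBlow.idealMap ι hZ h J).IsInvertible) : J.IsInvertible := by
  intro x
  obtain ⟨ℨ, hZ, ι, ho, ⟨z, rfl⟩, hinv⟩ := H x
  haveI := ho
  have hmem : ∀ (W : (𝔛.X 0).Opens), W ≤ ((ι : FSch.Hom ℨ 𝔛).app 0).opensRange → ∀ s : Sec 𝔛 h W,
      hpull h ι hZ (le_refl ((ι : FSch.Hom ℨ 𝔛).app 0 ⁻¹ᵁ W)) s ∈ (FBlow.idealMap ι hZ h J).sect _ →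
      s ∈ J.sect W := by
    intro W hW s hs
    refine J.mem_of_local fun y hy => ?_
    obtain ⟨w, rfl⟩ := hW hy
    obtain ⟨W', i, hwW', hW'⟩ := exists_mem_span_of_mem_idealMap h hZ ι J hs (show w ∈ _ from hy)
    let U : (𝔛.X 0).Opens := ((ι : FSch.Hom ℨ 𝔛).app 0) ''ᵁ W'
    have hUW : U ≤ W := by
      rintro _ ⟨v, hv, rfl⟩
      exact i hv
    have eU : W' ≤ (ι : FSch.Hom ℨ 𝔛).app 0 ⁻¹ᵁ U := fun v hv => ⟨v, hv, rfl⟩
    have hb := hpull_bijective h ι hZ (U := U) (Scheme.Hom.image_le_opensRange _ _) eU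
      (Scheme.Hom.preimage_image_eq _ W').le
    refine ⟨U, hUW, ⟨w, hwW', rfl⟩, ?_⟩
    change res 𝔛 h hUW s ∈ _
    have h1 : hpull h ι hZ eU (res 𝔛 h hUW s) ∈ (J.sect U).map (hpull h ι hZ eU) := by
      have h2 : hpull h ι hZ eU (res 𝔛 h hUW s) =
          res ℨ hZ i (hpull h ι hZ (le_refl ((ι : FSch.Hom ℨ 𝔛).app 0 ⁻¹ᵁ W)) s) := by
        rw [hpull_res, res_hpull]
      rw [h2]
      refine (Ideal.span_le.mpr ?_) hW'
      rintro _ ⟨U', e', a, ha, rfl⟩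
      have hUU' : U ≤ U' := by
        rintro _ ⟨v, hv, rfl⟩
        exact e' hv
      rw [← hpull_res h ι hZ hUU' eU]
      exact Ideal.mem_map_of_mem _ (J.map_mem hUU' ha)
    obtain ⟨t, ht, hts⟩ := (Ideal.mem_map_iff_of_surjective _ hb.2).mp h1
    exact hb.1 hts ▸ ht
  obtain ⟨U, hzU, g, hg, Hg⟩ := hinv z
  let V : (𝔛.X 0).Opens := ((ι : FSch.Hom ℨ 𝔛).app 0) ''ᵁ U
  have hpre : ∀ W : (𝔛.X 0).Opens, W ≤ V → (ι : FSch.Hom ℨ 𝔛).app 0 ⁻¹ᵁ W ≤ U := fun W hW v hv => by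
    obtain ⟨v', hv', hvv⟩ := hW hv
    rwa [← (((ι : FSch.Hom ℨ 𝔛).app 0).isOpenEmbedding.injective hvv)]
  have hr : ∀ W : (𝔛.X 0).Opens, W ≤ V → W ≤ ((ι : FSch.Hom ℨ 𝔛).app 0).opensRange := fun W hW =>
    hW.trans (Scheme.Hom.image_le_opensRange _ _)
  have hb : ∀ (W : (𝔛.X 0).Opens), W ≤ V →
      Function.Bijective (hpull h ι hZ (le_refl ((ι : FSch.Hom ℨ 𝔛).app 0 ⁻¹ᵁ W))) := fun W hW =>
    hpull_bijective h ι hZ (hr W hW) le_rfl le_rfl
  obtain ⟨s, hs⟩ := (hb V le_rfl).2 (res ℨ hZ (hpre V le_rfl) g)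
  refine ⟨V, ⟨z, hzU, rfl⟩, s, hmem V (hr V le_rfl) s ?_, fun W i => ?_⟩
  · rw [hs]
    exact (FBlow.idealMap ι hZ h J).map_mem _ hg
  have e : hpull h ι hZ (le_refl ((ι : FSch.Hom ℨ 𝔛).app 0 ⁻¹ᵁ W)) (res 𝔛 h i s) = res ℨ hZ (hpre W i) g := by
    rw [hpull_res, ← res_hpull h ι hZ (le_refl ((ι : FSch.Hom ℨ 𝔛).app 0 ⁻¹ᵁ V))
      (Scheme.Hom.preimage_mono ((ι : FSch.Hom ℨ 𝔛).app 0) i) s, hs]
    exact FBlow.IdealSh.map_comp_apply _ _ g
  refine ⟨fun t ht => (hb W i).1 ?_, fun t ht => ?_⟩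
  · rw [map_zero]
    refine (Hg _ (hpre W i)).1 _ ?_
    change _ * res ℨ hZ (hpre W i) g = 0
    rw [← e, ← map_mul]
    exact (congrArg _ ht).trans (map_zero _)
  · obtain ⟨c, hc⟩ := (Hg _ (hpre W i)).2 _ (hpull_mem_idealMap h hZ ι J ht (le_refl _))
    obtain ⟨c', rfl⟩ := (hb W i).2 c
    refine ⟨c', (hb W i).1 (hc.trans ?_)⟩
    rw [map_mul, e]

section DirCover

variable (S : Scheme.{u}) {B : Type u} [PartialOrder B] (W : B →o S.Opens) (hW : ∀ x, ∃ i, x ∈ W i)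

/-- The open cover by a monotone family of opens. -/
@[simps! I₀ X f]
noncomputable def dirCover : S.OpenCover :=
  S.openCoverOfIsOpenCover (fun i => W i) (eq_top_iff.mpr fun x _ => Opens.mem_iSup.mpr (hW x))

noncomputable instance : Category (dirCover S W hW).I₀ := inferInstanceAs (Category B)

instance : Quiver.IsThin (dirCover S W hW).I₀ := inferInstanceAs (Quiver.IsThin B)

instance : Small.{u} (dirCover S W hW).I₀ := inferInstanceAs (Small.{u} B)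

variable (hdir : ∀ i j, ∀ x ∈ W i ⊓ W j, ∃ k, k ≤ i ∧ k ≤ j ∧ x ∈ W k)

/-- A downward directed monotone family of opens gives a locally directed cover. -/
@[instance_reducible]
noncomputable def dirCoverLocallyDirected : (dirCover S W hW).LocallyDirected where
  trans {i j} hij := S.homOfLE (W.monotone (leOfHom hij))
  trans_id i := Scheme.homOfLE_rfl _ _
  trans_comp hij hjk := (Scheme.homOfLE_homOfLE _ _ _).symm
  w hij := Scheme.homOfLE_ι _ _
  directed {i j} x := by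
    let fi : (W i).toScheme ⟶ S := (W i).ι
    let fj : (W j).toScheme ⟶ S := (W j).ι
    let a := (pullback.fst fi fj).base x
    have hx : a.1 ∈ W j := by
      have h1 := ConcreteCategory.congr_hom (congrArg (fun m => m.base) (pullback.condition (f := fi) (g := fj))) x
      change (fi.base a) ∈ W j
      rw [show fi.base a = fj.base ((pullback.snd fi fj).base x) from h1]
      exact ((pullback.snd fi fj).base x).2
    obtain ⟨k, hki, hkj, hk⟩ := hdir i j a.1 ⟨a.2, hx⟩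
    refine ⟨k, @homOfLE B _ k i hki, @homOfLE B _ k j hkj, ⟨a.1, hk⟩, ?_⟩
    refine (pullback.fst fi fj).isOpenEmbedding.injective ?_
    refine (ConcreteCategory.congr_hom (congrArg (fun m => m.base)
      (pullback.lift_fst (f := fi) (g := fj) (S.homOfLE (W.monotone hki)) (S.homOfLE (W.monotone hkj))
        (by simp only [fi, fj]; rw [Scheme.homOfLE_ι, Scheme.homOfLE_ι]))) ⟨a.1, hk⟩).trans ?_
    apply Subtype.ext
    exact Scheme.homOfLE_apply ..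
  property_trans {i j} hij := inferInstanceAs (IsOpenImmersion (S.homOfLE (W.monotone (leOfHom hij))))

end DirCover

end Groth.Agent.FBlowLib
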