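import Groth.Agent.FBlowLib.Completion

/-!
# Open immersions of systems, loci where one element generates, formal spectra

`hpull_bijective`: levelwise open immersions induce isomorphisms on sections.  `IsLocGen.hpull`: a local
regular generator restricts to one along a levelwise open immersion.  `mem_eqLocus_iff`: the locus where
`𝔞` and a single element `c ∈ 𝔞` generate the same ideal.  `isLocGen_spf_top`: on `Spf B`.
-/

universe u

open CategoryTheory CategoryTheory.Limits TopologicalSpace Opposite AlgebraicGeometry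

namespace Groth.Agent.FBlowLib

theorem isIso_appLE_of_openImmersion {X Y : Scheme.{u}} (f : X ⟶ Y) [IsOpenImmersion f] {U : Y.Opens}
    {V : X.Opens} (hU : U ≤ f.opensRange) (e : V ≤ f ⁻¹ᵁ U) (e' : f ⁻¹ᵁ U ≤ V) :
    IsIso (f.appLE U V e) := by
  obtain rfl : V = f ⁻¹ᵁ U := le_antisymm e e'
  rw [← Scheme.Hom.app_eq_appLE]
  exact f.isIso_app U hU

section OpenImm

variable {𝔛 𝔜 : FSch.Sys.{u}} (h : 𝔛.IsFormal) (f : 𝔜 ⟶ 𝔛) (h' : 𝔜.IsFormal)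
  [∀ n, IsOpenImmersion ((f : FSch.Hom 𝔜 𝔛).app n)]

/-- Levelwise open immersions induce isomorphisms on sections over their image. -/
theorem hpull_bijective {U : (𝔛.X 0).Opens} {V : (𝔜.X 0).Opens}
    (hU : U ≤ ((f : FSch.Hom 𝔜 𝔛).app 0).opensRange) (e : V ≤ (f : FSch.Hom 𝔜 𝔛).app 0 ⁻¹ᵁ U)
    (e' : (f : FSch.Hom 𝔜 𝔛).app 0 ⁻¹ᵁ U ≤ V) : Function.Bijective (hpull h f h' e) := by
  have hiso : ∀ n, IsIso (((f : FSch.Hom 𝔜 𝔛).app n).appLE (𝔛.lvU h n U) (𝔜.lvU h' n V)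
      (lvU_le_hom h f h' e n)) := fun n => by
    refine isIso_appLE_of_openImmersion _ ?_ _
      ((FSch.Hom.lvU_preimage f h' h n U).le.trans (FBlow.lvU_mono 𝔜 h' n e'))
    intro z hz
    obtain ⟨w, hw⟩ := hU hz
    refine ⟨(𝔜.toX n).base w, ?_⟩
    have h1 := ConcreteCategory.congr_hom (congrArg (fun m => m.base) (FSch.Hom.toX_comm f n)) w
    refine h1.trans ?_
    change (𝔛.toX n).base (((f : FSch.Hom 𝔜 𝔛).app 0).base w) = z
    rw [hw]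
    exact ConcreteCategory.congr_hom (𝔛.gInv_toX_base h n) z
  have hb : ∀ n, Function.Bijective (((f : FSch.Hom 𝔜 𝔛).app n).appLE (𝔛.lvU h n U) (𝔜.lvU h' n V)
      (lvU_le_hom h f h' e n)) := fun n => by
    haveI := hiso n
    exact ConcreteCategory.bijective_of_isIso _
  refine ⟨fun s t hst => sec_ext 𝔛 h fun n => (hb n).1 ?_, fun t => ?_⟩
  · rw [← proj_hpull h f h' e n s, ← proj_hpull h f h' e n t, hst]
  · choose y hy using fun n => (hb n).2 (proj 𝔜 h' n V t)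
    obtain ⟨s, hs⟩ := exists_sec 𝔛 h y fun n => by
      refine (hb n).1 ?_
      rw [hy n, ← proj_succ 𝔜 h' n V t, ← hy (n + 1)]
      have e₃ : 𝔜.lvU h' n V ≤ ((f : FSch.Hom 𝔜 𝔛).app n ≫ 𝔛.ι n) ⁻¹ᵁ 𝔛.lvU h (n + 1) U :=
        (lvU_le_hom h f h' e n).trans (Scheme.Hom.preimage_mono _ (𝔛.lvU_le h n U))
      exact ConcreteCategory.congr_hom
        ((FSch.appLE_comp_appLE_of_eq _ _ _ rfl _ _ _ _ _ e₃).trans
          (FSch.appLE_comp_appLE_of_eq _ _ _ ((f : FSch.Hom 𝔜 𝔛).comm n).symm _ _ _ _ _ e₃).symm) (y (n + 1))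
    exact ⟨s, sec_ext 𝔜 h' fun n => by rw [proj_hpull, hs, hy]⟩

variable {A : Type u} [CommRing A] {r : ∀ n, 𝔛.X n ⟶ Spec (CommRingCat.of A)}
  {hr : ∀ n, 𝔛.ι n ≫ r (n + 1) = r n} (r' : ∀ n, 𝔜.X n ⟶ Spec (CommRingCat.of A))
  (hr' : ∀ n, 𝔜.ι n ≫ r' (n + 1) = r' n) (hf : ∀ n, (f : FSch.Hom 𝔜 𝔛).app n ≫ r n = r' n)
  {𝔞 : Ideal A}

include hf in
theorem IsLocGen.hpull {U : (𝔛.X 0).Opens} {g : Sec 𝔛 h U} (hg : IsLocGen 𝔛 h r hr 𝔞 U g)
    {V : (𝔜.X 0).Opens} (e : V ≤ (f : FSch.Hom 𝔜 𝔛).app 0 ⁻¹ᵁ U) :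
    IsLocGen 𝔜 h' r' hr' 𝔞 V (FBlowLib.hpull h f h' e g) where
  mem := by
    have := Ideal.mem_map_of_mem (FBlowLib.hpull h f h' e) hg.mem
    rw [Ideal.map_map] at this
    convert this using 3
    ext a
    exact (hpull_rho (hr := hr) h' f r' hr' hf e a).symm
  dvd a ha := by
    obtain ⟨t, ht⟩ := hg.dvd a ha
    exact ⟨FBlowLib.hpull h f h' e t, by rw [← map_mul, ← ht, hpull_rho h' f r' hr' hf e]⟩
  reg W i t ht := by
    let U' : (𝔛.X 0).Opens := ((f : FSch.Hom 𝔜 𝔛).app 0) ''ᵁ W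
    have hU'U : U' ≤ U := by
      rintro _ ⟨w, hw, rfl⟩
      exact e (i hw)
    have eW : W ≤ (f : FSch.Hom 𝔜 𝔛).app 0 ⁻¹ᵁ U' := fun w hw => ⟨w, hw, rfl⟩
    have eW' : (f : FSch.Hom 𝔜 𝔛).app 0 ⁻¹ᵁ U' ≤ W :=
      (Scheme.Hom.preimage_image_eq _ W).le
    have hb := hpull_bijective h f h' (U := U') (Scheme.Hom.image_le_opensRange _ _) eW eW'
    obtain ⟨s, rfl⟩ := hb.2 t
    have : s * FBlowLib.res 𝔛 h hU'U g = 0 := hb.1 (by
      rw [map_mul, map_zero, ← ht, hpull_res]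
      congr 1
      exact (res_hpull h f h' e i g).symm)
    rw [hg.reg U' hU'U s this, map_zero]

end OpenImm

section Locus

variable {A : Type u} [CommRing A] (𝔛 : FSch.Sys.{u}) (h : 𝔛.IsFormal)
  (r : ∀ n, 𝔛.X n ⟶ Spec (CommRingCat.of A)) (hr : ∀ n, 𝔛.ι n ≫ r (n + 1) = r n) (𝔞 : Ideal A)

/-- Replacing a generator by an associate. -/
theorem IsLocGen.of_isUnit_mul {V : (𝔛.X 0).Opens} {g u : Sec 𝔛 h V} (hg : IsLocGen 𝔛 h r hr 𝔞 V g)
    (hu : IsUnit u) : IsLocGen 𝔛 h r hr 𝔞 V (u * g) where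
  mem := Ideal.mul_mem_left _ _ hg.mem
  dvd a ha := by
    obtain ⟨t, ht⟩ := hg.dvd a ha
    exact ⟨t * ↑hu.unit⁻¹, by rw [ht, mul_assoc, ← mul_assoc (↑hu.unit⁻¹) u g, hu.val_inv_mul, one_mul]⟩
  reg W i t ht := by
    rw [map_mul, ← mul_assoc] at ht
    exact (hu.map (FBlowLib.res 𝔛 h i)).mul_left_eq_zero.mp (hg.reg W i _ ht)

variable {c : A} (hc : c ∈ 𝔞)

include hc in
/-- An element generating near every point generates. -/
theorem isLocGen_rho_of_local {U : (𝔛.X 0).Opens}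
    (H : ∀ x ∈ U, ∃ V : (𝔛.X 0).Opens, x ∈ V ∧ IsLocGen 𝔛 h r hr 𝔞 V (rho 𝔛 h r hr V c)) :
    IsLocGen 𝔛 h r hr 𝔞 U (rho 𝔛 h r hr U c) := by
  choose V hxV hV using H
  have hreg : ∀ (W : (𝔛.X 0).Opens) (i : W ≤ U) (t : Sec 𝔛 h W),
      t * res 𝔛 h i (rho 𝔛 h r hr U c) = 0 → t = 0 := fun W i t ht => by
    refine TopCat.Sheaf.eq_of_locally_eq' (𝔛.Osh h) (fun x : W => W ⊓ V x.1 (i x.2)) W
      (fun x => homOfLE inf_le_left) (fun x hx => Opens.mem_iSup.mpr ⟨⟨x, hx⟩, hx, hxV x (i hx)⟩) t 0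
      fun x => ?_
    rw [map_zero]
    refine (hV x.1 (i x.2)).reg (W ⊓ V x.1 (i x.2)) inf_le_right _ ?_
    rw [res_rho, ← res_rho 𝔛 h r hr (inf_le_left : W ⊓ V x.1 (i x.2) ≤ W)]
    rw [res_rho] at ht
    change res 𝔛 h _ t * res 𝔛 h _ _ = 0
    rw [← map_mul, ht, map_zero]
  refine ⟨Ideal.mem_map_of_mem _ hc, fun a ha => ?_, hreg⟩
  refine exists_eq_mul_of_local _ hreg _ fun x hx => ?_
  obtain ⟨t, ht⟩ := (hV x hx).dvd a ha
  refine ⟨U ⊓ V x hx, inf_le_left, ⟨hx, hxV x hx⟩, res 𝔛 h (inf_le_right : U ⊓ V x hx ≤ _) t, ?_⟩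
  change res 𝔛 h _ _ = _ * res 𝔛 h _ _
  rw [res_rho, res_rho, ← res_rho 𝔛 h r hr (inf_le_right : U ⊓ V x hx ≤ V x hx) a, ht, map_mul, res_rho]

include hc in
theorem mem_eqLocus_iff (hinv : (centre 𝔛 h r hr 𝔞).IsInvertible) (x : 𝔛.X 0) :
    (∃ V : (𝔛.X 0).Opens, x ∈ V ∧ ∀ V' : (𝔛.X 0).Opens, V' ≤ V →
        (centre 𝔛 h r hr 𝔞).sect V' = (centre 𝔛 h r hr (Ideal.span {c})).sect V') ↔
      ∃ V : (𝔛.X 0).Opens, x ∈ V ∧ IsLocGen 𝔛 h r hr 𝔞 V (rho 𝔛 h r hr V c) := by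
  constructor
  · rintro ⟨V, hxV, hV⟩
    obtain ⟨W, g, hxW, hg⟩ := (isInvertible_centre_iff 𝔛 h r hr 𝔞).mp hinv x
    have hg1 := (hg.res (inf_le_right : V ⊓ W ≤ W)).mem_centre
    rw [hV _ inf_le_left] at hg1
    obtain ⟨W', i, hxW', hW'⟩ :=
      exists_mem_span_of_mem_centre 𝔛 h r hr (Ideal.span {c}) hg1 (x := x) ⟨hxV, hxW⟩
    have hg2 := (hg.res (inf_le_right : V ⊓ W ≤ W)).res i
    rw [Ideal.map_span, Set.image_singleton] at hW'
    obtain ⟨t, ht⟩ := Ideal.mem_span_singleton'.mp hW'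
    obtain ⟨u, hu⟩ := hg2.dvd c hc
    have htu : t * u = 1 := sub_eq_zero.mp (hg2.reg W' le_rfl _ (by
      erw [FBlow.IdealSh.map_id_apply]
      rw [sub_mul, one_mul, mul_assoc, ← hu, ht, sub_self]))
    exact ⟨W', hxW', hu ▸ hg2.of_isUnit_mul _ _ _ _ _ (IsUnit.of_mul_eq_one _ (mul_comm t u ▸ htu))⟩
  · rintro ⟨V, hxV, hg⟩
    refine ⟨V, hxV, fun V' i => le_antisymm (fun s hs => ?_) ?_⟩
    · obtain ⟨t, rfl⟩ := hg.exists_eq_mul i hs
      rw [res_rho]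
      exact Ideal.mul_mem_left _ _ (rho_mem_centre 𝔛 h r hr _ V' (Ideal.mem_span_singleton_self c))
    · exact centre_le 𝔛 h r hr (Ideal.span {c}) (fun W a ha => rho_mem_centre 𝔛 h r hr 𝔞 W
        ((Ideal.span_singleton_le_iff_mem _).mpr hc ha)) V'

end Locus

section Spf

variable {A B : Type u} [CommRing A] [CommRing B] (φ : A →+* B) (J : Ideal B) (𝔞 : Ideal A) (g : B)
  (hB : (FSch.spf B J).IsFormal)
  (r : ∀ n, (FSch.spf B J).X n ⟶ Spec (CommRingCat.of A))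
  (hr : ∀ n, (FSch.spf B J).ι n ≫ r (n + 1) = r n)
  (hra : ∀ n, FSch.spfToSpec B J n ≫ Spec.map (CommRingCat.ofHom φ) = r n)

include hra in
theorem rho_eq_pull (W : ((FSch.spf B J).X 0).Opens) (a : A) :
    rho (FSch.spf B J) hB r hr W a =
      pull (FSch.spf B J) hB (FSch.spfToSpec B J) (FSch.spfToSpec_comm B J)
        (le_top : W ≤ FSch.spfToSpec B J 0 ⁻¹ᵁ ⊤) ((Scheme.ΓSpecIso (CommRingCat.of B)).inv (φ a)) := by
  have h1 := pull_comp (FSch.spf B J) hB (FSch.spfToSpec B J) (FSch.spfToSpec_comm B J)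
    (Spec.map (CommRingCat.ofHom φ)) r hr hra (W' := ⊤) (W := ⊤) (V := W) le_top le_top le_top
    ((Scheme.ΓSpecIso (CommRingCat.of A)).inv a)
  refine h1.symm.trans ?_
  congr 1
  have h2 : (Spec.map (CommRingCat.ofHom φ)).appLE ⊤ ⊤ le_top = (Spec.map (CommRingCat.ofHom φ)).appTop :=
    (Scheme.Hom.app_eq_appLE _).symm
  have h3 := ConcreteCategory.congr_hom (Scheme.ΓSpecIso_inv_naturality (CommRingCat.ofHom φ)) a
  rw [h2]
  exact h3.symm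

include hra in
theorem isLocGen_spf_top {c : A} (hc : c ∈ 𝔞) (hg : φ c ∈ nonZeroDivisors B) (k : ℕ)
    (hk : J ^ k ≤ Ideal.span {φ c}) (hgen : 𝔞.map φ ≤ Ideal.span {φ c}) (V : ((FSch.spf B J).X 0).Opens) :
    IsLocGen (FSch.spf B J) hB r hr 𝔞 V (rho (FSch.spf B J) hB r hr V c) := by
  refine ⟨Ideal.mem_map_of_mem _ hc, fun a ha => ?_, fun W i t ht => ?_⟩
  · obtain ⟨t, ht⟩ := Ideal.mem_span_singleton'.mp (hgen (Ideal.mem_map_of_mem φ ha))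
    refine ⟨pull (FSch.spf B J) hB (FSch.spfToSpec B J) (FSch.spfToSpec_comm B J) (W := ⊤) le_top
      ((Scheme.ΓSpecIso (CommRingCat.of B)).inv t), ?_⟩
    rw [rho_eq_pull φ J hB r hr hra, rho_eq_pull φ J hB r hr hra, ← map_mul, ← map_mul, ht]
  · haveI : ∀ n, IsClosedImmersion (FSch.spfToSpec B J n) := fun n =>
      IsClosedImmersion.spec_of_surjective _ Ideal.Quotient.mk_surjective
    rw [res_rho, rho_eq_pull φ J hB r hr hra] at ht
    refine eq_zero_of_mul_pull_eq_zero (FSch.spf B J) hB (FSch.spfToSpec B J) (FSch.spfToSpec_comm B J)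
      (FSch.idealSpec B J) (FSchLib.ker_specQuot B J) ⟨⊤, isAffineOpen_top _⟩
      ((Scheme.ΓSpecIso (CommRingCat.of B)).inv (φ c)) ?_ k ?_ le_top t ht
    · have hb := ConcreteCategory.bijective_of_isIso (Scheme.ΓSpecIso (CommRingCat.of B)).inv
      refine mem_nonZeroDivisors_iff_right.mpr fun s hs => ?_
      obtain ⟨s', rfl⟩ := hb.2 s
      rw [← map_mul] at hs
      rw [mem_nonZeroDivisors_iff_right.mp hg s' (hb.1 (hs.trans (map_zero _).symm)), map_zero]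
    · rw [FSchLib.idealSpec_ideal_top, ← Ideal.map_pow]
      refine (Ideal.map_mono hk).trans ?_
      rw [Ideal.map_span, Set.image_singleton]

end Spf

end Groth.Agent.FBlowLib
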