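import Groth.Agent.FBlowLib.ChartIso
import Mathlib.RingTheory.Finiteness.Basic

/-!
# A finite extension `A[g/c]` as a blow-up

`isBlowUp_specMap_of_fractions`: if `A → A'` is injective and finite, `φ c` is regular and `A'` is generated
by the fractions `φ (g i) / φ c`, then `Spec A' ⟶ Spec A` is the blow-up of `(c, g)`.
-/

universe u

open CategoryTheory CategoryTheory.Limits TopologicalSpace Opposite AlgebraicGeometry

namespace Groth.Agent.FBlowLib

variable {A A' : Type u} [CommRing A] [CommRing A'] [Algebra A A'] [Module.Finite A A'] {n : ℕ}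
  (c : A) (g : Fin n → A) (f : Fin n → A')
  (hinj : Function.Injective (algebraMap A A'))
  (hc : algebraMap A A' c ∈ nonZeroDivisors A') (hgen : Algebra.adjoin A (Set.range f) = ⊤)
  (hg : ∀ i, algebraMap A A' (g i) = algebraMap A A' c * f i)

include hg in
theorem map_span_insert_le :
    (Ideal.span (insert c (Set.range g))).map (algebraMap A A') ≤ Ideal.span {algebraMap A A' c} := by
  rw [Ideal.map_span, Ideal.span_le]
  rintro _ ⟨_, (rfl | ⟨i, rfl⟩), rfl⟩
  · exact Ideal.mem_span_singleton_self _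
  · exact Ideal.mem_span_singleton'.mpr ⟨f i, by rw [hg, mul_comm]⟩

include hinj hgen hg in
/-- `(c)` is a reduction of `(c, g)`. -/
theorem exists_pow_succ_le : ∃ N : ℕ, (Ideal.span (insert c (Set.range g))) ^ (N + 1) ≤
    Ideal.span {c} * (Ideal.span (insert c (Set.range g))) ^ N := by
  let 𝔞 := Ideal.span (insert c (Set.range g))
  let φ := algebraMap A A'
  let M : ℕ → Submodule A A' := fun m =>
    (Submodule.map (Algebra.linearMap A A') (𝔞 ^ m : Ideal A)).comap (LinearMap.mulLeft A (φ c ^ m))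
  have hM : ∀ {m : ℕ} {x : A'}, x ∈ M m ↔ ∃ a ∈ 𝔞 ^ m, φ a = φ c ^ m * x := fun {m x} => Iff.rfl
  have hmono : Monotone M := monotone_nat_of_le_succ fun m x hx => by
    obtain ⟨a, ha, hax⟩ := hM.mp hx
    exact hM.mpr ⟨c * a, by rw [pow_succ']; exact Ideal.mul_mem_mul (Ideal.subset_span (Set.mem_insert _ _)) ha,
      by rw [map_mul, hax, pow_succ', mul_assoc]⟩
  have hall : ∀ x : A', ∃ m, x ∈ M m := fun x => by
    induction (hgen ▸ Algebra.mem_top : x ∈ Algebra.adjoin A (Set.range f)) using Algebra.adjoin_induction with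
    | mem x hx =>
      obtain ⟨i, rfl⟩ := hx
      exact ⟨1, hM.mpr ⟨g i, by rw [pow_one]; exact Ideal.subset_span (Set.mem_insert_of_mem _ ⟨i, rfl⟩),
        by rw [pow_one]; exact hg i⟩⟩
    | algebraMap a => exact ⟨0, hM.mpr ⟨a, by simp, by rw [pow_zero, one_mul]⟩⟩
    | add x y _ _ hx hy =>
      obtain ⟨m₁, h₁⟩ := hx
      obtain ⟨m₂, h₂⟩ := hy
      exact ⟨max m₁ m₂, add_mem (hmono (le_max_left _ _) h₁) (hmono (le_max_right _ _) h₂)⟩
    | mul x y _ _ hx hy =>
      obtain ⟨m₁, h₁⟩ := hx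
      obtain ⟨m₂, h₂⟩ := hy
      obtain ⟨a, ha, hax⟩ := hM.mp h₁
      obtain ⟨b, hb, hby⟩ := hM.mp h₂
      exact ⟨m₁ + m₂, hM.mpr ⟨a * b, by rw [pow_add]; exact Ideal.mul_mem_mul ha hb,
        by rw [map_mul, hax, hby, pow_add]; ring⟩⟩
  obtain ⟨s, hs⟩ := (Module.Finite.fg_top : (⊤ : Submodule A A').FG)
  choose m hm using hall
  refine ⟨s.sup m, fun a ha => ?_⟩
  have htop : M (s.sup m) = ⊤ := top_le_iff.mp (hs ▸ Submodule.span_le.mpr fun x hx =>
    hmono (Finset.le_sup (Finset.mem_coe.mp hx)) (hm x))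
  have hmap : φ a ∈ Ideal.span {φ c ^ (s.sup m + 1)} := by
    rw [← Ideal.span_singleton_pow]
    refine Ideal.pow_right_mono (map_span_insert_le c g f hg) _ ?_
    rw [← Ideal.map_pow]
    exact Ideal.mem_map_of_mem _ ha
  obtain ⟨y, hy⟩ := Ideal.mem_span_singleton'.mp hmap
  obtain ⟨b, hb, hby⟩ := hM.mp (htop ▸ Submodule.mem_top : y ∈ M (s.sup m))
  refine Ideal.mem_span_singleton_mul.mpr ⟨b, hb, hinj ?_⟩
  rw [map_mul, hby, ← hy, pow_succ]
  ring

include hinj hgen hg in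
/-- Where `(c, g)` becomes generated by one regular element, so it is by `c`. -/
theorem regular_and_dvd_of_map_eq_span {B : Type u} [CommRing B] (ψ : A →+* B) {t : B}
    (ht : t ∈ nonZeroDivisors B) (hψ : (Ideal.span (insert c (Set.range g))).map ψ = Ideal.span {t}) :
    ψ c ∈ nonZeroDivisors B ∧ ∀ i, ∃ w, ψ (g i) = w * ψ c := by
  obtain ⟨N, hN⟩ := exists_pow_succ_le c g f hinj hgen hg
  have h1 : t ^ (N + 1) ∈ Ideal.span {ψ c} * Ideal.span {t ^ N} := by
    have h0 := Ideal.map_mono (f := ψ) hN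
    rw [Ideal.map_pow, hψ, Ideal.map_mul, Ideal.map_pow, hψ, Ideal.map_span, Set.image_singleton,
      Ideal.span_singleton_pow, Ideal.span_singleton_pow] at h0
    exact h0 (Ideal.mem_span_singleton_self _)
  rw [Ideal.span_singleton_mul_span_singleton] at h1
  obtain ⟨v, hv⟩ := Ideal.mem_span_singleton'.mp h1
  have htv : t = v * ψ c := sub_eq_zero.mp ((mem_nonZeroDivisors_iff_right.mp (pow_mem ht N)) _ (by
    rw [sub_mul, ← pow_succ', ← hv]; ring))
  refine ⟨mem_nonZeroDivisors_iff_right.mpr fun x hx => ?_, fun i => ?_⟩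
  · refine mem_nonZeroDivisors_iff_right.mp ht x ?_
    rw [htv, mul_left_comm, hx, mul_zero]
  · obtain ⟨w, hw⟩ := Ideal.mem_span_singleton'.mp (hψ ▸ Ideal.mem_map_of_mem ψ
      (Ideal.subset_span (Set.mem_insert_of_mem c (Set.mem_range_self i))))
    exact ⟨w * v, by rw [mul_assoc, ← htv, hw]⟩

include hc hgen hg in
/-- Ring maps out of `A'`. -/
theorem exists_ringHom {B : Type u} [CommRing B] (ψ : A →+* B) (hψc : ψ c ∈ nonZeroDivisors B)
    (w : Fin n → B) (hw : ∀ i, ψ (g i) = w i * ψ c) (hinj : Function.Injective (algebraMap A A')) :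
    ∃ χ : A' →+* B, χ.comp (algebraMap A A') = ψ := by
  let π : MvPolynomial (Fin n) A →ₐ[A] A' := MvPolynomial.aeval f
  have hsurj : Function.Surjective π := by
    rw [← AlgHom.range_eq_top, ← hgen, Algebra.adjoin_range_eq_range_aeval]
  let ev : MvPolynomial (Fin n) A →+* B := MvPolynomial.eval₂Hom ψ w
  have hclear : ∀ p : MvPolynomial (Fin n) A, ∃ (d : ℕ) (a : A),
      algebraMap A A' a = algebraMap A A' c ^ d * π p ∧ ψ a = ψ c ^ d * ev p := fun p => by
    induction p using MvPolynomial.induction_on with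
    | C a => exact ⟨0, a, by simp [π], by simp [ev]⟩
    | add p q hp hq =>
      obtain ⟨d, a, h1, h2⟩ := hp
      obtain ⟨e, b, h3, h4⟩ := hq
      exact ⟨d + e, c ^ e * a + c ^ d * b, by simp only [map_add, map_mul, map_pow, h1, h3]; ring,
        by simp only [map_add, map_mul, map_pow, h2, h4]; ring⟩
    | mul_X p i hp =>
      obtain ⟨d, a, h1, h2⟩ := hp
      exact ⟨d + 1, a * g i, by simp only [π, map_mul, MvPolynomial.aeval_X, hg] at h1 ⊢; rw [h1]; ring,
        by simp only [ev, map_mul, MvPolynomial.eval₂Hom_X', hw] at h2 ⊢; rw [h2]; ring⟩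
  have hker : RingHom.ker π.toRingHom ≤ RingHom.ker ev := fun p hp => by
    obtain ⟨d, a, h1, h2⟩ := hclear p
    have h0 : π p = 0 := hp
    rw [h0, mul_zero, ← map_zero (algebraMap A A')] at h1
    rw [hinj h1, map_zero] at h2
    exact (mem_nonZeroDivisors_iff_left.mp (pow_mem hψc d)) _ h2.symm
  refine ⟨RingHom.liftOfSurjective π.toRingHom hsurj ⟨ev, hker⟩, RingHom.ext fun a => ?_⟩
  have h1 : π.toRingHom (MvPolynomial.C a) = algebraMap A A' a := MvPolynomial.aeval_C f a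
  rw [RingHom.comp_apply, ← h1]
  refine (RingHom.liftOfRightInverse_comp_apply _ _ _ ⟨ev, hker⟩ (MvPolynomial.C a)).trans ?_
  exact MvPolynomial.eval₂Hom_C _ _ a

include hgen hg in
theorem ringHom_ext_of_regular {B : Type u} [CommRing B] {χ χ' : A' →+* B}
    (h : χ.comp (algebraMap A A') = χ'.comp (algebraMap A A'))
    (hψc : χ (algebraMap A A' c) ∈ nonZeroDivisors B) : χ = χ' := by
  refine RingHom.ext fun x => ?_
  induction (hgen ▸ Algebra.mem_top : x ∈ Algebra.adjoin A (Set.range f)) using Algebra.adjoin_induction with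
  | mem x hx =>
    obtain ⟨i, rfl⟩ := hx
    have h1 := RingHom.congr_fun h (g i)
    simp only [RingHom.comp_apply, hg, map_mul] at h1
    have h2 : χ' (algebraMap A A' c) = χ (algebraMap A A' c) := (RingHom.congr_fun h c).symm
    rw [h2] at h1
    exact sub_eq_zero.mp (mem_nonZeroDivisors_iff_left.mp hψc _ (by rw [mul_sub, h1, sub_self]))
  | algebraMap a => exact RingHom.congr_fun h a
  | add x y _ _ hx hy => rw [map_add, map_add, hx, hy]
  | mul x y _ _ hx hy => rw [map_mul, map_mul, hx, hy]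

include hinj hc hgen hg in
/-- `Spec A' ⟶ Spec A` is the blow-up of `(c, g)`. -/
theorem isBlowUp_specMap_of_fractions :
    BlowUp.IsBlowUp (Spec.map (CommRingCat.ofHom (algebraMap A A')))
      (FSch.idealSpec A (Ideal.span (insert c (Set.range g)))) := by
  let φ := algebraMap A A'
  let 𝔞 := Ideal.span (insert c (Set.range g))
  have hspan : 𝔞.map φ = Ideal.span {φ c} := le_antisymm (map_span_insert_le c g f hg)
    ((Ideal.span_singleton_le_iff_mem _).mpr (Ideal.mem_map_of_mem _ (Ideal.subset_span (Set.mem_insert _ _))))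
  refine ⟨fun x => ⟨⟨⊤, isAffineOpen_top _⟩, trivial, (Scheme.ΓSpecIso (CommRingCat.of A')).inv (φ c), ?_, ?_⟩, ?_⟩
  · have hb := ConcreteCategory.bijective_of_isIso (Scheme.ΓSpecIso (CommRingCat.of A')).inv
    refine mem_nonZeroDivisors_iff_right.mpr fun t ht => ?_
    obtain ⟨t', rfl⟩ := hb.2 t
    rw [← map_mul] at ht
    rw [mem_nonZeroDivisors_iff_right.mp hc t' (hb.1 (ht.trans (map_zero _).symm)), map_zero]
  · rw [FSchLib.idealSpec_comap, hspan, FSchLib.idealSpec_ideal_top, Ideal.map_span, Set.image_singleton]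
  intro Y G hG
  let γ := (Scheme.ΓSpecIso (CommRingCat.of A)).inv
  let Ψ : A →+* Γ(Y, ⊤) := (γ ≫ G.appTop).hom
  have hloc : ∀ y : Y, ∃ W : Y.affineOpens, y ∈ W.1 ∧
      ∀ D : Y.affineOpens, D.1 ≤ W.1 → (∃ h : Γ(Y, W.1), D.1 = Y.basicOpen h) →
        Y.presheaf.map (homOfLE le_top).op (Ψ c) ∈ nonZeroDivisors Γ(Y, D.1) ∧
          ∀ i, ∃ w, Y.presheaf.map (homOfLE (le_top : D.1 ≤ ⊤)).op (Ψ (g i)) =
            w * Y.presheaf.map (homOfLE le_top).op (Ψ c) := fun y => by
    obtain ⟨W, hyW, t, ht, htW⟩ := hG y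
    refine ⟨W, hyW, fun D hDW hD => ?_⟩
    obtain ⟨h₀, hh⟩ := hD
    let ψD : A →+* Γ(Y, D.1) := (γ ≫ G.appLE ⊤ D.1 le_top).hom
    have hψD : ∀ a, ψD a = Y.presheaf.map (homOfLE le_top).op (Ψ a) := fun a => by
      change (γ ≫ G.appLE ⊤ D.1 le_top) a = (γ ≫ G.appTop ≫ Y.presheaf.map _) a
      rfl
    have hideal : 𝔞.map ψD = Ideal.span {Y.presheaf.map (homOfLE hDW).op t} := by
      have h0 := FSchLib.ideal_comap_eq_map G (FSch.idealSpec A 𝔞) D ⟨⊤, isAffineOpen_top _⟩ le_top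
      rw [FSchLib.idealSpec_ideal_top, Ideal.map_map,
        ← Scheme.IdealSheafData.map_ideal _ (U := D) (V := W) hDW, htW, Ideal.map_span, Set.image_singleton] at h0
      exact h0.symm
    have hreg : Y.presheaf.map (homOfLE hDW).op t ∈ nonZeroDivisors Γ(Y, D.1) := by
      obtain ⟨D, hD'⟩ := D
      change D = _ at hh
      subst hh
      exact mem_nonZeroDivisors_iff_right.mpr fun x hx => regular_map_basicOpen W.2 h₀ ht x hx
    obtain ⟨h1, h2⟩ := regular_and_dvd_of_map_eq_span c g f hinj hgen hg ψD hreg hideal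
    refine ⟨by rw [← hψD]; exact h1, fun i => ?_⟩
    obtain ⟨w, hw⟩ := h2 i
    exact ⟨w, by rw [← hψD, ← hψD]; exact hw⟩
  have hreg : ∀ (U : Y.Opens) (s : Γ(Y, U)),
      s * Y.presheaf.map (homOfLE (le_top : U ≤ ⊤)).op (Ψ c) = 0 → s = 0 := fun U s hs => by
    have hloc' : ∀ y ∈ U, ∃ (D : Y.Opens) (i : D ≤ U), y ∈ D ∧ Y.presheaf.map (homOfLE i).op s = 0 := by
      intro y hy
      obtain ⟨W, hyW, hW⟩ := hloc y
      obtain ⟨h₀, hle, hyh⟩ := W.2.exists_basicOpen_le (V := U ⊓ W.1) ⟨y, hy, hyW⟩ hyW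
      refine ⟨Y.basicOpen h₀, hle.trans inf_le_left, hyh, ?_⟩
      refine mem_nonZeroDivisors_iff_right.mp (hW (Y.affineBasicOpen h₀) (Y.basicOpen_le h₀) ⟨h₀, rfl⟩).1 _ ?_
      have h3 := congrArg (Y.presheaf.map (homOfLE (hle.trans inf_le_left)).op) hs
      rw [map_mul, FBlow.sch_map_comp_apply, map_zero] at h3
      exact h3
    choose D i hyD hD using hloc'
    refine TopCat.Sheaf.eq_of_locally_eq' Y.sheaf (fun y : U => D y.1 y.2) U (fun y => homOfLE (i y.1 y.2))
      (fun y hy => Opens.mem_iSup.mpr ⟨⟨y, hy⟩, hyD y hy⟩) s 0 fun y => ?_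
    exact (hD y.1 y.2).trans (map_zero (Y.presheaf.map (homOfLE (i y.1 y.2)).op).hom).symm
  have hnzd : Ψ c ∈ nonZeroDivisors Γ(Y, ⊤) := mem_nonZeroDivisors_iff_right.mpr fun s hs =>
    hreg ⊤ s (by rw [← hs]; congr 1; exact FBlow.IdealSh.map_id_apply (O := Y.sheaf) le_rfl _)
  have hdvd : ∀ i, ∃ w, Ψ (g i) = w * Ψ c := fun i => by
    refine exists_eq_mul_of_local (O := Y.sheaf) (Ψ c) (fun W j s hs => hreg W s hs) (Ψ (g i)) fun y _ => ?_
    obtain ⟨W, hyW, hW⟩ := hloc y
    have hb : W.1 = Y.basicOpen (1 : Γ(Y, W.1)) := (Y.basicOpen_of_isUnit isUnit_one).symm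
    obtain ⟨w, hw⟩ := (hW W le_rfl ⟨1, hb⟩).2 i
    exact ⟨W.1, le_top, hyW, w, hw⟩
  choose w hw using hdvd
  obtain ⟨χ, hχ⟩ := exists_ringHom c g f hc hgen hg Ψ hnzd w hw hinj
  have key : ∀ t : Y ⟶ Spec (CommRingCat.of A'),
      t ≫ Spec.map (CommRingCat.ofHom φ) = G ↔
        ((Scheme.ΓSpecIso (CommRingCat.of A')).inv ≫ t.appTop).hom.comp φ = Ψ := fun t => by
    have h0 : ((Scheme.ΓSpecIso (CommRingCat.of A')).inv ≫ t.appTop).hom.comp φ =
        (γ ≫ (t ≫ Spec.map (CommRingCat.ofHom φ)).appTop).hom := by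
      rw [Scheme.Hom.comp_appTop, ← Category.assoc γ, ← Scheme.ΓSpecIso_inv_naturality]
      rfl
    refine ⟨fun h => by rw [h0, h], fun h => ext_of_isAffine ?_⟩
    rw [← cancel_epi γ]
    exact CommRingCat.hom_ext (h0.symm.trans h)
  refine ⟨Y.toSpecΓ ≫ Spec.map (CommRingCat.ofHom χ), (key _).mpr ?_, fun t ht => ?_⟩
  · rw [Scheme.Hom.comp_appTop, ← Category.assoc, ← Scheme.ΓSpecIso_inv_naturality, Category.assoc,
      Scheme.toSpecΓ_appTop, Iso.inv_hom_id, Category.comp_id]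
    exact hχ
  · refine ext_of_isAffine ((cancel_epi (Scheme.ΓSpecIso (CommRingCat.of A')).inv).mp (CommRingCat.hom_ext ?_))
    have h1 : ((Scheme.ΓSpecIso (CommRingCat.of A')).inv ≫
        (Y.toSpecΓ ≫ Spec.map (CommRingCat.ofHom χ)).appTop).hom = χ := by
      rw [Scheme.Hom.comp_appTop, ← Category.assoc, ← Scheme.ΓSpecIso_inv_naturality, Category.assoc,
        Scheme.toSpecΓ_appTop, Iso.inv_hom_id, Category.comp_id]
      rfl
    rw [h1]
    refine ringHom_ext_of_regular c g f hgen hg (((key t).mp ht).trans hχ.symm) ?_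
    exact (RingHom.congr_fun ((key t).mp ht) c).symm ▸ hnzd

include hinj hc hgen hg in
/-- `Spf A' ⟶ Spf A` is the admissible formal blow-up of `(c, g)`. -/
theorem isAdmBlowUp_spfMap_of_fractions (J : Ideal A) (J' : Ideal A') (hJ : J.map (algebraMap A A') = J')
    (m : ℕ) (hk : J ^ m ≤ Ideal.span (insert c (Set.range g)))
    (hle : J ≤ J'.comap (algebraMap A A'))
    (hX : (FSch.spf A J).IsFormal) (h' : (FSch.spf A' J').IsFormal) :
    FBlow.IsAdmBlowUp (FSch.spfMap J' J (algebraMap A A') hle) h' hX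
      (FBlow.schIdealMap (FSch.spf A J) hX (FSch.spfToSpec A J) (FSch.spfToSpec_comm A J)
        (FBlow.IdealSh.ofData (FSch.idealSpec A (Ideal.span (insert c (Set.range g)))))) := by
  haveI : ∀ n, IsClosedImmersion (FSch.spfToSpec A' J' n) := fun n =>
    IsClosedImmersion.spec_of_surjective _ Ideal.Quotient.mk_surjective
  haveI : ∀ n, IsClosedImmersion (FSch.spfToSpec A J n) := fun n =>
    IsClosedImmersion.spec_of_surjective _ Ideal.Quotient.mk_surjective
  exact isAdmBlowUp_of_isBlowUp hX h' (FSch.spfMap J' J (algebraMap A A') hle) J _ m hk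
    (Spec.map (CommRingCat.ofHom (algebraMap A A')))
    (FSch.spfToSpec A' J') (FSch.spfToSpec_comm A' J')
    (fun k => by
      refine (FSchLib.ker_specQuot A' J' k).trans ?_
      rw [FSchLib.idealSpec_comap, hJ])
    (FSch.spfToSpec A J) (FSch.spfToSpec_comm A J)
    (fun k => FSchLib.ker_specQuot A J k)
    (spfToSpec_comp_specMap J J' _ hle) (isBlowUp_specMap_of_fractions c g f hinj hc hgen hg)

end Groth.Agent.FBlowLib
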