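import Groth.Agent.FBlowLib.Ideals
import Mathlib.RingTheory.Localization.Away.Basic

/-!
# Regular sections on a completion

If `f` is a regular section on an affine open `W` of a scheme `P` and `𝓚(W)^k ⊆ (f)`, then `f` stays
regular in the structure sheaf of the system of the closed subschemes `V(𝓚^(n+1))` over `W`.
-/

universe u

open CategoryTheory CategoryTheory.Limits TopologicalSpace Opposite AlgebraicGeometry

namespace Groth.Agent.FBlowLib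

variable {P : Scheme.{u}}

theorem regular_map_basicOpen {W : P.Opens} (hW : IsAffineOpen W) (g : Γ(P, W)) {f : Γ(P, W)}
    (hf : f ∈ nonZeroDivisors Γ(P, W)) (x : Γ(P, P.basicOpen g))
    (hx : x * P.presheaf.map (homOfLE (P.basicOpen_le g)).op f = 0) : x = 0 := by
  algebraize [(P.presheaf.map (homOfLE (P.basicOpen_le g)).op).hom]
  have := hW.isLocalization_basicOpen g
  obtain ⟨⟨b, s⟩, hb⟩ := IsLocalization.surj (Submonoid.powers g) x
  have h2 : algebraMap Γ(P, W) Γ(P, P.basicOpen g) (b * f) = 0 := by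
    rw [map_mul, ← hb, mul_right_comm]
    change x * P.presheaf.map (homOfLE (P.basicOpen_le g)).op f * _ = 0
    rw [hx, zero_mul]
  obtain ⟨c, hc⟩ := (IsLocalization.map_eq_zero_iff (Submonoid.powers g) _ _).mp h2
  have h3 : (c : Γ(P, W)) * b = 0 := (mem_nonZeroDivisors_iff_right.mp hf) _ (by rw [mul_assoc, hc])
  have h4 : algebraMap Γ(P, W) Γ(P, P.basicOpen g) b = 0 :=
    (IsLocalization.map_eq_zero_iff (Submonoid.powers g) _ _).mpr ⟨c, h3⟩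
  rw [h4] at hb
  exact (IsLocalization.map_units _ s).mul_left_eq_zero.mp hb

variable (𝔛 : FSch.Sys.{u}) (h : 𝔛.IsFormal) (a : ∀ n, 𝔛.X n ⟶ P)
  (ha : ∀ n, 𝔛.ι n ≫ a (n + 1) = a n)

include ha in
theorem exists_trans (n : ℕ) : ∀ k, ∃ t : 𝔛.X n ⟶ 𝔛.X (n + k), t ≫ a (n + k) = a n ∧
    ∀ U : (𝔛.X 0).Opens, ∃ e : 𝔛.lvU h n U ≤ t ⁻¹ᵁ 𝔛.lvU h (n + k) U,
      ∀ s : Sec 𝔛 h U, t.appLE _ _ e (proj 𝔛 h (n + k) U s) = proj 𝔛 h n U s
  | 0 => ⟨𝟙 _, Category.id_comp _, fun U => ⟨le_rfl, fun s => by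
      simp [Scheme.Hom.appLE]; exact FBlow.IdealSh.map_id_apply (O := (𝔛.X n).sheaf) le_rfl _⟩⟩
  | k + 1 => by
    obtain ⟨t, ht, hU⟩ := exists_trans n k
    refine ⟨t ≫ 𝔛.ι (n + k), by rw [Category.assoc]; exact (congrArg (t ≫ ·) (ha (n + k))).trans ht,
      fun U => ?_⟩
    obtain ⟨e, he⟩ := hU U
    have e' : 𝔛.lvU h n U ≤ (t ≫ 𝔛.ι (n + k)) ⁻¹ᵁ 𝔛.lvU h (n + (k + 1)) U :=
      e.trans (Scheme.Hom.preimage_mono t (𝔛.lvU_le h (n + k) U))
    refine ⟨e', fun s => ?_⟩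
    change (t ≫ 𝔛.ι (n + k)).appLE (𝔛.lvU h (n + k + 1) U) (𝔛.lvU h n U) e'
      (proj 𝔛 h (n + k + 1) U s) = _
    rw [← Scheme.Hom.appLE_comp_appLE t (𝔛.ι (n + k)) _ _ _ (𝔛.lvU_le h (n + k) U) e,
      CommRingCat.comp_apply]
    exact (congrArg _ (proj_succ 𝔛 h (n + k) U s)).trans (he s)

variable (𝓚 : P.IdealSheafData) [∀ n, IsClosedImmersion (a n)] (hker : ∀ n, (a n).ker = 𝓚 ^ (n + 1))

include hker in
/-- A regular section `f` with `𝓚(W)^k ⊆ (f)` stays regular on the completion. -/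
theorem eq_zero_of_mul_pull_eq_zero (W : P.affineOpens) (f : Γ(P, W.1))
    (hf : f ∈ nonZeroDivisors Γ(P, W.1)) (k : ℕ) (hk : 𝓚.ideal W ^ k ≤ Ideal.span {f})
    {V : (𝔛.X 0).Opens} (e : V ≤ a 0 ⁻¹ᵁ W.1) (s : Sec 𝔛 h V)
    (hs : s * pull 𝔛 h a ha e f = 0) : s = 0 := by
  refine sec_ext 𝔛 h fun n => ?_
  rw [map_zero]
  obtain ⟨t, ht, hU⟩ := exists_trans 𝔛 h a ha n k
  obtain ⟨et, hts⟩ := hU V
  have hs' := congrArg (proj 𝔛 h (n + k) V) hs
  rw [map_mul, proj_pull, map_zero] at hs'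
  have hlocal : ∀ z ∈ 𝔛.lvU h n V, ∃ (O : (𝔛.X n).Opens) (i : O ≤ 𝔛.lvU h n V), z ∈ O ∧
      (𝔛.X n).presheaf.map (homOfLE i).op (proj 𝔛 h n V s) = 0 := by
    intro z hz
    obtain ⟨O', hO', hO''⟩ :=
      (a (n + k)).isClosedEmbedding.isEmbedding.isInducing.isOpen_iff.mp (𝔛.lvU h (n + k) V).isOpen
    have hzW : (a n).base z ∈ W.1 := lvU_le_preimage 𝔛 h a ha e n hz
    have hzO : (a n).base z ∈ O' := by
      have h1 : (t.base z) ∈ (𝔛.lvU h (n + k) V : Set _) := et hz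
      rw [← hO''] at h1
      rw [← ht]
      exact h1
    obtain ⟨g, hg, hzg⟩ := W.2.exists_basicOpen_le (V := ⟨O', hO'⟩ ⊓ W.1) ⟨(a n).base z, ⟨hzO, hzW⟩⟩ hzW
    let D : P.affineOpens := P.affineBasicOpen g
    have hm : a (n + k) ⁻¹ᵁ D.1 ≤ 𝔛.lvU h (n + k) V := fun y hy => by
      have h1 : (a (n + k)).base y ∈ O' := (hg hy).1
      change y ∈ (𝔛.lvU h (n + k) V : Set _)
      rw [← hO'']
      exact h1
    have hn : a n ⁻¹ᵁ D.1 ⊓ 𝔛.lvU h n V ≤ a n ⁻¹ᵁ D.1 := inf_le_left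
    refine ⟨a n ⁻¹ᵁ D.1 ⊓ 𝔛.lvU h n V, inf_le_right, ⟨hzg, hz⟩, ?_⟩
    obtain ⟨b, hb⟩ := (a (n + k)).app_surjective D.1 D.2
      ((𝔛.X (n + k)).presheaf.map (homOfLE hm).op (proj 𝔛 h (n + k) V s))
    have hDW : D.1 ≤ W.1 := P.basicOpen_le g
    let fD := P.presheaf.map (homOfLE hDW).op f
    have hbf : b * fD ∈ RingHom.ker ((a (n + k)).app D.1).hom := by
      rw [RingHom.mem_ker, map_mul]
      have h3 : (a (n + k)).app D.1 fD = (𝔛.X (n + k)).presheaf.map (homOfLE hm).op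
          ((a (n + k)).appLE W.1 (𝔛.lvU h (n + k) V) (lvU_le_preimage 𝔛 h a ha e (n + k)) f) := by
        change (P.presheaf.map _ ≫ (a (n + k)).app D.1) f =
          ((a (n + k)).appLE _ _ _ ≫ (𝔛.X (n + k)).presheaf.map _) f
        rw [Scheme.Hom.app_eq_appLE, Scheme.Hom.map_appLE, Scheme.Hom.appLE_map]
      rw [hb]
      erw [h3]
      rw [← map_mul, hs', map_zero]
    rw [← Scheme.Hom.ker_apply, hker, Scheme.IdealSheafData.ideal_pow, Pi.pow_apply] at hbf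
    have hKD : 𝓚.ideal D ^ k ≤ Ideal.span {fD} := by
      rw [← 𝓚.map_ideal (U := D) (V := W) hDW, ← Ideal.map_pow]
      refine (Ideal.map_mono hk).trans ?_
      rw [Ideal.map_span, Set.image_singleton]
      exact le_rfl
    have hle : 𝓚.ideal D ^ (n + k + 1) ≤ 𝓚.ideal D ^ (n + 1) * Ideal.span {fD} := by
      rw [show n + k + 1 = n + 1 + k by omega, pow_add]
      exact Ideal.mul_mono_right hKD
    obtain ⟨c, hc, hcb⟩ := Ideal.mem_mul_span_singleton.mp (hle hbf)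
    have hbc : b = c := sub_eq_zero.mp (regular_map_basicOpen W.2 g hf (b - c) (by
      exact (sub_mul b c fD).trans (sub_eq_zero.mpr hcb.symm)))
    have hkn : (a n).app D.1 b = 0 := by
      have : b ∈ RingHom.ker ((a n).app D.1).hom := by
        rw [← Scheme.Hom.ker_apply, hker, Scheme.IdealSheafData.ideal_pow, Pi.pow_apply, hbc]
        exact hc
      exact this
    rw [← hts s]
    have e₁ : a n ⁻¹ᵁ D.1 ⊓ 𝔛.lvU h n V ≤ t ⁻¹ᵁ (a (n + k) ⁻¹ᵁ D.1) := by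
      intro y hy
      change (t ≫ a (n + k)).base y ∈ D.1
      rw [ht]
      exact hy.1
    calc _ = t.appLE _ _ e₁ ((𝔛.X (n + k)).presheaf.map (homOfLE hm).op (proj 𝔛 h (n + k) V s)) := by
          change (t.appLE _ _ et ≫ (𝔛.X n).presheaf.map _) _ = ((𝔛.X (n + k)).presheaf.map _ ≫ t.appLE _ _ e₁) _
          rw [Scheme.Hom.appLE_map, Scheme.Hom.map_appLE]
      _ = 0 := by
          rw [← hb]
          change ((a (n + k)).app D.1 ≫ t.appLE _ _ e₁) b = 0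
          rw [Scheme.Hom.app_eq_appLE, FSch.appLE_comp_appLE_of_eq t (a (n + k)) (a n) ht _ _ _ _ _ hn,
            Scheme.Hom.appLE, CommRingCat.comp_apply, hkn, map_zero]
  choose O i hzO hO using hlocal
  refine TopCat.Sheaf.eq_of_locally_eq' (𝔛.X n).sheaf (fun z : 𝔛.lvU h n V => O z.1 z.2) (𝔛.lvU h n V)
    (fun z => homOfLE (i z.1 z.2)) (fun z hz => Opens.mem_iSup.mpr ⟨⟨z, hz⟩, hzO z hz⟩) _ 0 fun z => ?_
  exact (hO z.1 z.2).trans (map_zero ((𝔛.X n).presheaf.map (homOfLE (i z.1 z.2)).op).hom).symm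

end Groth.Agent.FBlowLib
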