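import Groth.Agent.FBlowLib.OnOpen

/-!
# Restrictions to opens and gluing of morphisms out of a formal system

`noTorsion_of_openImmersion`, `exists_hom_of_cover`, `isAdmBlowUp_restrictOpen`.
-/

universe u

open CategoryTheory CategoryTheory.Limits TopologicalSpace Opposite AlgebraicGeometry

namespace Groth.Agent.FBlowLib

variable {𝔛 𝔜 : FSch.Sys.{u}} (h : 𝔛.IsFormal) (h' : 𝔜.IsFormal)

/-- An open subsystem of a torsion-free system is torsion-free. -/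
theorem noTorsion_of_openImmersion (f : 𝔜 ⟶ 𝔛) [∀ n, IsOpenImmersion ((f : FSch.Hom 𝔜 𝔛).app n)]
    (htf : ∀ (U : (𝔛.X 0).Opens) (s : (𝔛.Osh h).obj.obj (Opposite.op U)),
      (∀ a ∈ (FBlow.IdealSh.ker (𝔛.OshProj h 0)).sect U, a * s = 0) → s = 0)
    (U : (𝔜.X 0).Opens) (s : (𝔜.Osh h').obj.obj (Opposite.op U))
    (hs : ∀ a ∈ (FBlow.IdealSh.ker (𝔜.OshProj h' 0)).sect U, a * s = 0) : s = 0 := by
  let V : (𝔛.X 0).Opens := ((f : FSch.Hom 𝔜 𝔛).app 0) ''ᵁ U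
  have e : U ≤ (f : FSch.Hom 𝔜 𝔛).app 0 ⁻¹ᵁ V := fun u hu => ⟨u, hu, rfl⟩
  have hb := hpull_bijective h f h' (U := V) (Scheme.Hom.image_le_opensRange _ _) e
    (Scheme.Hom.preimage_image_eq _ U).le
  obtain ⟨t, rfl⟩ := hb.2 s
  rw [htf V t fun a ha => hb.1 ?_, map_zero]
  rw [map_zero]
  refine (map_mul (hpull h f h' e) a t).trans (hs _ ?_)
  change proj 𝔜 h' 0 U (hpull h f h' e a) = 0
  rw [proj_hpull, show proj 𝔛 h 0 V a = 0 from ha, map_zero]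

/-- Morphisms out of a formal system glue along an open cover. -/
theorem exists_hom_of_cover {𝔚 : FSch.Sys.{u}} {σ : Type u} (O : σ → (𝔛.X 0).Opens)
    (hO : ∀ x : 𝔛.X 0, ∃ i, x ∈ O i) (φ : ∀ i, 𝔛.restrictOpen h (O i) ⟶ 𝔚)
    (hφ : ∀ i j (a : 𝔛.restrictOpen h (O i ⊓ O j) ⟶ 𝔛.restrictOpen h (O i))
      (a' : 𝔛.restrictOpen h (O i ⊓ O j) ⟶ 𝔛.restrictOpen h (O j)),
      a ≫ 𝔛.restrictOpenι h (O i) = 𝔛.restrictOpenι h (O i ⊓ O j) →
      a' ≫ 𝔛.restrictOpenι h (O j) = 𝔛.restrictOpenι h (O i ⊓ O j) → a ≫ φ i = a' ≫ φ j) :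
    ∃ s : 𝔛 ⟶ 𝔚, ∀ i, 𝔛.restrictOpenι h (O i) ≫ s = φ i := by
  let 𝒰 : ∀ n, (𝔛.X n).OpenCover := fun n => (𝔛.X n).openCoverOfIsOpenCover (fun i => 𝔛.lvU h n (O i))
    (eq_top_iff.mpr fun x _ => Opens.mem_iSup.mpr (hO ((𝔛.gInv h n).hom x)))
  have hcompat : ∀ n i j, pullback.fst ((𝒰 n).f i) ((𝒰 n).f j) ≫ (φ i : FSch.Hom _ 𝔚).app n =
      pullback.snd ((𝒰 n).f i) ((𝒰 n).f j) ≫ (φ j : FSch.Hom _ 𝔚).app n := fun n i j => by
    haveI : ∀ m, IsOpenImmersion ((𝔛.restrictOpenι h (O i) : FSch.Hom _ 𝔛).app m) := fun m =>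
      inferInstanceAs (IsOpenImmersion (𝔛.lvU h m (O i)).ι)
    haveI : ∀ m, IsOpenImmersion ((𝔛.restrictOpenι h (O j) : FSch.Hom _ 𝔛).app m) := fun m =>
      inferInstanceAs (IsOpenImmersion (𝔛.lvU h m (O j)).ι)
    obtain ⟨a, ha, -⟩ := existsUnique_lift (𝔛.restrictOpenι h (O i)) (FSchLib.isFormal_restrictOpen h (O i ⊓ O j))
      (𝔛.restrictOpenι h (O i ⊓ O j)) (by
        rw [range_restrictOpenι, range_restrictOpenι]; exact fun x hx => hx.1)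
    obtain ⟨a', ha', -⟩ := existsUnique_lift (𝔛.restrictOpenι h (O j)) (FSchLib.isFormal_restrictOpen h (O i ⊓ O j))
      (𝔛.restrictOpenι h (O i ⊓ O j)) (by
        rw [range_restrictOpenι, range_restrictOpenι]; exact fun x hx => hx.2)
    let fi : (𝔛.lvU h n (O i)).toScheme ⟶ 𝔛.X n := (𝔛.lvU h n (O i)).ι
    let fj : (𝔛.lvU h n (O j)).toScheme ⟶ 𝔛.X n := (𝔛.lvU h n (O j)).ι
    let l : pullback fi fj ⟶ (𝔛.lvU h n (O i ⊓ O j)).toScheme :=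
      IsOpenImmersion.lift (𝔛.lvU h n (O i ⊓ O j)).ι (pullback.fst fi fj ≫ fi) (by
        rintro _ ⟨z, rfl⟩
        rw [Scheme.Opens.range_ι]
        refine ⟨((pullback.fst fi fj).base z).2, ?_⟩
        have h1 := ConcreteCategory.congr_hom
          (congrArg (fun m => m.base) (pullback.condition (f := fi) (g := fj))) z
        change (𝔛.gInv h n).hom ((pullback.fst fi fj ≫ fi).base z) ∈ O j
        rw [show (pullback.fst fi fj ≫ fi).base z = (pullback.snd fi fj ≫ fj).base z from h1]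
        exact ((pullback.snd fi fj).base z).2)
    have hl : l ≫ (𝔛.lvU h n (O i ⊓ O j)).ι = pullback.fst fi fj ≫ fi := IsOpenImmersion.lift_fac _ _ _
    have e1 : (a : FSch.Hom _ _).app n ≫ fi = (𝔛.lvU h n (O i ⊓ O j)).ι :=
      congrArg (fun m : 𝔛.restrictOpen h (O i ⊓ O j) ⟶ 𝔛 => (m : FSch.Hom _ _).app n) ha
    have e2 : (a' : FSch.Hom _ _).app n ≫ fj = (𝔛.lvU h n (O i ⊓ O j)).ι :=
      congrArg (fun m : 𝔛.restrictOpen h (O i ⊓ O j) ⟶ 𝔛 => (m : FSch.Hom _ _).app n) ha'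
    have h1 : l ≫ (a : FSch.Hom _ _).app n = pullback.fst fi fj :=
      (cancel_mono fi).mp ((Category.assoc _ _ _).trans ((congrArg (l ≫ ·) e1).trans hl))
    have h2 : l ≫ (a' : FSch.Hom _ _).app n = pullback.snd fi fj :=
      (cancel_mono fj).mp ((Category.assoc _ _ _).trans ((congrArg (l ≫ ·) e2).trans (hl.trans pullback.condition)))
    change pullback.fst fi fj ≫ _ = pullback.snd fi fj ≫ _
    rw [← h1, ← h2]
    exact (Category.assoc _ _ _).trans ((congrArg (l ≫ ·) (congrArg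
      (fun m : 𝔛.restrictOpen h (O i ⊓ O j) ⟶ 𝔚 => (m : FSch.Hom _ _).app n) (hφ i j a a' ha ha'))).trans
        (Category.assoc _ _ _).symm)
  let s : ∀ n, 𝔛.X n ⟶ 𝔚.X n := fun n => (𝒰 n).glueMorphisms (fun i => (φ i : FSch.Hom _ 𝔚).app n) (hcompat n)
  have hs : ∀ n i, (𝔛.lvU h n (O i)).ι ≫ s n = (φ i : FSch.Hom _ 𝔚).app n := fun n i =>
    (𝒰 n).ι_glueMorphisms _ _ i
  refine ⟨⟨s, fun n => (𝒰 n).hom_ext _ _ fun i => ?_⟩, fun i => FSch.Hom.ext (funext fun n => hs n i)⟩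
  exact glue_comm_aux' (hs n i) ((φ i : FSch.Hom _ 𝔚).comm n) (hs (n + 1) i)
    ((𝔛.restrictOpenι h (O i) : FSch.Hom _ 𝔛).comm n)
where
  glue_comm_aux' {C : Type _} [Category C] {A A' B D E F : C} {a : A ⟶ B} {k : B ⟶ F} {t : F ⟶ D}
      {i : B ⟶ E} {k' : E ⟶ D} {u : A ⟶ F} {j : A ⟶ A'} {a' : A' ⟶ E} {u' : A' ⟶ D}
      (h₁ : a ≫ k = u) (h₂ : u ≫ t = j ≫ u') (h₃ : a' ≫ k' = u') (h₄ : a ≫ i = j ≫ a') :
      a ≫ k ≫ t = a ≫ i ≫ k' := by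
    rw [← Category.assoc, h₁, h₂, ← Category.assoc, h₄, Category.assoc, h₃]

/-- An admissible formal blow-up restricts to the opens of the base. -/
theorem isAdmBlowUp_restrictOpen {J : FBlow.IdealSh (𝔛.Osh h)} {b : 𝔜 ⟶ 𝔛} (hb : FBlow.IsAdmBlowUp b h' h J)
    (V : (𝔛.X 0).Opens) :
    FBlow.IsAdmBlowUp (FSch.Hom.restrictOpen b h' h V)
      (FSchLib.isFormal_restrictOpen h' ((b : FSch.Hom 𝔜 𝔛).app 0 ⁻¹ᵁ V)) (FSchLib.isFormal_restrictOpen h V)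
      (FBlow.idealMap (𝔛.restrictOpenι h V) (FSchLib.isFormal_restrictOpen h V) h J) := by
  haveI : ∀ n, IsOpenImmersion ((𝔛.restrictOpenι h V : FSch.Hom _ 𝔛).app n) := fun n =>
    inferInstanceAs (IsOpenImmersion (𝔛.lvU h n V).ι)
  haveI : ∀ n, IsOpenImmersion
      ((𝔜.restrictOpenι h' ((b : FSch.Hom 𝔜 𝔛).app 0 ⁻¹ᵁ V) : FSch.Hom _ 𝔜).app n) := fun n =>
    inferInstanceAs (IsOpenImmersion (𝔜.lvU h' n _).ι)
  refine isAdmBlowUp_of_openImmersion h _ h' _ hb (𝔛.restrictOpenι h V) (FSchLib.isAdicHom_restrictOpenι h V)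
    (𝔜.restrictOpenι h' _) (FSchLib.isAdicHom_restrictOpenι h' _) _ (FSch.Hom.restrictOpen_ι b h' h V) ?_
  rw [range_restrictOpenι, range_restrictOpenι]
  exact fun x hx => hx

end Groth.Agent.FBlowLib
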