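import Groth.Prelude.Def_FBlow
import Mathlib.AlgebraicGeometry.AffineScheme

/-!
# Sections of the structure sheaf of a formal system as compatible families

`Sec 𝔛 h U` is the ring of sections of `O_𝔛` over an open `U` of the common space; it is the limit of the
rings of sections of the levels (`sec_ext`, `exists_sec`, `liftHom`).  `pull` is the ring map to it from
sections of a scheme along a compatible family of morphisms of the levels.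
-/

universe u

open CategoryTheory CategoryTheory.Limits TopologicalSpace Opposite AlgebraicGeometry

namespace Groth.Agent.FBlowLib

variable (𝔛 : FSch.Sys.{u}) (h : 𝔛.IsFormal)

/-- Sections of `O_𝔛` over an open of the common space. -/
noncomputable abbrev Sec (U : (𝔛.X 0).Opens) : CommRingCat.{u} := (𝔛.Osh h).obj.obj (op U)

/-- Restriction of sections of `O_𝔛`. -/
noncomputable abbrev res {U V : (𝔛.X 0).Opens} (i : V ≤ U) : Sec 𝔛 h U →+* Sec 𝔛 h V :=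
  ((𝔛.Osh h).obj.map (homOfLE i).op).hom

/-- The projection to the sections of the `n`-th level. -/
noncomputable abbrev proj (n : ℕ) (U : (𝔛.X 0).Opens) :
    Sec 𝔛 h U →+* Γ(𝔛.X n, 𝔛.lvU h n U) :=
  ((𝔛.OshProj h n).hom.app (op U)).hom

/-- Restriction commutes with the projections. -/
theorem proj_res (n : ℕ) {U V : (𝔛.X 0).Opens} (i : V ≤ U) (s : Sec 𝔛 h U) :
    proj 𝔛 h n V (res 𝔛 h i s) =
      (𝔛.X n).presheaf.map (homOfLE (FBlow.lvU_mono 𝔛 h n i)).op (proj 𝔛 h n U s) := by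
  change ((𝔛.Osh h).obj.map (homOfLE i).op ≫ (𝔛.OshProj h n).hom.app (op V)) s = _
  rw [(𝔛.OshProj h n).hom.naturality]
  rfl

/-- The projections are compatible with the transition maps. -/
theorem proj_succ (n : ℕ) (U : (𝔛.X 0).Opens) (s : Sec 𝔛 h U) :
    (𝔛.ι n).appLE (𝔛.lvU h (n + 1) U) (𝔛.lvU h n U) (𝔛.lvU_le h n U) (proj 𝔛 h (n + 1) U s) =
      proj 𝔛 h n U s := by
  conv_rhs => rw [proj, ← 𝔛.OshProj_levelMap h n]
  rfl

/-- The functor evaluating sheaves of rings at `U`, to types. -/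
noncomputable abbrev evalFunctor (U : (𝔛.X 0).Opens) :
    Sheaf (Opens.grothendieckTopology (𝔛.X 0)) CommRingCat.{u} ⥤ Type u :=
  sheafToPresheaf (Opens.grothendieckTopology (𝔛.X 0)) CommRingCat.{u} ⋙
    (evaluation ((𝔛.X 0).Opens)ᵒᵖ CommRingCat.{u}).obj (op U) ⋙ forget CommRingCat.{u}

/-- Sections over `U` as a limit of types. -/
noncomputable def isLimitSec (U : (𝔛.X 0).Opens) :
    IsLimit ((evalFunctor 𝔛 U).mapCone (limit.cone (𝔛.levelRing h))) :=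
  isLimitOfPreserves (evalFunctor 𝔛 U) (limit.isLimit (𝔛.levelRing h))

/-- Sections of `O_𝔛` are determined by their projections. -/
theorem sec_ext {U : (𝔛.X 0).Opens} {s t : Sec 𝔛 h U}
    (hst : ∀ n, proj 𝔛 h n U s = proj 𝔛 h n U t) : s = t :=
  (Types.isLimitEquivSections (isLimitSec 𝔛 h U)).injective
    (Subtype.ext (funext fun n => hst n.unop))

/-- Compatible families of sections of the levels glue to sections of `O_𝔛`. -/
theorem exists_sec {U : (𝔛.X 0).Opens} (y : ∀ n, Γ(𝔛.X n, 𝔛.lvU h n U))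
    (hy : ∀ n, (𝔛.ι n).appLE (𝔛.lvU h (n + 1) U) (𝔛.lvU h n U) (𝔛.lvU_le h n U) (y (n + 1)) = y n) :
    ∃ s : Sec 𝔛 h U, ∀ n, proj 𝔛 h n U s = y n := by
  let G := 𝔛.levelRing h ⋙ evalFunctor 𝔛 U
  have hsucc : ∀ n, G.map (homOfLE (Nat.le_add_right n 1)).op (y (n + 1)) = y n := fun n => by
    change ((𝔛.levelRing h).map (homOfLE (Nat.le_add_right n 1)).op).hom.app (op U) (y (n + 1)) = y n
    rw [FSch.Sys.levelRing_map_succ]
    exact hy n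
  have hgen : ∀ (i j : ℕ) (hij : i ≤ j), G.map (homOfLE hij).op (y j) = y i := by
    intro i j hij
    induction j, hij using Nat.le_induction with
    | base => exact FunctorToTypes.map_id_apply G _
    | succ k hik ih =>
      rw [show homOfLE (Nat.le_succ_of_le hik) =
        homOfLE hik ≫ homOfLE (Nat.le_add_right k 1) from rfl, op_comp, G.map_comp]
      change G.map _ (G.map _ (y (k + 1))) = _
      rw [hsucc]
      exact ih
  refine ⟨(Types.isLimitEquivSections (isLimitSec 𝔛 h U)).symm ⟨fun j => y j.unop, ?_⟩, fun n => ?_⟩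
  · rintro ⟨j⟩ ⟨i⟩ g
    exact hgen i j (leOfHom g.unop)
  · exact Types.isLimitEquivSections_symm_apply (isLimitSec 𝔛 h U) _ (op n)

/-- A compatible family of ring maps to the levels factors through `O_𝔛`. -/
theorem exists_liftHom {C : Type*} [CommRing C] {U : (𝔛.X 0).Opens}
    (φ : ∀ n, C →+* Γ(𝔛.X n, 𝔛.lvU h n U))
    (hφ : ∀ n c, (𝔛.ι n).appLE (𝔛.lvU h (n + 1) U) (𝔛.lvU h n U) (𝔛.lvU_le h n U) (φ (n + 1) c) = φ n c) :
    ∃ ψ : C →+* Sec 𝔛 h U, ∀ n c, proj 𝔛 h n U (ψ c) = φ n c := by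
  choose ψ hψ using fun c => exists_sec 𝔛 h (fun n => φ n c) (fun n => hφ n c)
  refine ⟨{ toFun := ψ, map_one' := ?_, map_mul' := ?_, map_zero' := ?_, map_add' := ?_ }, fun n c => hψ c n⟩
  · exact sec_ext 𝔛 h fun n => by simp [hψ]
  · exact fun a b => sec_ext 𝔛 h fun n => by simp [hψ]
  · exact sec_ext 𝔛 h fun n => by simp [hψ]
  · exact fun a b => sec_ext 𝔛 h fun n => by simp [hψ]

/-- A section of `O_𝔛` invertible at a point of the smallest level is invertible near that point. -/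
theorem exists_isUnit_res {U : (𝔛.X 0).Opens} (s : Sec 𝔛 h U) {x : 𝔛.X 0} (hx : x ∈ U)
    (hu : (𝔛.toX 0).base x ∈ (𝔛.X 0).basicOpen (proj 𝔛 h 0 U s)) :
    ∃ (V : (𝔛.X 0).Opens) (i : V ≤ U), x ∈ V ∧ IsUnit (res 𝔛 h i s) := by
  let V : (𝔛.X 0).Opens := U ⊓ (Opens.map (𝔛.toX 0).base).obj ((𝔛.X 0).basicOpen (proj 𝔛 h 0 U s))
  refine ⟨V, inf_le_left, ⟨hx, hu⟩, ?_⟩
  have hn : ∀ n, IsUnit (proj 𝔛 h n V (res 𝔛 h (inf_le_left : V ≤ U) s)) := by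
    intro n
    rw [proj_res]
    refine RingedSpace.isUnit_of_isUnit_germ (𝔛.X n).toLocallyRingedSpace.toRingedSpace _ _ fun z hz => ?_
    have hmem : ∀ k, (𝔛.toX k).base (𝔛.gInv h n z) ∈ (𝔛.X k).basicOpen (proj 𝔛 h k U s) := by
      intro k
      induction k with
      | zero => exact hz.2
      | succ k ih =>
        rw [← proj_succ 𝔛 h k U s] at ih
        have h2 := ih
        rw [Scheme.Hom.appLE, CommRingCat.comp_apply, Scheme.basicOpen_res] at h2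
        have h3 := h2.2
        rw [← Scheme.preimage_basicOpen] at h3
        exact h3
    have h1 := hmem n
    rw [show (𝔛.toX n).base (𝔛.gInv h n z) = z from
      ConcreteCategory.congr_hom (𝔛.gInv_toX_base h n) z] at h1
    have h4 := ((𝔛.X n).mem_basicOpen _ z (FBlow.lvU_mono 𝔛 h n (inf_le_left : V ≤ U) hz)).mp h1
    exact (TopCat.Presheaf.germ_res_apply (𝔛.X n).presheaf
      (homOfLE (FBlow.lvU_mono 𝔛 h n (inf_le_left : V ≤ U))) z hz _).symm ▸ h4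
  choose v hv using fun n => isUnit_iff_exists_inv.mp (hn n)
  obtain ⟨t, ht⟩ := exists_sec 𝔛 h v fun n => by
    refine (hn n).mul_left_cancel ((?_ : _ = (1 : Γ(𝔛.X n, 𝔛.lvU h n V))).trans (hv n).symm)
    conv_lhs => arg 1; rw [← proj_succ 𝔛 h n V]
    rw [← map_mul, hv, map_one]
  exact isUnit_iff_exists_inv.mpr ⟨t, sec_ext 𝔛 h fun n => by rw [map_mul, ht, hv, map_one]⟩

section Pull

variable {Y : Scheme.{u}} (p : ∀ n, 𝔛.X n ⟶ Y) (hp : ∀ n, 𝔛.ι n ≫ p (n + 1) = p n)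

include hp in
/-- The opens of the levels over `V` map into `W` as soon as `V` does. -/
theorem lvU_le_preimage {W : Y.Opens} {V : (𝔛.X 0).Opens} (e : V ≤ p 0 ⁻¹ᵁ W) (n : ℕ) :
    𝔛.lvU h n V ≤ p n ⁻¹ᵁ W :=
  (FBlow.lvU_mono 𝔛 h n e).trans (FSch.lvU_p 𝔛 h p hp n W).ge

/-- Sections of `Y` pulled back to sections of `O_𝔛` along the compatible family `p`. -/
noncomputable def pull {W : Y.Opens} {V : (𝔛.X 0).Opens} (e : V ≤ p 0 ⁻¹ᵁ W) :
    Γ(Y, W) →+* Sec 𝔛 h V :=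
  (res 𝔛 h e).comp ((FSch.schSharp 𝔛 h p hp).hom.app (op W)).hom

@[simp] theorem proj_pull {W : Y.Opens} {V : (𝔛.X 0).Opens} (e : V ≤ p 0 ⁻¹ᵁ W) (n : ℕ) (a : Γ(Y, W)) :
    proj 𝔛 h n V (pull 𝔛 h p hp e a) =
      (p n).appLE W (𝔛.lvU h n V) (lvU_le_preimage 𝔛 h p hp e n) a := by
  refine (proj_res 𝔛 h n e ((FSch.schSharp 𝔛 h p hp).hom.app (op W) a)).trans ?_
  have h1 : proj 𝔛 h n (p 0 ⁻¹ᵁ W) ((FSch.schSharp 𝔛 h p hp).hom.app (op W) a) =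
      (FSch.schLevel 𝔛 h p hp n).hom.app (op W) a := by
    rw [← FSch.schSharp_proj 𝔛 h p hp n]
    rfl
  erw [h1]
  rw [FSch.schLevel_app]
  change ((p n).appLE _ _ _ ≫ (𝔛.X n).presheaf.map _) a = _
  rw [Scheme.Hom.appLE_map]

theorem res_pull {W : Y.Opens} {V V' : (𝔛.X 0).Opens} (e : V ≤ p 0 ⁻¹ᵁ W) (i : V' ≤ V) (a : Γ(Y, W)) :
    res 𝔛 h i (pull 𝔛 h p hp e a) = pull 𝔛 h p hp (i.trans e) a :=
  FBlow.IdealSh.map_comp_apply e i _

theorem pull_map {W W' : Y.Opens} {V : (𝔛.X 0).Opens} (j : W' ≤ W) (e : V ≤ p 0 ⁻¹ᵁ W') (a : Γ(Y, W)) :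
    pull 𝔛 h p hp e (Y.presheaf.map (homOfLE j).op a) =
      pull 𝔛 h p hp (e.trans (Scheme.Hom.preimage_mono (p 0) j)) a :=
  sec_ext 𝔛 h fun n => by
    rw [proj_pull, proj_pull]
    change (Y.presheaf.map _ ≫ (p n).appLE _ _ _) a = _
    rw [Scheme.Hom.map_appLE]

/-- `pull` along a composite. -/
theorem pull_comp {Z : Scheme.{u}} (q : Y ⟶ Z) (r : ∀ n, 𝔛.X n ⟶ Z) (hr : ∀ n, 𝔛.ι n ≫ r (n + 1) = r n)
    (hqr : ∀ n, p n ≫ q = r n) {W' : Z.Opens} {W : Y.Opens} {V : (𝔛.X 0).Opens} (j : W ≤ q ⁻¹ᵁ W')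
    (e : V ≤ p 0 ⁻¹ᵁ W) (e' : V ≤ r 0 ⁻¹ᵁ W') (a : Γ(Z, W')) :
    pull 𝔛 h p hp e (q.appLE W' W j a) = pull 𝔛 h r hr e' a :=
  sec_ext 𝔛 h fun n => by
    rw [proj_pull, proj_pull]
    exact ConcreteCategory.congr_hom (FSch.appLE_comp_appLE_of_eq (p n) q (r n) (hqr n) _ _ _ _ _ _) a

end Pull

section Hom

variable {𝔛} {𝔜 : FSch.Sys.{u}} (f : 𝔜 ⟶ 𝔛) (h' : 𝔜.IsFormal)

/-- Sections pulled back along a morphism of systems. -/
noncomputable def hpull {U : (𝔛.X 0).Opens} {V : (𝔜.X 0).Opens}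
    (e : V ≤ (f : FSch.Hom 𝔜 𝔛).app 0 ⁻¹ᵁ U) : Sec 𝔛 h U →+* Sec 𝔜 h' V :=
  (res 𝔜 h' e).comp ((FSch.Hom.sharp f h' h).hom.app (op U)).hom

theorem lvU_le_hom {U : (𝔛.X 0).Opens} {V : (𝔜.X 0).Opens}
    (e : V ≤ (f : FSch.Hom 𝔜 𝔛).app 0 ⁻¹ᵁ U) (n : ℕ) :
    𝔜.lvU h' n V ≤ (f : FSch.Hom 𝔜 𝔛).app n ⁻¹ᵁ 𝔛.lvU h n U :=
  (FBlow.lvU_mono 𝔜 h' n e).trans (FSch.Hom.lvU_preimage f h' h n U).ge

@[simp] theorem proj_hpull {U : (𝔛.X 0).Opens} {V : (𝔜.X 0).Opens}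
    (e : V ≤ (f : FSch.Hom 𝔜 𝔛).app 0 ⁻¹ᵁ U) (n : ℕ) (s : Sec 𝔛 h U) :
    proj 𝔜 h' n V (hpull h f h' e s) =
      ((f : FSch.Hom 𝔜 𝔛).app n).appLE (𝔛.lvU h n U) (𝔜.lvU h' n V) (lvU_le_hom h f h' e n)
        (proj 𝔛 h n U s) := by
  refine (proj_res 𝔜 h' n e ((FSch.Hom.sharp f h' h).hom.app (op U) s)).trans ?_
  have h1 : proj 𝔜 h' n ((f : FSch.Hom 𝔜 𝔛).app 0 ⁻¹ᵁ U) ((FSch.Hom.sharp f h' h).hom.app (op U) s) =
      (FSch.Hom.levelPush f h' h n).hom.app (op U) (proj 𝔛 h n U s) := by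
    have := ConcreteCategory.congr_hom
      (congrArg (fun φ => φ.hom.app (op U)) (FSch.Hom.sharp_proj f h' h n)) s
    exact this
  erw [h1]
  rw [FSch.Hom.levelPush_app]
  change (((f : FSch.Hom 𝔜 𝔛).app n).appLE _ _ _ ≫ (𝔜.X n).presheaf.map _) _ = _
  rw [Scheme.Hom.appLE_map]

/-- `pull` followed by a morphism of systems is `pull` along the composite family. -/
theorem hpull_pull {Y : Scheme.{u}} (p : ∀ n, 𝔛.X n ⟶ Y) (hp : ∀ n, 𝔛.ι n ≫ p (n + 1) = p n)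
    (r : ∀ n, 𝔜.X n ⟶ Y) (hr : ∀ n, 𝔜.ι n ≫ r (n + 1) = r n)
    (hfr : ∀ n, (f : FSch.Hom 𝔜 𝔛).app n ≫ p n = r n)
    {W : Y.Opens} {U : (𝔛.X 0).Opens} {V : (𝔜.X 0).Opens} (e : U ≤ p 0 ⁻¹ᵁ W)
    (e₁ : V ≤ (f : FSch.Hom 𝔜 𝔛).app 0 ⁻¹ᵁ U) (e₂ : V ≤ r 0 ⁻¹ᵁ W) (a : Γ(Y, W)) :
    hpull h f h' e₁ (pull 𝔛 h p hp e a) = pull 𝔜 h' r hr e₂ a :=
  sec_ext 𝔜 h' fun n => by
    rw [proj_hpull, proj_pull, proj_pull]
    exact ConcreteCategory.congr_hom (FSch.appLE_comp_appLE_of_eq _ (p n) (r n) (hfr n) _ _ _ _ _ _) a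

theorem res_hpull {U : (𝔛.X 0).Opens} {V V' : (𝔜.X 0).Opens}
    (e : V ≤ (f : FSch.Hom 𝔜 𝔛).app 0 ⁻¹ᵁ U) (i : V' ≤ V) (s : Sec 𝔛 h U) :
    res 𝔜 h' i (hpull h f h' e s) = hpull h f h' (i.trans e) s :=
  FBlow.IdealSh.map_comp_apply e i _

theorem hpull_res {U U' : (𝔛.X 0).Opens} {V : (𝔜.X 0).Opens} (i : U' ≤ U)
    (e : V ≤ (f : FSch.Hom 𝔜 𝔛).app 0 ⁻¹ᵁ U') (s : Sec 𝔛 h U) :
    hpull h f h' e (res 𝔛 h i s) =
      hpull h f h' (e.trans (Scheme.Hom.preimage_mono ((f : FSch.Hom 𝔜 𝔛).app 0) i)) s :=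
  sec_ext 𝔜 h' fun n => by
    rw [proj_hpull, proj_hpull, proj_res]
    change ((𝔛.X n).presheaf.map _ ≫ ((f : FSch.Hom 𝔜 𝔛).app n).appLE _ _ _) _ = _
    rw [Scheme.Hom.map_appLE]

end Hom

end Groth.Agent.FBlowLib
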