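import Groth.Agent.FBlowLib.Regular
import Groth.Prelude.Def_BlowUp2

/-!
# Factoring maps out of a formal system through a blow-up of an affine scheme

`existsUnique_family`: if `𝔞 · O_𝔜` is invertible then the compatible family `Y n ⟶ Spec A` lifts in exactly
one way to a compatible family `Y n ⟶ P`, for a scheme-theoretic blow-up `P ⟶ Spec A` of `𝔞`.
-/

universe u

open CategoryTheory CategoryTheory.Limits TopologicalSpace Opposite AlgebraicGeometry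

namespace Groth.Agent.FBlowLib

/-- `toSpecΓ` of opens is natural. -/
theorem resLE_toSpecΓ {X Y : Scheme.{u}} (f : X ⟶ Y) (U : Y.Opens) (V : X.Opens) (e : V ≤ f ⁻¹ᵁ U) :
    f.resLE U V e ≫ U.toSpecΓ = V.toSpecΓ ≫ Spec.map (f.appLE U V e) := by
  rw [Scheme.Opens.toSpecΓ, Scheme.Opens.toSpecΓ, Scheme.toSpecΓ_naturality_assoc,
    Scheme.Hom.appTop, Scheme.Hom.resLE_app_top]
  simp only [Spec.map_comp, Category.assoc]
  rw [← Spec.map_comp U.topIso.inv U.topIso.hom, Iso.inv_hom_id, Spec.map_id, Category.comp_id]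

/-- A morphism out of an open landing in an affine open, through rings of sections. -/
theorem eq_toSpecΓ_of_range {X Y : Scheme.{u}} (V : X.Opens) (t : V.toScheme ⟶ Y) {W : Y.Opens}
    (hW : IsAffineOpen W) (e : (⊤ : V.toScheme.Opens) ≤ t ⁻¹ᵁ W) :
    t = V.toSpecΓ ≫ Spec.map (t.appLE W ⊤ e ≫ V.topIso.hom) ≫ hW.fromSpec := by
  rw [Scheme.Opens.toSpecΓ, Spec.map_comp]
  simp only [Category.assoc]
  rw [← Spec.map_comp_assoc V.topIso.hom V.topIso.inv, Iso.hom_inv_id, Spec.map_id, Category.id_comp]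
  have h1 := resLE_toSpecΓ t W ⊤ e
  have h2 : t.resLE W ⊤ e ≫ W.ι = (⊤ : V.toScheme.Opens).ι ≫ t := Scheme.Hom.resLE_comp_ι ..
  rw [← hW.toSpecΓ_fromSpec, ← Category.assoc, h1, Scheme.Opens.toSpecΓ_top] at h2
  simp only [Category.assoc] at h2
  haveI : IsIso (⊤ : V.toScheme.Opens).ι := (Scheme.topIso V.toScheme).isIso_hom
  exact ((cancel_epi (⊤ : V.toScheme.Opens).ι).mp h2).symm

/-- The morphism `V ⟶ Spec B` given by a ring map `B → Γ(X, V)`. -/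
noncomputable def toSpecOf {X : Scheme.{u}} (V : X.Opens) {B : CommRingCat.{u}} (φ : B ⟶ Γ(X, V)) :
    V.toScheme ⟶ Spec B :=
  V.toSpecΓ ≫ Spec.map φ

theorem resLE_toSpecOf {X Y : Scheme.{u}} (f : X ⟶ Y) (U : Y.Opens) (V : X.Opens) (e : V ≤ f ⁻¹ᵁ U)
    {B : CommRingCat.{u}} (φ : B ⟶ Γ(Y, U)) :
    f.resLE U V e ≫ toSpecOf U φ = toSpecOf V (φ ≫ f.appLE U V e) := by
  rw [toSpecOf, toSpecOf, ← Category.assoc, resLE_toSpecΓ, Category.assoc, Spec.map_comp]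

/-- Sections pulled back to an open subscheme. -/
theorem ι_comp_appLE_topIso {X Y : Scheme.{u}} (V : X.Opens) (f : X ⟶ Y) (W : Y.Opens)
    (e : V ≤ f ⁻¹ᵁ W) (e' : (⊤ : V.toScheme.Opens) ≤ (V.ι ≫ f) ⁻¹ᵁ W) :
    (V.ι ≫ f).appLE W ⊤ e' ≫ V.topIso.hom = f.appLE W V e := by
  rw [← Scheme.Hom.appLE_comp_appLE V.ι f W V ⊤ e (by simp), Scheme.Opens.ι_appLE,
    Scheme.Opens.topIso_hom]
  erw [Scheme.Hom.appLE_map, Scheme.Hom.appLE_map]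

/-- A morphism to an affine scheme restricted to an open. -/
theorem ι_comp_eq_toSpecOf {X : Scheme.{u}} {A : CommRingCat.{u}} (r : X ⟶ Spec A) (V : X.Opens) :
    V.ι ≫ r = toSpecOf V ((Scheme.ΓSpecIso A).inv ≫ r.appLE ⊤ V le_top) := by
  have e : V ≤ r ⁻¹ᵁ ⊤ := le_top
  have h1 := resLE_toSpecΓ r ⊤ V e
  rw [Scheme.Opens.toSpecΓ_top, Scheme.Hom.resLE_comp_ι_assoc, ← SpecMap_ΓSpecIso_hom] at h1
  rw [toSpecOf, Spec.map_comp, ← Category.assoc, ← h1]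
  simp

section Family

variable {A : Type u} [CommRing A] {P : Scheme.{u}} (q : P ⟶ Spec (CommRingCat.of A))
  (𝔜 : FSch.Sys.{u}) (h : 𝔜.IsFormal)
  (r : ∀ n, 𝔜.X n ⟶ Spec (CommRingCat.of A)) (hr : ∀ n, 𝔜.ι n ≫ r (n + 1) = r n) (𝔞 : Ideal A)

/-- A compatible family of lifts to `P` over the opens of the levels above `V`. -/
structure Fam (V : (𝔜.X 0).Opens) where
  k : ∀ n, (𝔜.lvU h n V).toScheme ⟶ P
  compat : ∀ n, (𝔜.ι n).resLE (𝔜.lvU h (n + 1) V) (𝔜.lvU h n V) (𝔜.lvU_le h n V) ≫ k (n + 1) = k n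
  over_base : ∀ n, k n ≫ q = (𝔜.lvU h n V).ι ≫ r n

section Res
variable {q 𝔜 h r}

/-- Restriction of a family. -/
noncomputable def Fam.res {V V' : (𝔜.X 0).Opens} (K : Fam q 𝔜 h r V) (i : V' ≤ V) :
    Fam q 𝔜 h r V' where
  k n := (𝔜.X n).homOfLE (FBlow.lvU_mono 𝔜 h n i) ≫ K.k n
  compat n := by
    rw [← K.compat n, ← Category.assoc, ← Category.assoc, Scheme.Hom.map_resLE, Scheme.Hom.resLE_map]
  over_base n := by rw [Category.assoc, K.over_base, Scheme.homOfLE_ι_assoc]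

/-- The family lands in `W`. -/
def Fam.InOpen {V : (𝔜.X 0).Opens} (K : Fam q 𝔜 h r V) (W : P.Opens) : Prop :=
  ∀ m, (⊤ : (𝔜.lvU h m V).toScheme.Opens) ≤ K.k m ⁻¹ᵁ W

theorem Fam.InOpen.res {V V' : (𝔜.X 0).Opens} {K : Fam q 𝔜 h r V} {W : P.Opens} (hK : K.InOpen W)
    (i : V' ≤ V) : (K.res i).InOpen W :=
  fun m z _ => hK m (x := ((𝔜.X m).homOfLE (FBlow.lvU_mono 𝔜 h m i)).base z) trivial

/-- Near every point a family lands in an affine open. -/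
theorem Fam.exists_inOpen {V : (𝔜.X 0).Opens} (K : Fam q 𝔜 h r V) {x : 𝔜.X 0} (hx : x ∈ V) :
    ∃ (V' : (𝔜.X 0).Opens) (i : V' ≤ V), x ∈ V' ∧ ∃ W : P.Opens, IsAffineOpen W ∧ (K.res i).InOpen W := by
  have hx0 : (𝔜.toX 0).base x ∈ 𝔜.lvU h 0 V := by
    change (𝔜.gInv h 0).hom ((𝔜.toX 0).base x) ∈ V
    have := ConcreteCategory.congr_hom (𝔜.toX_base_gInv h 0) x
    erw [this]
    exact hx
  obtain ⟨W, hW, hxW, -⟩ := exists_isAffineOpen_mem_and_subset (X := P)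
    (x := (K.k 0).base ⟨(𝔜.toX 0).base x, hx0⟩) (U := ⊤) trivial
  let V' : (𝔜.X 0).Opens := V ⊓ (Opens.map (𝔜.toX 0).base).obj ((𝔜.lvU h 0 V).ι ''ᵁ (K.k 0 ⁻¹ᵁ W))
  refine ⟨V', inf_le_left, ⟨hx, ⟨⟨(𝔜.toX 0).base x, hx0⟩, hxW, rfl⟩⟩, W, hW, ?_⟩
  have hpt : ∀ m (y : 𝔜.X 0), y ∈ V' → ∀ hy : (𝔜.toX m).base y ∈ 𝔜.lvU h m V,
      (K.k m).base ⟨(𝔜.toX m).base y, hy⟩ ∈ W := by
    intro m
    induction m with
    | zero =>
      rintro y ⟨-, ⟨z, hz, hzy⟩⟩ hy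
      obtain rfl : z = ⟨(𝔜.toX 0).base y, hy⟩ := Subtype.ext hzy
      exact hz
    | succ m ih =>
      intro y hy hy'
      have hm : (𝔜.toX m).base y ∈ 𝔜.lvU h m V := by
        rw [← 𝔜.lvU_succ h m V]
        exact hy'
      have h1 := ih y hy hm
      rw [← K.compat m] at h1
      have h2 : ((𝔜.ι m).resLE _ _ (𝔜.lvU_le h m V)).base ⟨(𝔜.toX m).base y, hm⟩ =
          ⟨(𝔜.toX (m + 1)).base y, hy'⟩ :=
        Subtype.ext (ConcreteCategory.congr_hom (congrArg (fun f => f.base)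
          (Scheme.Hom.resLE_comp_ι (𝔜.ι m) (𝔜.lvU_le h m V))) ⟨(𝔜.toX m).base y, hm⟩)
      rw [← h2]
      exact h1
  rintro m ⟨z, hz⟩ -
  have hy : (𝔜.gInv h m).hom z ∈ V' := hz
  have hzy : (𝔜.toX m).base ((𝔜.gInv h m).hom z) = z :=
    ConcreteCategory.congr_hom (𝔜.gInv_toX_base h m) z
  have h1 := hpt m _ hy (by rw [hzy]; exact FBlow.lvU_mono 𝔜 h m inf_le_left hz)
  have h2 : ((𝔜.X m).homOfLE (FBlow.lvU_mono 𝔜 h m (inf_le_left : V' ≤ V))).base ⟨z, hz⟩ =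
      ⟨(𝔜.toX m).base ((𝔜.gInv h m).hom z), by rw [hzy]; exact FBlow.lvU_mono 𝔜 h m inf_le_left hz⟩ :=
    Subtype.ext ((Scheme.homOfLE_apply _ _).trans hzy.symm)
  change (K.k m).base (((𝔜.X m).homOfLE (FBlow.lvU_mono 𝔜 h m (inf_le_left : V' ≤ V))).base ⟨z, hz⟩) ∈ W
  rw [h2]
  exact h1

end Res

/-- The map `lvU n V ⟶ Spec O_𝔜(V)`. -/
noncomputable def jmap (n : ℕ) (V : (𝔜.X 0).Opens) :
    (𝔜.lvU h n V).toScheme ⟶ Spec (Sec 𝔜 h V) :=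
  toSpecOf _ (CommRingCat.ofHom (proj 𝔜 h n V))

theorem jmap_compat (n : ℕ) (V : (𝔜.X 0).Opens) :
    (𝔜.ι n).resLE _ _ (𝔜.lvU_le h n V) ≫ jmap 𝔜 h (n + 1) V = jmap 𝔜 h n V := by
  rw [jmap, resLE_toSpecOf]
  exact congrArg (toSpecOf _) (CommRingCat.hom_ext (RingHom.ext fun s => proj_succ 𝔜 h n V s))

theorem jmap_over_base (n : ℕ) (V : (𝔜.X 0).Opens) :
    jmap 𝔜 h n V ≫ Spec.map (CommRingCat.ofHom (rho 𝔜 h r hr V)) = (𝔜.lvU h n V).ι ≫ r n := by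
  rw [ι_comp_eq_toSpecOf, jmap, toSpecOf, toSpecOf, Category.assoc, ← Spec.map_comp]
  congr 2
  ext a
  exact proj_pull 𝔜 h r hr (le_top : V ≤ r 0 ⁻¹ᵁ ⊤) n _

variable (hq : BlowUp.IsBlowUp q (FSch.idealSpec A 𝔞))

include hq in
theorem existsUnique_kappa {V : (𝔜.X 0).Opens} {g : Sec 𝔜 h V}
    (hg : IsLocGen 𝔜 h r hr 𝔞 V g) :
    ∃! κ : Spec (Sec 𝔜 h V) ⟶ P, κ ≫ q = Spec.map (CommRingCat.ofHom (rho 𝔜 h r hr V)) := by
  refine hq.2 _ _ fun x => ⟨⟨⊤, isAffineOpen_top _⟩, trivial,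
    (Scheme.ΓSpecIso (Sec 𝔜 h V)).inv g, ?_, ?_⟩
  · have hb := ConcreteCategory.bijective_of_isIso (Scheme.ΓSpecIso (Sec 𝔜 h V)).inv
    refine mem_nonZeroDivisors_iff_right.mpr fun t ht => ?_
    obtain ⟨t', rfl⟩ := hb.2 t
    rw [← map_mul] at ht
    rw [mem_nonZeroDivisors_iff_right.mp hg.mem_nonZeroDivisors t' (hb.1 (ht.trans (map_zero _).symm)),
      map_zero]
  · have := FSchLib.idealSpec_comap (Sec 𝔜 h V) A (rho 𝔜 h r hr V) 𝔞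
    rw [hg.span_eq] at this
    erw [this]
    rw [FSchLib.idealSpec_ideal_top, Ideal.map_span, Set.image_singleton]
    rfl

include hq in
/-- A family landing in an affine open is the canonical one. -/
theorem Fam.eq_jmap {V : (𝔜.X 0).Opens} (K : Fam q 𝔜 h r V) {g : Sec 𝔜 h V}
    (hg : IsLocGen 𝔜 h r hr 𝔞 V g) {W : P.Opens} (hW : IsAffineOpen W) (hK : K.InOpen W)
    (κ : Spec (Sec 𝔜 h V) ⟶ P) (hκ : κ ≫ q = Spec.map (CommRingCat.ofHom (rho 𝔜 h r hr V)))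
    (n : ℕ) : K.k n = jmap 𝔜 h n V ≫ κ := by
  let φ : ∀ m, Γ(P, W) →+* Γ(𝔜.X m, 𝔜.lvU h m V) := fun m =>
    ((K.k m).appLE W ⊤ (hK m) ≫ (𝔜.lvU h m V).topIso.hom).hom
  obtain ⟨ψ, hψ⟩ := exists_liftHom 𝔜 h φ fun m c => by
    let F := ((𝔜.ι m).resLE _ _ (𝔜.lvU_le h m V))
    have h1 : (K.k (m + 1)).appLE W ⊤ (hK (m + 1)) ≫ F.appTop = (K.k m).appLE W ⊤ (hK m) := by
      rw [Scheme.Hom.appTop, Scheme.Hom.app_eq_appLE]
      exact FSch.appLE_comp_appLE_of_eq F (K.k (m + 1)) (K.k m) (K.compat m) _ _ _ _ _ _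
    have h2 : F.appTop = (𝔜.lvU h (m + 1) V).topIso.hom ≫
        (𝔜.ι m).appLE _ _ (𝔜.lvU_le h m V) ≫ (𝔜.lvU h m V).topIso.inv :=
      Scheme.Hom.resLE_app_top ..
    have h3 : ((K.k (m + 1)).appLE W ⊤ (hK (m + 1)) ≫
        (𝔜.lvU h (m + 1) V).topIso.hom) ≫ (𝔜.ι m).appLE _ _ (𝔜.lvU_le h m V) =
        (K.k m).appLE W ⊤ (hK m) ≫ (𝔜.lvU h m V).topIso.hom := by
      rw [← h1, h2]; simp only [Category.assoc, Iso.inv_hom_id, Category.comp_id]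
    exact ConcreteCategory.congr_hom h3 c
  let κ' : Spec (Sec 𝔜 h V) ⟶ P := Spec.map (CommRingCat.ofHom ψ) ≫ hW.fromSpec
  have hk : ∀ m, K.k m = jmap 𝔜 h m V ≫ κ' := fun m => by
    refine (eq_toSpecΓ_of_range _ _ hW (hK m)).trans ?_
    simp only [jmap, toSpecOf, κ', Category.assoc, ← Spec.map_comp_assoc]
    congr 3
    exact CommRingCat.hom_ext (RingHom.ext fun c => (hψ m c).symm)
  have hκ' : κ' ≫ q = Spec.map (CommRingCat.ofHom (rho 𝔜 h r hr V)) := by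
    have h1 : hW.fromSpec ≫ q = Spec.map ((Scheme.ΓSpecIso _).inv ≫ q.appLE ⊤ W le_top) := by
      rw [← IsAffineOpen.SpecMap_appLE_fromSpec q (isAffineOpen_top _) hW le_top, Spec.map_comp]
      congr 1
      rw [IsAffineOpen.fromSpec_top, Scheme.isoSpec_Spec_inv]
    rw [Category.assoc, h1, ← Spec.map_comp]
    congr 1
    refine CommRingCat.hom_ext (RingHom.ext fun a => sec_ext 𝔜 h fun m => ?_)
    have h2 : q.appLE ⊤ W le_top ≫ (K.k m).appLE W ⊤ (hK m) ≫ (𝔜.lvU h m V).topIso.hom =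
        (r m).appLE ⊤ (𝔜.lvU h m V) le_top := by
      rw [← Category.assoc,
        FSch.appLE_comp_appLE_of_eq _ q ((𝔜.lvU h m V).ι ≫ r m) (K.over_base m)
          ⊤ W ⊤ le_top (hK m) le_top]
      exact ι_comp_appLE_topIso _ _ _ _ _
    refine (hψ m _).trans ((ConcreteCategory.congr_hom h2 _).trans ?_)
    exact (proj_pull 𝔜 h r hr (le_top : V ≤ r 0 ⁻¹ᵁ ⊤) m _).symm
  rw [hk n, (existsUnique_kappa q 𝔜 h r hr 𝔞 hq hg).unique hκ hκ']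

include hq in
/-- Two families over an open with invertible centre agree. -/
theorem Fam.ext_of_locGen {V : (𝔜.X 0).Opens} (K K' : Fam q 𝔜 h r V) {g : Sec 𝔜 h V}
    (hg : IsLocGen 𝔜 h r hr 𝔞 V g) (n : ℕ) : K.k n = K'.k n := by
  refine Scheme.hom_ext_of_forall _ _ fun z => ?_
  obtain ⟨V₁, i₁, hx₁, W₁, hW₁, h₁⟩ := K.exists_inOpen (x := (𝔜.gInv h n).hom z.1) z.2
  obtain ⟨V₂, i₂, hx₂, W₂, hW₂, h₂⟩ := (K'.res i₁).exists_inOpen hx₁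
  obtain ⟨κ, hκ, -⟩ := existsUnique_kappa q 𝔜 h r hr 𝔞 hq ((hg.res i₁).res i₂)
  have e1 := Fam.eq_jmap q 𝔜 h r hr 𝔞 hq _ ((hg.res i₁).res i₂) hW₁ (h₁.res i₂) κ hκ n
  have e2 := Fam.eq_jmap q 𝔜 h r hr 𝔞 hq _ ((hg.res i₁).res i₂) hW₂ h₂ κ hκ n
  let U : (𝔜.lvU h n V).toScheme.Opens :=
    (𝔜.lvU h n V).ι ⁻¹ᵁ 𝔜.lvU h n V₂
  refine ⟨U, hx₂, ?_⟩
  have e3 := e1.trans e2.symm
  simp only [Fam.res, ← Category.assoc, Scheme.homOfLE_homOfLE] at e3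
  have e4 : (U.ι ≫ (𝔜.lvU h n V).ι).opensRange ≤ 𝔜.lvU h n V₂ := by
    rintro _ ⟨w, rfl⟩
    exact w.2
  let l : U.toScheme ⟶ (𝔜.lvU h n V₂).toScheme :=
    IsOpenImmersion.lift (𝔜.lvU h n V₂).ι (U.ι ≫ (𝔜.lvU h n V).ι) (by
      rw [Scheme.Opens.range_ι]; exact e4)
  have hl : l ≫ (𝔜.X n).homOfLE (FBlow.lvU_mono 𝔜 h n (i₂.trans i₁)) = U.ι := by
    rw [← cancel_mono (𝔜.lvU h n V).ι, Category.assoc, Scheme.homOfLE_ι, IsOpenImmersion.lift_fac]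
  rw [← hl, Category.assoc, Category.assoc, e3]

include hr hq in
/-- If `𝔞 · O_𝔜` is invertible, the family `Y n ⟶ Spec A` lifts uniquely to `P`. -/
theorem existsUnique_family (hinv : (centre 𝔜 h r hr 𝔞).IsInvertible) :
    ∃! k : ∀ n, 𝔜.X n ⟶ P, (∀ n, 𝔜.ι n ≫ k (n + 1) = k n) ∧ ∀ n, k n ≫ q = r n := by
  choose V g hxV hg using (isInvertible_centre_iff 𝔜 h r hr 𝔞).mp hinv
  choose κ hκ using fun x => (existsUnique_kappa q 𝔜 h r hr 𝔞 hq (hg x)).exists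
  let L : ∀ x, Fam q 𝔜 h r (V x) := fun x =>
    { k := fun n => jmap 𝔜 h n (V x) ≫ κ x
      compat := fun n => by rw [← Category.assoc, jmap_compat]
      over_base := fun n => by rw [Category.assoc, hκ, jmap_over_base] }
  have hcov : ∀ n, IsOpenCover fun x => 𝔜.lvU h n (V x) := fun n =>
    IsOpenCover.mk <| top_le_iff.mp fun z _ =>
      Opens.mem_iSup.mpr ⟨(𝔜.gInv h n).hom z, hxV _⟩
  let 𝒰 := fun n => (𝔜.X n).openCoverOfIsOpenCover _ (hcov n)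
  have hagree : ∀ n (x y : 𝔜.X 0),
      (𝔜.X n).homOfLE (inf_le_left : 𝔜.lvU h n (V x) ⊓ 𝔜.lvU h n (V y) ≤ _) ≫ (L x).k n =
      (𝔜.X n).homOfLE (inf_le_right : 𝔜.lvU h n (V x) ⊓ 𝔜.lvU h n (V y) ≤ _) ≫ (L y).k n :=
    fun n x y => Fam.ext_of_locGen q 𝔜 h r hr 𝔞 hq ((L x).res inf_le_left)
      ((L y).res (inf_le_right : V x ⊓ V y ≤ V y)) ((hg x).res inf_le_left) n
  have hexists : ∀ n, ∃ k : 𝔜.X n ⟶ P, ∀ x, (𝔜.lvU h n (V x)).ι ≫ k = (L x).k n := fun n => by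
    refine ⟨(𝒰 n).glueMorphisms (fun x => (L x).k n) fun (x y : 𝔜.X 0) => ?_, fun x => Scheme.Cover.ι_glueMorphisms (𝒰 n) _ _ x⟩
    have hp := isPullback_opens_inf (𝔜.lvU h n (V x)) (𝔜.lvU h n (V y))
    change pullback.fst (𝔜.lvU h n (V x)).ι (𝔜.lvU h n (V y)).ι ≫ (L x).k n = pullback.snd _ _ ≫ (L y).k n
    rw [← cancel_epi hp.isoPullback.hom, hp.isoPullback_hom_fst_assoc, hp.isoPullback_hom_snd_assoc]
    exact hagree n x y
  choose k hk using hexists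
  refine ⟨k, ⟨fun n => ?_, fun n => ?_⟩, fun k' hk' => funext fun n => ?_⟩
  · refine (𝒰 n).hom_ext _ _ fun (x : 𝔜.X 0) => ?_
    change (𝔜.lvU h n (V x)).ι ≫ 𝔜.ι n ≫ k (n + 1) = (𝔜.lvU h n (V x)).ι ≫ k n
    rw [hk, ← (L x).compat n, ← hk (n + 1) x, ← Category.assoc, ← Category.assoc,
      Scheme.Hom.resLE_comp_ι]
  · refine (𝒰 n).hom_ext _ _ fun (x : 𝔜.X 0) => ?_
    change (𝔜.lvU h n (V x)).ι ≫ k n ≫ q = (𝔜.lvU h n (V x)).ι ≫ r n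
    rw [← Category.assoc, hk, (L x).over_base]
  · refine (𝒰 n).hom_ext _ _ fun (x : 𝔜.X 0) => ?_
    change (𝔜.lvU h n (V x)).ι ≫ k' n = (𝔜.lvU h n (V x)).ι ≫ k n
    rw [hk]
    let K : Fam q 𝔜 h r (V x) :=
      { k := fun n => (𝔜.lvU h n (V x)).ι ≫ k' n
        compat := fun n => by rw [← Category.assoc, Scheme.Hom.resLE_comp_ι, Category.assoc, hk'.1]
        over_base := fun n => by rw [Category.assoc, hk'.2] }
    exact Fam.ext_of_locGen q 𝔜 h r hr 𝔞 hq K (L x) (hg x) n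

end Family

end Groth.Agent.FBlowLib
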