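import Groth.Agent.FBlowLib.Ideals
import Groth.Agent.ValTate.CLocTrunc
import Groth.Agent.FSchLib.Systems

/-!
# No torsion in the structure sheaf of the formal spectrum of an admissible algebra

`noTorsion_spf`: if `A` is admissible, a section of `O_{Spf A}` over any open killed by the images of the elements
of `I` is zero.
-/

universe u

open CategoryTheory CategoryTheory.Limits TopologicalSpace Opposite AlgebraicGeometry

namespace Groth.Agent.FBlowLib

/-- A compatible system of elements killed by `I` vanishes when the completion has no `I`-power torsion. -/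
theorem eq_zero_of_compatible {R L : Type u} [CommRing R] [CommRing L] [Algebra R L] (I : Ideal R)
    (hT : AdicRing.NoPowTorsion I (AdicCompletion (I.map (algebraMap R L)) L))
    (G : ℕ → Type u) [∀ n, CommRing (G n)] (φ : ∀ n, L →+* G n) (hφ : ∀ n, Function.Surjective (φ n))
    (hker : ∀ n, RingHom.ker (φ n) = (I.map (algebraMap R L)) ^ (n + 1))
    (τ : ∀ n, G (n + 1) →+* G n) (hτ : ∀ n, (τ n).comp (φ (n + 1)) = φ n)
    (s : ∀ n, G n) (hs : ∀ n, τ n (s (n + 1)) = s n)
    (hkill : ∀ n, ∀ a ∈ I, φ n (algebraMap R L a) * s n = 0) (n : ℕ) : s n = 0 := by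
  set K := I.map (algebraMap R L)
  have hmem : ∀ (k : ℕ) (y : L), y ∈ K ^ (k + 1) → y ∈ (K ^ k • ⊤ : Submodule L L) := fun k y hy => by
    rw [smul_eq_mul, Ideal.mul_top]
    exact Ideal.pow_le_pow_right (Nat.le_succ k) hy
  choose y hy using fun m => hφ m (s m)
  let f := AdicCompletion.AdicCauchySequence.mk K L y fun m => by
    rw [SModEq.sub_mem]
    refine hmem m _ ?_
    rw [← hker, RingHom.mem_ker, map_sub, hy, sub_eq_zero]
    rw [← hs m, ← hy (m + 1)]
    exact RingHom.congr_fun (hτ m) _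
  have hx : AdicCompletion.mk K L f = 0 := by
    refine hT _ 1 fun a ha => ?_
    rw [pow_one] at ha
    refine AdicCompletion.ext fun m => ?_
    rw [AdicCompletion.val_smul_apply, AdicCompletion.mk_apply_coe, AdicCompletion.val_zero,
      Submodule.mkQ_apply, ← Submodule.Quotient.mk_smul]
    refine (Submodule.Quotient.mk_eq_zero _).mpr (hmem m _ ?_)
    rw [← hker, RingHom.mem_ker, Algebra.smul_def, map_mul]
    exact (congrArg (φ m (algebraMap R L a) * ·) (hy m)).trans (hkill m a ha)
  have h1 := congrArg (fun z : AdicCompletion K L => z.val (n + 1)) hx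
  simp only [AdicCompletion.mk_apply_coe, AdicCompletion.val_zero, Pi.zero_apply, Submodule.mkQ_apply] at h1
  rw [Submodule.Quotient.mk_eq_zero, smul_eq_mul, Ideal.mul_top, ← hker, RingHom.mem_ker] at h1
  rw [← hs n, ← hy (n + 1)]
  exact (RingHom.congr_fun (hτ n) _).trans h1

variable {R : Type u} [CommRing R] (I : Ideal R) {A : Type u} [CommRing A] [Algebra R A]

theorem map_map_of_comp {L G G₀ : Type u} [CommRing L] [CommRing G] [CommRing G₀] [Algebra R L] [Algebra A L]
    [IsScalarTower R A L] (φ : L →+* G) (γ : A →+* G₀) (ψ : G₀ →+* G)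
    (h : ∀ x, φ (algebraMap A L x) = ψ (γ x)) :
    (I.map (algebraMap R L)).map φ = ((I.map (algebraMap R A)).map γ).map ψ := by
  rw [IsScalarTower.algebraMap_eq R A L, Ideal.map_map, Ideal.map_map, Ideal.map_map]
  congr 1
  exact RingHom.ext fun a => h (algebraMap R A a)

theorem noPowTorsion_cLoc (hR : AdicRing.IsBase R I) (hA : AdicRing.Admissible R I A) (g : A) :
    AdicRing.NoPowTorsion I (AdicRing.CLoc I g) := by
  obtain ⟨⟨n, φ, hφ, -⟩, hT⟩ := hA
  exact (ValTate.noPowTorsion_iff_forall_cLoc hR ⟨n, φ, hφ⟩ ![g, 1]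
    ((Ideal.eq_top_iff_one _).mpr (Ideal.subset_span ⟨1, rfl⟩))).mp hT 0

variable (hF : (FSch.spf A (I.map (algebraMap R A))).IsFormal)

set_option maxHeartbeats 1000000 in
/-- A section of `O_{Spf A}`, `A` admissible, killed by `I` is zero. -/
theorem noTorsion_spf (hR : AdicRing.IsBase R I) (hA : AdicRing.Admissible R I A)
    {U : ((FSch.spf A (I.map (algebraMap R A))).X 0).Opens}
    (s : Sec (FSch.spf A (I.map (algebraMap R A))) hF U)
    (hs : ∀ a ∈ I, rho (FSch.spf A (I.map (algebraMap R A))) hF (FSch.spfToSpec A (I.map (algebraMap R A)))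
      (FSch.spfToSpec_comm A (I.map (algebraMap R A))) U (algebraMap R A a) * s = 0) : s = 0 := by
  haveI hcl : ∀ n, IsClosedImmersion (FSch.spfToSpec A (I.map (algebraMap R A)) n) := fun n =>
    IsClosedImmersion.spec_of_surjective _ Ideal.Quotient.mk_surjective
  refine TopCat.Sheaf.eq_of_locally_eq' ((FSch.spf A (I.map (algebraMap R A))).Osh hF) (fun W : {W : ((FSch.spf A (I.map (algebraMap R A))).X 0).Opens //
      W ≤ U ∧ ∃ g : A, W = FSch.spfToSpec A (I.map (algebraMap R A)) 0 ⁻¹ᵁ (PrimeSpectrum.basicOpen g)} => W.1) U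
    (fun W => homOfLE W.2.1) (fun z hz => ?_) s 0 ?_
  · obtain ⟨O', hO', hO''⟩ := (FSch.spfToSpec A (I.map (algebraMap R A)) 0).isClosedEmbedding.isEmbedding.isInducing.isOpen_iff.mp U.isOpen
    have hz' : (FSch.spfToSpec A (I.map (algebraMap R A)) 0).base z ∈ O' := by
      have h1 : z ∈ (U : Set _) := hz
      rw [← hO''] at h1; exact h1
    obtain ⟨_, ⟨g, rfl⟩, hg, hgO⟩ :=
      PrimeSpectrum.isTopologicalBasis_basic_opens.exists_subset_of_mem_open hz' hO'
    refine Opens.mem_iSup.mpr ⟨⟨FSch.spfToSpec A (I.map (algebraMap R A)) 0 ⁻¹ᵁ (PrimeSpectrum.basicOpen g), fun w hw => ?_, g, rfl⟩, hg⟩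
    change w ∈ (U : Set _)
    rw [← hO'']
    exact hgO hw
  rintro ⟨W, hW, g, rfl⟩
  refine Eq.trans ?_ (map_zero (((FSch.spf A (I.map (algebraMap R A))).Osh hF).obj.map (homOfLE hW).op).hom).symm
  set V := FSch.spfToSpec A (I.map (algebraMap R A)) 0 ⁻¹ᵁ (PrimeSpectrum.basicOpen g)
  set t := res (FSch.spf A (I.map (algebraMap R A))) hF hW s with ht
  change t = 0
  have htk : ∀ a ∈ I, rho (FSch.spf A (I.map (algebraMap R A))) hF (FSch.spfToSpec A (I.map (algebraMap R A))) (FSch.spfToSpec_comm A (I.map (algebraMap R A))) V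
      (algebraMap R A a) * t = 0 := fun a ha => by
    have h1 := congrArg (res (FSch.spf A (I.map (algebraMap R A))) hF hW) (hs a ha)
    rwa [map_mul, res_rho, map_zero] at h1
  let P := Spec (CommRingCat.of A)
  let γ : A ≃+* Γ(P, ⊤) := (Scheme.ΓSpecIso (CommRingCat.of A)).commRingCatIsoToRingEquiv.symm
  have hD : P.basicOpen (γ g) = PrimeSpectrum.basicOpen g := AlgebraicGeometry.basicOpen_eq_of_affine _
  let D : P.affineOpens := ⟨P.basicOpen (γ g), (isAffineOpen_top P).basicOpen _⟩
  haveI : IsLocalization.Away (γ g) Γ(P, D.1) := (isAffineOpen_top P).isLocalization_basicOpen (γ g)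
  have hpow : (Submonoid.powers g).map γ.toMonoidHom = Submonoid.powers (γ g) := by
    rw [Submonoid.map_powers]; rfl
  let e : Localization.Away g ≃+* Γ(P, D.1) :=
    IsLocalization.ringEquivOfRingEquiv (Localization.Away g) Γ(P, D.1) γ hpow
  have he : ∀ x : A, e (algebraMap A _ x) = P.presheaf.map (homOfLE (P.basicOpen_le (γ g))).op (γ x) :=
    fun x => IsLocalization.ringEquivOfRingEquiv_eq hpow x
  have hlv : ∀ n, (FSch.spfToSpec A (I.map (algebraMap R A)) n) ⁻¹ᵁ D.1 = (FSch.spf A (I.map (algebraMap R A))).lvU hF n V := fun n => by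
    rw [FSch.lvU_p (FSch.spf A (I.map (algebraMap R A))) hF (FSch.spfToSpec A (I.map (algebraMap R A))) (FSch.spfToSpec_comm A (I.map (algebraMap R A))) n]
    change (FSch.spf A (I.map (algebraMap R A))).lvU hF n (FSch.spfToSpec A (I.map (algebraMap R A)) 0 ⁻¹ᵁ P.basicOpen (γ g)) = _
    rw [hD]
  let α : ∀ n, Γ(P, D.1) ⟶ Γ((FSch.spf A (I.map (algebraMap R A))).X n, (FSch.spf A (I.map (algebraMap R A))).lvU hF n V) := fun n =>
    (FSch.spfToSpec A (I.map (algebraMap R A)) n).appLE D.1 _ (hlv n).ge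
  have hiso : ∀ n, IsIso (((FSch.spf A (I.map (algebraMap R A))).X n).presheaf.map (homOfLE (hlv n).ge).op) := fun n => by
    rw [show (homOfLE (hlv n).ge) = eqToHom (hlv n).symm from Subsingleton.elim _ _]
    infer_instance
  let φ : ∀ n, Localization.Away g →+* Γ((FSch.spf A (I.map (algebraMap R A))).X n, (FSch.spf A (I.map (algebraMap R A))).lvU hF n V) := fun n =>
    (α n).hom.comp e.toRingHom
  refine sec_ext (FSch.spf A (I.map (algebraMap R A))) hF fun n => (Eq.trans ?_ (map_zero _).symm)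
  refine eq_zero_of_compatible (L := Localization.Away g) I (noPowTorsion_cLoc I hR hA g)
    (fun n => Γ((FSch.spf A (I.map (algebraMap R A))).X n, (FSch.spf A (I.map (algebraMap R A))).lvU hF n V)) φ (fun m => ?_) (fun m => ?_)
    (fun m => (((FSch.spf A (I.map (algebraMap R A))).ι m).appLE _ _ ((FSch.spf A (I.map (algebraMap R A))).lvU_le hF m V)).hom) (fun m => ?_)
    (fun m => proj (FSch.spf A (I.map (algebraMap R A))) hF m V t) (fun m => proj_succ _ hF m V t) (fun m a ha => ?_) n
  · haveI := hiso m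
    intro y
    obtain ⟨z, rfl⟩ := (ConcreteCategory.bijective_of_isIso
      (((FSch.spf A (I.map (algebraMap R A))).X m).presheaf.map (homOfLE (hlv m).ge).op)).2 y
    obtain ⟨w, rfl⟩ := (FSch.spfToSpec A (I.map (algebraMap R A)) m).app_surjective D.1 D.2 z
    exact ⟨e.symm w, congrArg (α m).hom (e.apply_symm_apply w)⟩
  · haveI := hiso m
    have h1 : RingHom.ker (α m).hom = (FSch.idealSpec A (I.map (algebraMap R A))).ideal D ^ (m + 1) := by
      refine (RingHom.ker_comp_of_injective _ (ConcreteCategory.bijective_of_isIso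
        (((FSch.spf A (I.map (algebraMap R A))).X m).presheaf.map (homOfLE (hlv m).ge).op)).1).trans ?_
      refine ((Scheme.Hom.ker_apply (FSch.spfToSpec A (I.map (algebraMap R A)) m) D).symm).trans ?_
      refine (congrArg (fun K => Scheme.IdealSheafData.ideal K D) (FSchLib.ker_specQuot A (I.map (algebraMap R A)) m)).trans ?_
      rw [Scheme.IdealSheafData.ideal_pow, Pi.pow_apply]
    have h2 : (I.map (algebraMap R (Localization.Away g))).map e.toRingHom = (FSch.idealSpec A (I.map (algebraMap R A))).ideal D := by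
      rw [← (FSch.idealSpec A (I.map (algebraMap R A))).map_ideal (U := D) (V := ⟨⊤, isAffineOpen_top P⟩) (show D.1 ≤ (⊤ : P.Opens) from le_top),
        FSchLib.idealSpec_ideal_top]
      exact (map_map_of_comp I e.toRingHom _ _ fun x => he x)
    change Ideal.comap e.toRingHom (RingHom.ker (α m).hom) = _
    rw [h1, ← h2, ← Ideal.map_pow]
    exact Ideal.comap_map_of_bijective _ e.bijective
  · refine RingHom.ext fun x => ?_
    change ((FSch.spfToSpec A (I.map (algebraMap R A)) (m + 1)).appLE D.1 _ (hlv (m + 1)).ge ≫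
      ((FSch.spf A (I.map (algebraMap R A))).ι m).appLE _ _ ((FSch.spf A (I.map (algebraMap R A))).lvU_le hF m V)) (e x) = _
    rw [FSch.appLE_comp_appLE_of_eq _ _ _ (FSch.spfToSpec_comm A (I.map (algebraMap R A)) m) _ _ _ _ _ (hlv m).ge]
    rfl
  · have h1 := congrArg (proj (FSch.spf A (I.map (algebraMap R A))) hF m V) (htk a ha)
    rw [map_mul, map_zero] at h1
    refine Eq.trans ?_ h1
    congr 1
    change (α m).hom (e (algebraMap R (Localization.Away g) a)) = _
    rw [IsScalarTower.algebraMap_apply R A (Localization.Away g), he]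
    refine Eq.trans ?_ (proj_pull (FSch.spf A (I.map (algebraMap R A))) hF (FSch.spfToSpec A (I.map (algebraMap R A))) (FSch.spfToSpec_comm A (I.map (algebraMap R A)))
      (le_top : V ≤ FSch.spfToSpec A (I.map (algebraMap R A)) 0 ⁻¹ᵁ ⊤) m ((Scheme.ΓSpecIso (CommRingCat.of A)).inv (algebraMap R A a))).symm
    change (P.presheaf.map (homOfLE (P.basicOpen_le (γ g))).op ≫ α m) (γ (algebraMap R A a)) = _
    simp only [α]
    rw [Scheme.Hom.map_appLE]
    rfl

end Groth.Agent.FBlowLib
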