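import Groth.Agent.FBlowLib.CohMap
import Groth.Agent.FBlowLib.ChartMap
import Groth.Agent.AdicRing.RigBase
import Groth.Agent.ValTate.CLocTrunc
import Mathlib.AlgebraicGeometry.Morphisms.Flat

/-!
# No torsion for systems levelwise flat over an admissible formal scheme

`noTorsion_of_flat_levels`: if `f : 𝔜 ⟶ 𝔛` is adic with flat levels and `𝔛` is admissible over `Spf R`, then
`O_𝔜` has no torsion for the ideal of definition.
-/

universe u

open CategoryTheory CategoryTheory.Limits TopologicalSpace Opposite AlgebraicGeometry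
open scoped TensorProduct

namespace Groth.Agent.FBlowLib

/-- Elements almost killed by `I` modulo a power of `I` lie in a slightly smaller power. -/
theorem exists_ann_bound {R : Type u} [CommRing R] {I : Ideal R} (hR : AdicRing.IsBase R I) {A : Type u}
    [CommRing A] [Algebra R A] (hA : AdicRing.Admissible R I A) :
    ∃ c : ℕ, ∀ (k : ℕ) (x : A), (∀ a ∈ I, algebraMap R A a * x ∈ (I.map (algebraMap R A)) ^ (k + c)) →
      x ∈ (I.map (algebraMap R A)) ^ k := by
  obtain ⟨⟨n, φ, hφ, -⟩, hT⟩ := hA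
  have hI := ValTate.isBase_fg hR
  set J := I.map (algebraMap R A)
  have ht : ValTate.Tame J := ValTate.tame_of_topFiniteType I hR ⟨n, φ, hφ⟩
  obtain ⟨s, a, ha⟩ := Submodule.fg_iff_exists_fin_generating_family.1 hI
  let L : A →ₗ[A] (Fin s → A) := LinearMap.pi fun j => algebraMap R A (a j) • LinearMap.id
  have hL : ∀ x j, L x j = algebraMap R A (a j) * x := fun x j => rfl
  have hinj : Function.Injective L := (injective_iff_map_eq_zero _).2 fun x hx => hT x 1 fun b hb => by
    rw [pow_one, ← ha] at hb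
    induction hb using Submodule.span_induction with
    | mem b hb =>
      obtain ⟨j, rfl⟩ := hb
      rw [Algebra.smul_def, ← hL, hx, Pi.zero_apply]
    | zero => exact zero_smul R x
    | add b d _ _ hb hd => rw [add_smul, hb, hd, add_zero]
    | smul d b _ hb => rw [smul_assoc, hb, smul_zero]
  obtain ⟨c, hc⟩ := ht.exists_artinRees (LinearMap.range L)
  refine ⟨c, fun k x hx => ?_⟩
  have h1 : L x ∈ (J ^ (k + c) • ⊤ : Submodule A (Fin s → A)) := by
    rw [pi_eq_sum_univ (L x)]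
    exact Submodule.sum_mem _ fun j _ =>
      Submodule.smul_mem_smul (hx (a j) (ha ▸ Submodule.subset_span ⟨j, rfl⟩)) trivial
  have h2 := hc k ⟨h1, x, rfl⟩
  rw [LinearMap.range_eq_map, ← Submodule.map_smul''] at h2
  obtain ⟨y, hy, hyx⟩ := h2
  rw [hinj hyx] at hy
  simpa using hy

/-- Over a flat algebra, what is killed by some scalars comes from what is killed by them in the base. -/
theorem map_eq_zero_of_flat_kill {C D E : Type u} [CommRing C] [CommRing D] [CommRing E] [Algebra C D]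
    [Module.Flat C D] (τ : D →+* E) {s : ℕ} (a : Fin s → C)
    (hK : ∀ x : C, (∀ j, a j * x = 0) → τ (algebraMap C D x) = 0)
    (d : D) (hd : ∀ j, algebraMap C D (a j) * d = 0) : τ d = 0 := by
  let L : C →ₗ[C] (Fin s → C) := LinearMap.pi fun j => a j • LinearMap.id
  have h0 : L.lTensor D (d ⊗ₜ[C] (1 : C)) = 0 := by
    refine (TensorProduct.piScalarRight C C D (Fin s)).injective ?_
    rw [LinearMap.lTensor_tmul, map_zero]
    funext j
    simp only [L, TensorProduct.piScalarRight_apply, TensorProduct.piScalarRightHom_tmul, LinearMap.pi_apply,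
      LinearMap.smul_apply, LinearMap.id_apply, Pi.zero_apply, smul_eq_mul, mul_one]
    rw [Algebra.smul_def]
    exact hd j
  obtain ⟨w, hw⟩ := (Module.Flat.lTensor_exact D (LinearMap.exact_subtype_ker_map L) _).1 h0
  have key : ∀ w : D ⊗[C] LinearMap.ker L, τ (TensorProduct.rid C D ((LinearMap.ker L).subtype.lTensor D w)) = 0 := by
    intro w
    induction w using TensorProduct.induction_on with
    | zero => simp
    | tmul m x =>
      rw [LinearMap.lTensor_tmul, TensorProduct.rid_tmul, Algebra.smul_def, map_mul]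
      rw [show τ (algebraMap C D ((LinearMap.ker L).subtype x)) = 0 from
        hK _ fun j => congrFun (LinearMap.mem_ker.mp x.2) j, zero_mul]
    | add u v hu hv => rw [map_add, map_add, map_add, hu, hv, add_zero]
  have h1 := key w
  rw [hw, TensorProduct.rid_tmul, one_smul] at h1
  exact h1

/-- Flatness passes to compatible surjective images cut out by extended ideals. -/
theorem flat_of_surjective_square {A B C D : Type u} [CommRing A] [CommRing B] [CommRing C] [CommRing D]
    (ψ : A →+* B) (hψ : ψ.Flat) (πA : A →+* C) (hA : Function.Surjective πA) (πB : B →+* D)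
    (hB : Function.Surjective πB) (hker : RingHom.ker πB = (RingHom.ker πA).map ψ)
    (γ : C →+* D) (hγ : γ.comp πA = πB.comp ψ) : γ.Flat := by
  letI : Algebra A B := ψ.toAlgebra
  haveI : Module.Flat A B := hψ
  have h1 := AdicRing.flat_quotientMap_of_eq (S := A) (L := B) (RingHom.ker πA) (RingHom.ker πB) hker.symm
  let eA := RingHom.quotientKerEquivOfSurjective hA
  let eB := RingHom.quotientKerEquivOfSurjective hB
  have h2 : γ = eB.toRingHom.comp ((Ideal.quotientMap (RingHom.ker πB) (algebraMap A B)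
      (Ideal.map_le_iff_le_comap.1 hker.symm.le)).comp eA.symm.toRingHom) := by
    refine RingHom.ext fun c => ?_
    obtain ⟨x, rfl⟩ := hA c
    have h3 : eA.symm (πA x) = Ideal.Quotient.mk _ x := eA.injective (by rw [RingEquiv.apply_symm_apply]; rfl)
    exact (RingHom.congr_fun hγ x).trans (by
      simp only [RingHom.comp_apply, RingEquiv.toRingHom_eq_coe, RingHom.coe_coe]
      rw [h3]
      rfl)
  rw [h2]
  exact RingHom.Flat.comp (RingHom.Flat.comp (RingHom.Flat.of_bijective eA.symm.bijective) h1)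
    (RingHom.Flat.of_bijective eB.bijective)

variable {𝔛 𝔜 : FSch.Sys.{u}} (h : 𝔛.IsFormal) (h' : 𝔜.IsFormal) {R : Type u} [CommRing R] {I : Ideal R}
  (p : 𝔛 ⟶ FSch.spf R I) (f : 𝔜 ⟶ 𝔛)

theorem noTorsion_of_flat_levels (hR : AdicRing.IsBase R I) (hp : FSch.IsAdicHom p)
    (hfp : ∀ n, LocallyOfFinitePresentation ((p : FSch.Hom 𝔛 (FSch.spf R I)).app n))
    (htf : ∀ (U : (𝔛.X 0).Opens) (s : (𝔛.Osh h).obj.obj (Opposite.op U)),
      (∀ a ∈ (FBlow.IdealSh.ker (𝔛.OshProj h 0)).sect U, a * s = 0) → s = 0)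
    (hf : FSch.IsAdicHom f) (hflat : ∀ n, Flat ((f : FSch.Hom 𝔜 𝔛).app n))
    (U : (𝔜.X 0).Opens) (s : (𝔜.Osh h').obj.obj (Opposite.op U))
    (hs : ∀ a ∈ (FBlow.IdealSh.ker (𝔜.OshProj h' 0)).sect U, a * s = 0) : s = 0 := by
  refine (Ideal.mem_bot).mp ((FBlow.IdealSh.bot (𝔜.Osh h')).mem_of_local fun z hz => ?_)
  obtain ⟨V, hV, hzV, -⟩ := Opens.isBasis_iff_nbhd.mp (𝔛.X 0).isBasis_affineOpens
    (show ((f : FSch.Hom 𝔜 𝔛).app 0).base z ∈ (⊤ : (𝔛.X 0).Opens) from trivial)
  obtain ⟨W, hW, hzW, hWle⟩ := Opens.isBasis_iff_nbhd.mp (𝔜.X 0).isBasis_affineOpens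
    (show z ∈ U ⊓ (f : FSch.Hom 𝔜 𝔛).app 0 ⁻¹ᵁ V from ⟨hz, hzV⟩)
  refine ⟨W, hWle.trans inf_le_left, hzW, (Ideal.mem_bot).mpr ?_⟩
  set t := res 𝔜 h' (hWle.trans inf_le_left) s
  change t = 0
  have hI := ValTate.isBase_fg hR
  obtain ⟨-, hppV, -⟩ := proj_props h p hV hp hI
  obtain ⟨-, hppW, -⟩ := proj_props h' (f ≫ p) hW (isAdicHom_comp hf hp) hI
  letI : Algebra R (Sec 𝔛 h V) := (baseHom h p V).toAlgebra
  obtain ⟨c, hc⟩ := exists_ann_bound hR (A := Sec 𝔛 h V)
    ⟨topFinitePresentation_sec h p hV hp hI hfp hR, noPowTorsion_sec h p hV hp hI htf⟩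
  have hkill : ∀ a ∈ I, baseHom h' (f ≫ p) W a * t = 0 := fun a ha => by
    have hmem : baseHom h' (f ≫ p) U a ∈ (FBlow.IdealSh.ker (𝔜.OshProj h' 0)).sect U := by
      refine RingHom.mem_ker.mpr ?_
      exact proj_rho_eq_zero I 𝔜 h' (f ≫ p) (rS (f ≫ p)) (rS_comm (f ≫ p)) (fun _ => rfl) 0 U
        (by rwa [zero_add, pow_one])
    have h1 := congrArg (res 𝔜 h' (hWle.trans inf_le_left)) (hs _ hmem)
    rwa [map_mul, map_zero, res_baseHom] at h1
  refine sec_ext 𝔜 h' fun n => (Eq.trans ?_ (map_zero _).symm)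
  obtain ⟨sg, a, ha⟩ := Submodule.fg_iff_exists_fin_generating_family.1 hI
  let e := hWle.trans inf_le_right
  let C := Γ(𝔛.X (n + c), 𝔛.lvU h (n + c) V)
  let D := Γ(𝔜.X (n + c), 𝔜.lvU h' (n + c) W)
  let γ : C →+* D := (((f : FSch.Hom 𝔜 𝔛).app (n + c)).appLE _ _ (lvU_le_hom h f h' e (n + c))).hom
  letI : Algebra C D := γ.toAlgebra
  haveI : Module.Flat C D := by
    haveI := hflat (n + c)
    exact ((f : FSch.Hom 𝔜 𝔛).app (n + c)).flat_appLE (isAffineOpen_lvU h _ hV) (isAffineOpen_lvU h' _ hW) _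
  have hle : RingHom.ker (proj 𝔜 h' (n + c) W) ≤ RingHom.ker (proj 𝔜 h' n W) := by
    rw [(hppW (n + c)).2, (hppW n).2]
    exact Ideal.map_mono (Ideal.pow_le_pow_right (by omega))
  let τ : D →+* Γ(𝔜.X n, 𝔜.lvU h' n W) :=
    RingHom.liftOfSurjective _ (hppW (n + c)).1 ⟨proj 𝔜 h' n W, hle⟩
  have hτ : ∀ x, τ (proj 𝔜 h' (n + c) W x) = proj 𝔜 h' n W x := fun x =>
    RingHom.liftOfRightInverse_comp_apply _ _ _ _ x
  rw [← hτ]
  refine map_eq_zero_of_flat_kill τ (fun j => proj 𝔛 h (n + c) V (baseHom h p V (a j))) (fun x hx => ?_) _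
    fun j => ?_
  · obtain ⟨x, rfl⟩ := (hppV (n + c)).1 x
    have hx' : x ∈ (I.map (baseHom h p V)) ^ (n + 1) := by
      refine hc (n + 1) x fun b hb => ?_
      rw [← ha] at hb
      induction hb using Submodule.span_induction with
      | mem b hb =>
        obtain ⟨j, rfl⟩ := hb
        have h2 := hx j
        rw [← map_mul, ← RingHom.mem_ker, (hppV (n + c)).2, Ideal.map_pow,
          show n + c + 1 = n + 1 + c by omega] at h2
        exact h2
      | zero => rw [map_zero, zero_mul]; exact Ideal.zero_mem _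
      | add b d _ _ hb hd => rw [map_add, add_mul]; exact Ideal.add_mem _ hb hd
      | smul d b _ hb => rw [smul_eq_mul, map_mul, mul_assoc]; exact Ideal.mul_mem_left _ _ hb
    change τ (γ (proj 𝔛 h (n + c) V x)) = 0
    have h3 : γ (proj 𝔛 h (n + c) V x) = proj 𝔜 h' (n + c) W (hpull h f h' e x) :=
      (proj_hpull h f h' e (n + c) x).symm
    rw [h3, hτ, proj_hpull]
    have h4 : proj 𝔛 h n V x = 0 := by
      rw [← RingHom.mem_ker, (hppV n).2, Ideal.map_pow]; exact hx'
    rw [h4, map_zero]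
  · change γ (proj 𝔛 h (n + c) V (baseHom h p V (a j))) * _ = 0
    have h3 : γ (proj 𝔛 h (n + c) V (baseHom h p V (a j))) =
        proj 𝔜 h' (n + c) W (hpull h f h' e (baseHom h p V (a j))) :=
      (proj_hpull h f h' e (n + c) _).symm
    rw [h3, hpull_baseHom h h' p f e, ← map_mul, hkill (a j) (ha ▸ Submodule.subset_span ⟨j, rfl⟩), map_zero]

end Groth.Agent.FBlowLib
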